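import Cfsg.Agent.Lib.KnownB.SzElem
import Cfsg.Agent.Lib.KnownB.SuzukiBasic
import Cfsg.Agent.Lib.KGroups.AbelianTwo.Basic
import Cfsg.Agent.Lib.Classical.SLBasic
import Cfsg.Agent.Lib.Classical.SL2Fours
import Mathlib.Algebra.CharP.Two

/-!
# Facts about the models used for mixed groups

Kept apart from the Chevalley data so that the closure of the users stays small.
-/

set_option autoImplicit false
set_option linter.unusedSectionVars false

namespace CfsgLib.Recognition.SparseOrders

open CfsgLib.KGroups.AbelianTwo Matrix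
open scoped MatrixGroups

variable {F : Type} [Field F] [Fintype F] [CharP F 2]

theorem center_sl2_two_bot : Subgroup.center SL(2, F) = ⊥ := by
  refine (Subgroup.eq_bot_iff_forall _).2 fun z hz => ?_
  have e : (-1 : SL(2, F)) = 1 := Subtype.ext (by
    ext i j; fin_cases i <;> fin_cases j <;> simp [CharTwo.neg_eq])
  rcases CfsgLib.Classical.sl2_center_eq hz with rfl | rfl
  · rfl
  · exact e

open CfsgLib.KnownB.SzElem CfsgLib.KnownB.Suzuki in
/-- A Suzuki group has a nonabelian Sylow 2-subgroup. -/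
theorem not_abTwo_suzuki {m : ℕ} (hm : 1 ≤ m) (hK : Fintype.card F = 2 ^ (2 * m + 1))
    (h : AbTwo ↥(Cfsg.Lie.Sz F (2 ^ (m + 1)))) : False := by
  have he := twist_of_card hK
  obtain ⟨a, ha⟩ : ∃ a : F, a ^ 2 ^ (m + 1) + a ≠ 0 := by
    by_contra hall
    push Not at hall
    have hid : ∀ a : F, a * (a + 1) = 0 := fun a => by
      have e : a ^ 2 ^ (m + 1) = a := CharTwo.add_eq_zero.1 (hall a)
      have := he.pow_pow a
      rw [e, e] at this
      linear_combination -this + CharTwo.two_eq_zero (R := F) * a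
    classical
    have hle : (Finset.univ : Finset F).card ≤ ({0, 1} : Finset F).card := by
      refine Finset.card_le_card fun a _ => ?_
      rcases mul_eq_zero.1 (hid a) with rfl | h1
      · simp
      · simp [CharTwo.add_eq_zero.1 h1]
    rw [Finset.card_univ, hK] at hle
    have h8 : 8 ≤ 2 ^ (2 * m + 1) := le_trans (by norm_num) (Nat.pow_le_pow_right two_pos (show 3 ≤ 2 * m + 1 by omega))
    have := Finset.card_le_two (a := (0 : F)) (b := 1)
    omega
  have hx4 : ∀ c : F, P he c 0 ^ 2 ^ 2 = 1 := fun c => by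
    rw [show ∀ g : ↥(Cfsg.Lie.Sz F (2 ^ (m + 1))), g ^ 2 ^ 2 = g * g * (g * g) from fun g => by
      simp [pow_succ, mul_assoc], P_mul, P_mul, ← P_zero he]
    congr 1 <;> simp [CharTwo.add_self_eq_zero, zero_pow (Nat.pos_iff_ne_zero.1 (Nat.two_pow_pos _))]
  set z : F := a ^ 2 ^ (m + 1) + a
  have hc2 : P he 0 z ^ 2 ^ 1 = 1 := by
    rw [pow_one, sq, P_mul, ← P_zero he]
    congr 1 <;> simp [CharTwo.add_self_eq_zero, zero_pow (Nat.pos_iff_ne_zero.1 (Nat.two_pow_pos _))]
  have hcen : ∀ c d : F, Commute (P he 0 z) (P he c d) := fun c d => by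
    show P he 0 z * P he c d = P he c d * P he 0 z
    rw [P_mul, P_mul]
    congr 1 <;> simp [zero_pow (Nat.pos_iff_ne_zero.1 (Nat.two_pow_pos _)), add_comm]
  have h1 : P he 0 z = 1 := h.commutator_eq_one (hx4 1) (hx4 a) hc2 (hcen 1 0) (hcen a 0) (by
    rw [mul_inv_eq_iff_eq_mul, P_mul, P_mul, P_mul]
    congr 1
    · ring
    · simp only [z, zero_pow (Nat.pos_iff_ne_zero.1 (Nat.two_pow_pos (m + 1))), one_pow, zero_add, mul_one, add_zero]
      linear_combination (-a) * CharTwo.two_eq_zero (R := F))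
  rw [← P_zero he] at h1
  exact ha (P_injective he h1).2

end CfsgLib.Recognition.SparseOrders
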