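import Cfsg.Agent.Lib.Recognition.SparseOrders.Klein
import Cfsg.Agent.Lib.KGroups.AbelianTwo.Linear
import Cfsg.Agent.Lib.Recognition.SparseOrders.Models
import Cfsg.Agent.Lib.Perm.ZGroup.Simple
import Cfsg.Agent.S0508
import Cfsg.Agent.S0217
import Cfsg.Agent.S2798
import Cfsg.Agent.S3278

/-!
# Two-dimensional linear groups from the Sylow 2-subgroup of a mixed group

A Sylow 2-subgroup is elementary abelian.  A four-group gives the centraliser hypotheses of the
dihedral recognition, or the alternating group of degree five; from rank three on the signalizer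
functor `a ↦ O(C(a))` gives a strongly embedded subgroup, so Bender's theorem applies.
-/

set_option autoImplicit false
set_option linter.style.haveILetI false
set_option linter.unusedSectionVars false

namespace CfsgLib.Recognition.SparseOrders

open Subgroup

universe u

variable {G : Type u} [Group G] [Finite G] {r : ℕ}

theorem RMixed.sylow_sq (hm : RMixed G r) {S : Subgroup G} (hS : IsPGroup 2 S) {a : G} (ha : a ∈ S) :
    a * a = 1 := by
  haveI : Fact (Nat.Prime 2) := ⟨Nat.prime_two⟩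
  obtain ⟨k, hk⟩ := IsPGroup.exists_orderOf_eq_pow hS ⟨a, ha⟩
  rw [Subgroup.orderOf_mk] at hk
  exact hm.sq_of_two hk

theorem RMixed.sylow_comm (hm : RMixed G r) {S : Subgroup G} (hS : IsPGroup 2 S) {a b : G}
    (ha : a ∈ S) (hb : b ∈ S) : a * b = b * a := by
  have h1 := hm.sylow_sq hS ha
  have h2 := hm.sylow_sq hS hb
  have h3 := hm.sylow_sq hS (mul_mem ha hb)
  calc a * b = a * b * (a * b * (a * b))⁻¹ := by rw [h3, inv_one, mul_one]
    _ = b⁻¹ * a⁻¹ := by group
    _ = b * a := by rw [inv_eq_of_mul_eq_one_right h2, inv_eq_of_mul_eq_one_right h1]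

theorem RMixed.orderOf_two (hm : RMixed G r) {S : Subgroup G} (hS : IsPGroup 2 S) {a : G}
    (ha : a ∈ S) (ha1 : a ≠ 1) : orderOf a = 2 :=
  orderOf_eq_prime (by rw [pow_two]; exact hm.sylow_sq hS ha) ha1

/-- The centraliser of an involution is solvable. -/
theorem RMixed.solvable_centralizer (hm : RMixed G r) {a : G} (ha : orderOf a = 2) :
    Group.IsSolvable (centralizer ({a} : Set G)) := by
  refine CfsgLib.ClassSizeNM.isSolvable_of_two_primes Nat.prime_two hm.prime
    fun s hs hs2 hsr y hy => ?_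
  obtain ⟨k, hk⟩ := hy
  rcases k with _ | k
  · rw [orderOf_eq_one_iff.1 (hk.trans (pow_zero s))]; exact one_mem _
  exfalso
  have hyo : Odd (orderOf (y : G)) := by
    rw [Subgroup.orderOf_coe, hk]; exact (hs.odd_of_ne_two hs2).pow
  have hd := orderOf_dvd_of_pow_eq_one (hm.pow_of_commute_two ha hyo
    (show Commute a (y : G) from (mem_centralizer_singleton_iff.1 y.2).symm))
  rw [Subgroup.orderOf_coe, hk] at hd
  exact hsr ((Nat.prime_dvd_prime_iff_eq hs hm.prime).1 ((dvd_pow_self s k.succ_ne_zero).trans hd))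

theorem pPrimeCore_quotient_eq_bot (X : Type*) [Group X] [Finite X] :
    Cfsg.pPrimeCore 2 (X ⧸ Cfsg.pPrimeCore 2 X) = ⊥ := by
  set Y₀ := Cfsg.pPrimeCore 2 X
  let q : X →* X ⧸ Y₀ := QuotientGroup.mk' Y₀
  set W := Cfsg.pPrimeCore 2 (X ⧸ Y₀)
  have hle : W.comap q ≤ Y₀ := by
    refine CfsgLib.Solvable.Cores.le_pPrimeCore ?_
    rw [CfsgLib.Solvable.Basic.card_comap_mk Y₀ W]
    exact (CfsgLib.Solvable.Cores.coprime_card_pPrimeCore 2).mul_left
      (CfsgLib.Solvable.Cores.coprime_card_pPrimeCore 2)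
  rw [← map_comap_eq_self_of_surjective (QuotientGroup.mk'_surjective Y₀) W, Subgroup.map_eq_bot_iff,
    QuotientGroup.ker_mk']
  exact hle

/-- Modulo the odd core of a solvable group an abelian Sylow 2-subgroup is the 2-core. -/
theorem map_sylow_eq_pCore {X : Type*} [Group X] [Finite X] [Group.IsSolvable X] (S : Sylow 2 X)
    (hab : ∀ a ∈ (S : Subgroup X), ∀ b ∈ (S : Subgroup X), a * b = b * a) :
    (S : Subgroup X).map (QuotientGroup.mk' (Cfsg.pPrimeCore 2 X)) =
      Cfsg.pCore 2 (X ⧸ Cfsg.pPrimeCore 2 X) := by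
  haveI : Fact (Nat.Prime 2) := ⟨Nat.prime_two⟩
  set Y₀ := Cfsg.pPrimeCore 2 X
  let q : X →* X ⧸ Y₀ := QuotientGroup.mk' Y₀
  let Sq := S.mapSurjective (f := q) (QuotientGroup.mk'_surjective Y₀)
  have hO1 : Cfsg.pPrimeCore 2 (X ⧸ Y₀) = ⊥ := pPrimeCore_quotient_eq_bot X
  have hfit := CfsgLib.Solvable.Cores.centralizer_fittingSubgroup_le (G := X ⧸ Y₀)
  rw [CfsgLib.Solvable.Cores.fittingSubgroup_eq_pCore 2 hO1] at hfit
  have hle : Cfsg.pCore 2 (X ⧸ Y₀) ≤ (Sq : Subgroup _) := CfsgLib.Solvable.Cores.pCore_le_sylow Sq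
  refine le_antisymm (le_trans (fun y hy => mem_centralizer_iff.2 fun z hz => ?_) hfit) hle
  obtain ⟨a, ha, rfl⟩ := hy
  obtain ⟨b, hb, rfl⟩ := hle hz
  show q b * q a = q a * q b
  rw [← map_mul, ← map_mul, hab b hb a ha]

/-- An odd subgroup invariant under an abelian Sylow 2-subgroup of a solvable group is in the core. -/
theorem le_oddCore_of_invariant {X : Type*} [Group X] [Finite X] [Group.IsSolvable X] (S : Sylow 2 X)
    (hab : ∀ a ∈ (S : Subgroup X), ∀ b ∈ (S : Subgroup X), a * b = b * a) {K : Subgroup X}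
    (hK : Odd (Nat.card K)) (hinv : ∀ s ∈ (S : Subgroup X), ∀ k ∈ K, s * k * s⁻¹ ∈ K) :
    K ≤ Cfsg.pPrimeCore 2 X := by
  haveI : Fact (Nat.Prime 2) := ⟨Nat.prime_two⟩
  set Y₀ := Cfsg.pPrimeCore 2 X
  let q : X →* X ⧸ Y₀ := QuotientGroup.mk' Y₀
  have hS : (S : Subgroup X).map q = Cfsg.pCore 2 (X ⧸ Y₀) := map_sylow_eq_pCore S hab
  have hcp : ∀ {x : X ⧸ Y₀}, x ∈ K.map q → x ∈ Cfsg.pCore 2 (X ⧸ Y₀) → x = 1 := fun {x} h1 h2 => by
    obtain ⟨n, hn⟩ := IsPGroup.exists_orderOf_eq_pow (CfsgLib.Solvable.Cores.isPGroup_pCore 2) ⟨x, h2⟩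
    rw [Subgroup.orderOf_mk] at hn
    exact orderOf_eq_one_iff.1 (hn.trans (Nat.eq_one_of_dvd_coprimes
      (Nat.Coprime.pow_left n (Nat.coprime_two_left.2
        (hK.of_dvd_nat ((Subgroup.orderOf_dvd_natCard _ h1).trans (card_map_dvd _ q)))))
      dvd_rfl (hn ▸ dvd_rfl)))
  intro k hk
  have hfit : centralizer (Cfsg.pCore 2 (X ⧸ Y₀) : Set (X ⧸ Y₀)) ≤ Cfsg.pCore 2 (X ⧸ Y₀) := by
    have h := CfsgLib.Solvable.Cores.centralizer_fittingSubgroup_le (G := X ⧸ Y₀)
    rwa [CfsgLib.Solvable.Cores.fittingSubgroup_eq_pCore 2 (pPrimeCore_quotient_eq_bot X)] at h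
  refine (QuotientGroup.eq_one_iff k).1 (hcp ⟨k, hk, rfl⟩ (hfit (mem_centralizer_iff.2 fun z hz => ?_)))
  obtain ⟨s, hs, rfl⟩ := hS ▸ hz
  have h1 : q (k * s * k⁻¹ * s⁻¹) = 1 := by
    refine hcp ⟨_, ?_, rfl⟩ ?_
    · rw [show k * s * k⁻¹ * s⁻¹ = k * (s * k⁻¹ * s⁻¹) by group]
      exact mul_mem hk (hinv s hs _ (inv_mem hk))
    · rw [map_mul, map_mul, map_mul, map_inv, map_inv]
      exact mul_mem ((inferInstance : (Cfsg.pCore 2 (X ⧸ Y₀)).Normal).conj_mem _ hz _) (inv_mem hz)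
  rw [map_mul, map_mul, map_mul, map_inv, map_inv, mul_inv_eq_one, mul_inv_eq_iff_eq_mul] at h1
  exact h1.symm

section Klein

theorem card_mod_eight {F : Type} [Field F] [Fintype F] (P : Sylow 2 G)
    (hP : Nat.card (P : Subgroup G) = 4) (hF : Odd (Fintype.card F))
    (e : G ≃* Matrix.ProjectiveSpecialLinearGroup (Fin 2) F) :
    Fintype.card F % 8 = 3 ∨ Fintype.card F % 8 = 5 := by
  haveI : Fact (Nat.Prime 2) := ⟨Nat.prime_two⟩
  have h8 : ¬ 8 ∣ Nat.card G := fun h => by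
    have := P.pow_dvd_card_of_pow_dvd_card (n := 3) h
    rw [hP] at this
    norm_num at this
  have h4 : 4 ∣ Nat.card G := hP ▸ card_subgroup_dvd_card _
  have hc := CfsgLib.Perm.ZGroup.card_psl2_gcd (F := F)
  rw [← Nat.card_congr e.toEquiv] at hc
  obtain ⟨m, hm⟩ := hF
  rw [Nat.gcd_eq_left (by rw [hm]; exact ⟨m, by omega⟩)] at hc
  by_contra hne
  rw [not_or] at hne
  have h16 : 16 ∣ (Fintype.card F - 1) * (Fintype.card F + 1) := by
    rcases (show Fintype.card F % 8 = 1 ∨ Fintype.card F % 8 = 7 by omega) with h | h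
    · exact mul_dvd_mul (show 8 ∣ Fintype.card F - 1 by omega) (show 2 ∣ Fintype.card F + 1 by omega)
    · have := mul_dvd_mul (show 2 ∣ Fintype.card F - 1 by omega) (show 8 ∣ Fintype.card F + 1 by omega)
      exact this
  have h16' : 16 ∣ 2 * Nat.card G := hc ▸ h16.mul_left _
  omega

variable [IsSimpleGroup G]

/-- The odd part of the centraliser of an involution is not centralised: `L₂(q)`, `q ≡ 3, 5 (mod 8)`. -/
theorem psl_of_rot (hm : RMixed G r) (P : Sylow 2 G) [hP : IsKleinFour ↥(P : Subgroup G)] {t ρ : G}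
    (hrot : Rot (P : Subgroup G) t ρ)
    (hO : ∃ y, Odd (orderOf y) ∧ Commute t y ∧ y ∉ centralizer ((P : Subgroup G) : Set G)) :
    ∃ (F : Type) (_ : Field F) (_ : Fintype F),
      (Fintype.card F % 8 = 3 ∨ Fintype.card F % 8 = 5) ∧
        Nonempty (G ≃* Matrix.ProjectiveSpecialLinearGroup (Fin 2) F) := by
  classical
  haveI : Fact (Nat.Prime 2) := ⟨Nat.prime_two⟩
  set V : Subgroup G := (P : Subgroup G) with hV
  set C := centralizer ({t} : Set G) with hC
  obtain ⟨hD, hinv, hN⟩ := strong_of_rot hm P hrot hO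
  set O := (Cfsg.oddCore C).map C.subtype with hOdef
  have hmem : ∀ y ∈ O, Odd (orderOf y) ∧ Commute t y := by
    rintro _ ⟨y, hy, rfl⟩
    refine ⟨?_, (mem_centralizer_singleton_iff.1 y.2).symm⟩
    show Odd (orderOf (y : G))
    rw [Subgroup.orderOf_coe]
    exact (Nat.coprime_two_right.1 (CfsgLib.Solvable.Cores.coprime_card_pPrimeCore 2)).of_dvd_nat
      (Subgroup.orderOf_dvd_natCard _ hy)
  have hb : ∀ s ∈ V, s ∉ centralizer (O : Set G) → ∀ y ∈ O, s * y * s⁻¹ = y⁻¹ := by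
    intro s hs hsO y hy
    refine hinv s hs (fun e => hsO (e ▸ one_mem _)) (fun e => hsO ?_) y (hmem y hy).1 (hmem y hy).2
    exact mem_centralizer_iff.2 fun z hz => by rw [e]; exact (hmem z hz).2.eq.symm
  have hcomm : ∀ s ∈ V, s * t = t * s := fun s hs => (four_comm hs hrot.mem).eq
  have ha : O ≠ ⊥ → IsCyclic (V ⊓ centralizer (O : Set G) : Subgroup G) ∧
      (V ⊓ centralizer (O : Set G)).relIndex V = 2 := by
    intro hO1
    have heq : V ⊓ centralizer (O : Set G) = zpowers t := by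
      refine le_antisymm (fun s hs => ?_) (zpowers_le.2 ⟨hrot.mem,
        mem_centralizer_iff.2 fun z hz => (hmem z hz).2.eq.symm⟩)
      by_cases hs1 : s = 1
      · exact hs1 ▸ one_mem _
      by_cases hst : s = t
      · exact hst ▸ mem_zpowers t
      exfalso
      refine hO1 ((eq_bot_iff_forall _).2 fun y hy => ?_)
      have e1 := hinv s hs.1 hs1 hst y (hmem y hy).1 (hmem y hy).2
      rw [(mem_centralizer_iff.1 hs.2 y hy).symm, mul_inv_cancel_right] at e1
      exact orderOf_eq_one_iff.1 (Nat.eq_one_of_dvd_coprimes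
        (Nat.coprime_two_right.2 (hmem y hy).1) dvd_rfl
        (orderOf_dvd_of_pow_eq_one (by rw [pow_two]; nth_rewrite 2 [e1]; exact mul_inv_cancel y)))
    rw [heq]
    refine ⟨inferInstance, ?_⟩
    have h := relIndex_mul_relIndex (⊥ : Subgroup G) (zpowers t) V bot_le
      (zpowers_le.2 hrot.mem)
    rw [relIndex_bot_left, relIndex_bot_left, Nat.card_zpowers, hrot.two,
      IsKleinFour.card_four] at h
    omega
  have hD2 : Nonempty (V ≃* DihedralGroup 2) := IsKleinFour.nonempty_mulEquiv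
  obtain ⟨F, _, _, hF, ⟨e⟩⟩ := Cfsg.Agent.S0508.result P 2 le_rfl hD2 t hrot.two hrot.mem hcomm O
    rfl ha hb (fun Y hY hY1 => hN Y hY1 fun y hy => hmem y (hY hy))
  exact ⟨F, inferInstance, inferInstance, card_mod_eight P IsKleinFour.card_four hF e, ⟨e⟩⟩

/-- The odd part of the centraliser of an involution is centralised: the alternating group. -/
theorem alt5_of_not (hm : RMixed G r) (P : Sylow 2 G) [hP : IsKleinFour ↥(P : Subgroup G)] {t ρ : G}
    (hrot : Rot (P : Subgroup G) t ρ)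
    (hO : ¬ ∃ y, Odd (orderOf y) ∧ Commute t y ∧ y ∉ centralizer ((P : Subgroup G) : Set G)) :
    Nonempty (G ≃* alternatingGroup (Fin 5)) := by
  classical
  haveI : Fact (Nat.Prime 2) := ⟨Nat.prime_two⟩
  set V : Subgroup G := (P : Subgroup G) with hV
  have ht1 : t ≠ 1 := fun e => by simpa [e] using hrot.two
  set C := centralizer ({t} : Set G) with hC
  have hVC : V ≤ C := fun v hv => mem_centralizer_singleton_iff.2 (four_comm hv hrot.mem).eq
  obtain ⟨K, hKC, hKr, -, -, hdec⟩ := exists_kernel hm P hVC fun g hg hgV => by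
    by_contra hc
    obtain ⟨t₀, ρ₀, hR₀, hρ₀⟩ := exists_rot hm P hgV hc
    exact hR₀.not_commute hrot.mem ht1 (mem_centralizer_singleton_iff.1 (zpowers_le.2 hg hρ₀))
  have hKV : ∀ k ∈ K, ∀ v ∈ V, v * k = k * v := fun k hk => by
    refine mem_centralizer_iff.1 (by_contra fun h => hO ⟨k, ?_, ?_, h⟩)
    · exact (odd_card_of_r hm hKr).of_dvd_nat (Subgroup.orderOf_dvd_natCard _ hk)
    · exact (mem_centralizer_singleton_iff.1 (hKC hk)).symm
  have hn : (V.subgroupOf C).Normal := by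
    refine ⟨fun v hv g => ?_⟩
    obtain ⟨k, hk, w, hw, e⟩ := hdec g g.2
    rw [mem_subgroupOf] at hv ⊢
    show (g : G) * v * (g : G)⁻¹ ∈ V
    rw [e, show k * w * (v : G) * (k * w)⁻¹ = k * (w * v * w⁻¹) * k⁻¹ by group,
      (four_comm hw hv).eq, mul_inv_cancel_right, ← hKV k hk v hv, mul_inv_cancel_right]
    exact hv
  have hodd : ¬ 2 ∣ V.relIndex C := fun h => P.not_dvd_index
    (h.trans (Dvd.intro _ (relIndex_mul_index hVC)))
  exact Cfsg.Agent.S3278.result t hrot.two V hVC hP hodd hn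

end Klein

section RankThree

/-- The odd core of a centraliser. -/
def core (a : G) : Subgroup G :=
  (Cfsg.pPrimeCore 2 (centralizer ({a} : Set G))).map (centralizer ({a} : Set G)).subtype

theorem core_le (a : G) : core a ≤ centralizer ({a} : Set G) := map_subtype_le _

theorem odd_card_core (a : G) : Odd (Nat.card (core a)) := by
  rw [core, card_map_of_injective (subtype_injective _)]
  exact Nat.coprime_two_right.1 (CfsgLib.Solvable.Cores.coprime_card_pPrimeCore 2)

theorem core_conj_le (g a : G) :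
    (core a).map (MulAut.conj g).toMonoidHom ≤ core (g * a * g⁻¹) := by
  set C := centralizer ({a} : Set G)
  set D := centralizer ({g * a * g⁻¹} : Set G)
  have hCD : ∀ x ∈ C, g * x * g⁻¹ ∈ D := fun x hx => by
    rw [mem_centralizer_singleton_iff] at hx ⊢
    exact ((Commute.conj_iff g).2 hx).eq
  have hDC : ∀ x ∈ D, g⁻¹ * x * g ∈ C := fun x hx => by
    have := (Commute.conj_iff g⁻¹).2 (show Commute x (g * a * g⁻¹) from
      mem_centralizer_singleton_iff.1 hx)
    rw [show g⁻¹ * (g * a * g⁻¹) * g⁻¹⁻¹ = a by group, inv_inv] at this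
    exact mem_centralizer_singleton_iff.2 this.eq
  let f : C →* D :=
    { toFun := fun x => ⟨g * x * g⁻¹, hCD _ x.2⟩
      map_one' := Subtype.ext (by simp)
      map_mul' := fun x y => Subtype.ext (by simp [mul_assoc]) }
  have hfs : Function.Surjective f := fun y =>
    ⟨⟨g⁻¹ * y * g, hDC _ y.2⟩, Subtype.ext (by show g * (g⁻¹ * y * g) * g⁻¹ = y; group)⟩
  haveI : ((Cfsg.pPrimeCore 2 C).map f).Normal :=
    (inferInstance : (Cfsg.pPrimeCore 2 C).Normal).map f hfs
  have hle : (Cfsg.pPrimeCore 2 C).map f ≤ Cfsg.pPrimeCore 2 D := CfsgLib.Solvable.Cores.le_pPrimeCore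
    ((CfsgLib.Solvable.Cores.coprime_card_pPrimeCore 2).coprime_dvd_left (card_map_dvd _ f))
  rintro _ ⟨_, ⟨x, hx, rfl⟩, rfl⟩
  exact ⟨f x, hle ⟨x, hx, rfl⟩, rfl⟩

/-- From rank three on the 2-elements of a group with trivial cores generate `L₂(2^k)`. -/
theorem exists_closure_iso (hm : RMixed G r) (hO2 : Cfsg.pCore 2 G = ⊥)
    (hO : Cfsg.pPrimeCore 2 G = ⊥) (S : Sylow 2 G) (h8 : 2 ^ 3 ≤ Nat.card (S : Subgroup G)) :
    ∃ (F : Type) (_ : Field F) (_ : Fintype F), CharP F 2 ∧ 4 ≤ Fintype.card F ∧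
      Nonempty (↥(Cfsg.pElementClosure 2 (⊤ : Subgroup G)) ≃*
        Matrix.ProjectiveSpecialLinearGroup (Fin 2) F) := by
  classical
  haveI : Fact (Nat.Prime 2) := ⟨Nat.prime_two⟩
  set T : Subgroup G := (S : Subgroup G) with hT
  have hcomm : ∀ a ∈ T, ∀ b ∈ T, a * b = b * a := fun a ha b hb => hm.sylow_comm S.2 ha hb
  haveI hTc : IsMulCommutative T := ⟨⟨fun a b => Subtype.ext (hcomm a a.2 b b.2)⟩⟩
  have hord : ∀ a ∈ T, a ≠ 1 → orderOf a = 2 := fun a ha ha1 => hm.orderOf_two S.2 ha ha1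
  have hTC : ∀ a ∈ T, T ≤ centralizer ({a} : Set G) := fun a ha b hb =>
    mem_centralizer_singleton_iff.2 (hcomm b hb a ha)
  have hnorm : ∀ a, ∀ b ∈ centralizer ({a} : Set G), ∀ x ∈ core a, b * x * b⁻¹ ∈ core a := by
    rintro a b hb _ ⟨x, hx, rfl⟩
    exact ⟨_, (inferInstance : (Cfsg.pPrimeCore 2 (centralizer ({a} : Set G))).Normal).conj_mem x hx
      ⟨b, hb⟩, rfl⟩
  -- balance
  have hbal : ∀ a ∈ T, a ≠ 1 → ∀ b ∈ T, b ≠ 1 → core a ⊓ centralizer {b} ≤ core b := by
    intro a ha _ b hb hb1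
    haveI := hm.solvable_centralizer (hord b hb hb1)
    set C := centralizer ({b} : Set G) with hC
    have h := le_oddCore_of_invariant (S.subtype (hTC b hb))
      (fun x hx y hy => Subtype.ext (hcomm x hx y hy)) (K := (core a ⊓ C).subgroupOf C) (by
        rw [Nat.card_congr (subgroupOfEquivOfLe inf_le_right).toEquiv]
        exact (odd_card_core a).of_dvd_nat (card_dvd_of_le inf_le_left))
      (fun s hs k hk => ⟨hnorm a _ (hTC a ha hs) _ hk.1, (s * k * s⁻¹).2⟩)
    exact fun y hy => ⟨⟨y, hy.2⟩, h hy, rfl⟩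
  obtain ⟨hWodd, hW⟩ := Cfsg.Agent.S0217.result T hcomm
    (fun a ha => by rw [pow_two]; exact hm.sylow_sq S.2 ha) h8 core (fun a _ _ => core_le a)
    (fun a _ _ => (odd_card_core a).not_two_dvd_nat) (fun a ha _ b hb => hnorm a b (hTC a ha hb))
    (fun a _ _ => CfsgLib.OddOrder.Final.oddSolvable _ (odd_card_core a)) hbal
  set W := ⨆ a : {a : G // a ∈ T ∧ a ≠ 1}, core (a : G) with hWdef
  set N := normalizer (T : Set G) with hN
  have hNW : N ≤ normalizer (W : Set G) := by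
    intro g hg
    refine mem_normalizer_iff_map_conj_eq.2 (eq_of_le_of_card_ge ?_
      (card_map_of_injective (MulAut.conj g).injective).ge)
    rw [hWdef, Subgroup.map_iSup]
    exact iSup_le fun a => (core_conj_le g a).trans (le_iSup
      (fun c : {a : G // a ∈ T ∧ a ≠ 1} => core (c : G))
      ⟨g * a * g⁻¹, (mem_normalizer_iff.1 hg _).1 a.2.1, fun e => a.2.2 (conj_eq_one_iff.1 e)⟩)
  set H := W ⊔ N with hH
  have hCH : ∀ a ∈ T, a ≠ 1 → centralizer ({a} : Set G) ≤ H := by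
    intro a ha ha1
    haveI := hm.solvable_centralizer (hord a ha ha1)
    set C := centralizer ({a} : Set G) with hC
    let SC : Sylow 2 C := S.subtype (hTC a ha)
    set Y₀ := Cfsg.pPrimeCore 2 C with hY₀
    have hcoreW : core a ≤ W := le_iSup (fun c : {a : G // a ∈ T ∧ a ≠ 1} => core (c : G)) ⟨a, ha, ha1⟩
    haveI hn : (Y₀ ⊔ (SC : Subgroup C)).Normal := by
      refine ⟨fun x hx g => ?_⟩
      let q : C →* C ⧸ Y₀ := QuotientGroup.mk' Y₀
      have hcm : (Y₀ ⊔ (SC : Subgroup C)) = ((SC : Subgroup C).map q).comap q := by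
        rw [comap_map_eq, QuotientGroup.ker_mk', sup_comm]
      rw [hcm, mem_comap] at hx ⊢
      have hnq : ((SC : Subgroup C).map q).Normal := by
        rw [show (SC : Subgroup C).map q = _ from
          map_sylow_eq_pCore SC fun u hu v hv => Subtype.ext (hcomm u hu v hv)]
        infer_instance
      rw [map_mul, map_mul, map_inv]
      exact hnq.conj_mem _ hx _
    let SY : Sylow 2 (Y₀ ⊔ (SC : Subgroup C) : Subgroup C) := SC.subtype le_sup_right
    have htop := SY.normalizer_sup_eq_top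
    intro x hx
    have hmapSY : (SY : Subgroup _).map (Y₀ ⊔ (SC : Subgroup C)).subtype = (SC : Subgroup C) :=
      map_subgroupOf_eq_of_le le_sup_right
    rw [hmapSY] at htop
    have hxc : (⟨x, hx⟩ : C) ∈ normalizer ((SC : Subgroup C) : Set C) ⊔ (Y₀ ⊔ (SC : Subgroup C)) :=
      htop ▸ mem_top _
    have hle : normalizer ((SC : Subgroup C) : Set C) ⊔ (Y₀ ⊔ (SC : Subgroup C)) ≤ H.comap C.subtype := by
      refine sup_le (fun y hy => mem_sup_right (mem_normalizer_iff.2 fun z => ⟨fun hz => ?_, fun hz => ?_⟩))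
        (sup_le (fun y hy => mem_sup_left (hcoreW ⟨y, hy, rfl⟩)) fun y hy => mem_sup_right (le_normalizer hy))
      · exact (mem_normalizer_iff.1 hy ⟨z, hTC a ha hz⟩).1 hz
      · have hz' : z ∈ C := by
          have := mul_mem (mul_mem (inv_mem y.2) (hTC a ha hz)) y.2
          simpa [mul_assoc] using this
        exact (mem_normalizer_iff.1 hy ⟨z, hz'⟩).2 hz
    exact hle hxc
  have hTne : T ≠ ⊥ := fun e => by rw [e, card_bot] at h8; norm_num at h8
  have hSE : Cfsg.IsStronglyPEmbedded 2 H := by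
    refine ⟨?_, fun htop => ?_, S, ?_⟩
    · obtain ⟨a, ha⟩ := (ne_bot_iff_exists_ne_one).1 hTne
      exact (hord a a.2 fun e => ha (Subtype.ext e)) ▸ orderOf_dvd_natCard (a : G)
    · haveI : W.Normal := normalizer_eq_top_iff.1 (top_le_iff.1
        (htop ▸ sup_le le_normalizer hNW))
      have e : W = ⊥ := le_bot_iff.1 (hO ▸ CfsgLib.Solvable.Cores.le_pPrimeCore
        (Nat.coprime_two_right.2 (Nat.odd_iff.2 (Nat.two_dvd_ne_zero.1 hWodd))))
      rw [hH, e, bot_sup_eq] at htop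
      haveI : T.Normal := normalizer_eq_top_iff.1 htop
      exact hTne (le_bot_iff.1 (hO2 ▸ CfsgLib.Solvable.Cores.le_pCore S.2))
    · rw [Cfsg.kGeneratedCore]
      refine iSup_le fun Q => ?_
      obtain ⟨a, haQ, ha1⟩ : ∃ a ∈ (Q : Subgroup G), a ≠ 1 := by
        by_contra h
        push Not at h
        refine Q.2.2 fun E hE => ?_
        have : E = ⊥ := (eq_bot_iff_forall _).2 fun x hx => Subtype.ext (h x x.2)
        intro _
        simp [this]
      intro g hg
      have hbQ : g * a * g⁻¹ ∈ (Q : Subgroup G) := (mem_normalizer_iff.1 hg a).1 haQ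
      obtain ⟨n, hn, he⟩ := S.conj_eq_normalizer_conj_of_mem a g⁻¹ (Q.2.1 haQ)
        (by rw [inv_inv]; exact Q.2.1 hbQ)
      rw [inv_inv] at he
      have hc : n * g ∈ centralizer ({a} : Set G) := mem_centralizer_singleton_iff.2 (by
        calc n * g * a = n * (g * a * g⁻¹) * g := by group
          _ = a * (n * g) := by rw [he]; group)
      have : g = n⁻¹ * (n * g) := by group
      rw [this]
      exact mul_mem (mem_sup_right (inv_mem hn)) (hCH a (Q.2.1 haQ) ha1 hc)
  obtain ⟨a₀, ha₀, ha₀1⟩ : ∃ a ∈ T, a ≠ 1 := by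
    obtain ⟨a, ha⟩ := (ne_bot_iff_exists_ne_one).1 hTne
    exact ⟨a, a.2, fun e => ha (Subtype.ext e)⟩
  let e₀ : G ⧸ Cfsg.pPrimeCore 2 G ≃* G :=
    (QuotientGroup.quotientMulEquivOfEq hO).trans QuotientGroup.quotientBot
  have hcl : (Cfsg.pElementClosure 2 (⊤ : Subgroup (G ⧸ Cfsg.pPrimeCore 2 G))).map e₀.toMonoidHom =
      Cfsg.pElementClosure 2 (⊤ : Subgroup G) := by
    rw [Cfsg.pElementClosure, MonoidHom.map_closure]
    refine congrArg Subgroup.closure (Set.ext fun y => ⟨?_, fun hy => ?_⟩)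
    · rintro ⟨x, ⟨-, k, hk⟩, rfl⟩
      exact ⟨trivial, k, (MulEquiv.orderOf_eq e₀ x).trans hk⟩
    · obtain ⟨-, k, hk⟩ := hy
      exact ⟨e₀.symm y, ⟨trivial, k, (MulEquiv.orderOf_eq e₀.symm y).trans hk⟩, e₀.apply_symm_apply y⟩
  let e₁ : ↥(Cfsg.pElementClosure 2 (⊤ : Subgroup (G ⧸ Cfsg.pPrimeCore 2 G))) ≃*
      ↥(Cfsg.pElementClosure 2 (⊤ : Subgroup G)) :=
    (Subgroup.equivMapOfInjective _ e₀.toMonoidHom e₀.injective).trans (MulEquiv.subgroupCongr hcl)
  have hab : CfsgLib.KGroups.AbelianTwo.AbTwo G := fun P =>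
    ⟨⟨fun x y => Subtype.ext (hm.sylow_comm P.2 x.2 y.2)⟩⟩
  rcases Cfsg.Agent.S2798.result H hSE with h | ⟨F, _, _, hF2, hF4, ⟨e⟩⟩ | ⟨F, _, _, q, hq, hq4, hF, ⟨e⟩⟩ | h
  · exfalso
    obtain ⟨h1, -⟩ := h a₀ (hord a₀ ha₀ ha₀1)
    rw [hO, bot_sup_eq] at h1
    have hz : a₀ ∈ center G := mem_center_iff.2 fun g =>
      (mem_centralizer_singleton_iff.1 (h1 ▸ mem_top g))
    haveI : (zpowers a₀).Normal := ⟨fun x hx g => by
      obtain ⟨i, rfl⟩ := hx
      rw [mem_center_iff.1 (zpow_mem hz i) g, mul_inv_cancel_right]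
      exact zpow_mem (mem_zpowers a₀) i⟩
    have hp : IsPGroup 2 (zpowers a₀) := IsPGroup.of_card (n := 1)
      (by rw [Nat.card_zpowers, hord a₀ ha₀ ha₀1, pow_one])
    exact ha₀1 (mem_bot.1 (hO2 ▸ CfsgLib.Solvable.Cores.le_pCore hp (mem_zpowers a₀)))
  · obtain ⟨e'⟩ : Nonempty (Matrix.SpecialLinearGroup (Fin 2) F ≃*
        Matrix.ProjectiveSpecialLinearGroup (Fin 2) F) :=
      ⟨((QuotientGroup.quotientMulEquivOfEq
        center_sl2_two_bot).trans QuotientGroup.quotientBot).symm⟩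
    exact ⟨F, inferInstance, inferInstance, hF2, hF4, ⟨(e₁.symm.trans e).trans e'⟩⟩
  · exfalso
    obtain ⟨p, hp⟩ := CharP.exists F
    haveI : Fact p.Prime := ⟨CharP.char_is_prime F p⟩
    obtain ⟨n, -, hn⟩ := FiniteField.card F p
    have h2p : 2 ∣ p := Nat.prime_two.dvd_of_dvd_pow (n := n)
      (by rw [← hn, hF]; exact (even_iff_two_dvd.1 hq).trans (dvd_pow_self q two_ne_zero))
    obtain rfl : p = 2 := ((Nat.prime_dvd_prime_iff_eq Nat.prime_two Fact.out).1 h2p).symm
    exact CfsgLib.KGroups.AbelianTwo.not_psu_three hF ((hab.subgroup _).mk_witness ⟨e₁.symm.trans e⟩)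
  · exfalso
    obtain ⟨F, _, _, m, hm1, hK, ⟨e⟩⟩ := h
    haveI : CharP F 2 := charP_of_card_eq_prime_pow hK
    exact not_abTwo_suzuki hm1 hK ((hab.subgroup _).mk_witness ⟨e₁.symm.trans e⟩)

end RankThree

/-- A group whose Sylow 2-subgroups have order at most two is solvable. -/
theorem isSolvable_of_sylow_le_two {G : Type u} [Group G] [Finite G] (S : Sylow 2 G)
    (h : Nat.card (S : Subgroup G) ≤ 2) : Group.IsSolvable G := by
  haveI : Fact (Nat.Prime 2) := ⟨Nat.prime_two⟩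
  by_cases h2 : 2 ∣ Nat.card G
  · have hS : Nat.card (S : Subgroup G) = 2 := by
      have := S.pow_dvd_card_of_pow_dvd_card (n := 1) (by simpa using h2)
      have := Nat.le_of_dvd Nat.card_pos this
      omega
    have hmin : (Nat.card G).minFac = 2 := by
      rw [Nat.minFac_eq_two_iff]; exact h2
    haveI : IsCyclic (S : Subgroup G) := isCyclic_of_prime_card hS
    have hc := MonoidHom.ker_transferSylow_isComplement' S
      (IsCyclic.normalizer_le_centralizer hmin inferInstance)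
    set K := (MonoidHom.transferSylow S (IsCyclic.normalizer_le_centralizer hmin inferInstance)).ker
    have hKodd : Odd (Nat.card K) := by
      rw [← hc.index_eq_card]
      exact Nat.not_even_iff_odd.1 fun e => S.not_dvd_index e.two_dvd
    haveI := CfsgLib.OddOrder.Final.oddSolvable K hKodd
    haveI : Group.IsSolvable (G ⧸ K) := by
      haveI : IsCyclic (G ⧸ K) := isCyclic_of_prime_card (p := 2) (by
        rw [← Subgroup.index_eq_card, hc.symm.index_eq_card, hS])
      exact Group.isSolvable_of_comm fun x y => (IsCyclic.commGroup (α := G ⧸ K)).mul_comm x y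
    exact Group.isSolvable_of_ker_le_range K.subtype (QuotientGroup.mk' K)
      (by rw [QuotientGroup.ker_mk', range_subtype])
  · exact CfsgLib.OddOrder.Final.oddSolvable G (Nat.not_even_iff_odd.1 fun e => h2 e.two_dvd)

theorem RMixed.isKleinFour {G : Type u} [Group G] [Finite G] {r : ℕ} (hm : RMixed G r) (S : Sylow 2 G)
    (hS : Nat.card (S : Subgroup G) = 4) : IsKleinFour ↥(S : Subgroup G) := by
  have hsq : ∀ x : (S : Subgroup G), x * x = 1 := fun x =>
    Subtype.ext (hm.sylow_sq S.2 x.2)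
  refine ⟨hS, ?_⟩
  have hdvd : Monoid.exponent (S : Subgroup G) ∣ 2 :=
    Monoid.exponent_dvd_of_forall_pow_eq_one fun x => by rw [pow_two]; exact hsq x
  refine (Nat.prime_two.eq_one_or_self_of_dvd _ hdvd).resolve_left fun h1 => ?_
  haveI : Subsingleton (S : Subgroup G) := Monoid.exp_eq_one_iff.1 h1
  rw [Nat.card_eq_one_iff_unique.2 ⟨inferInstance, inferInstance⟩] at hS
  omega

theorem RMixed.four_or_eight {G : Type u} [Group G] [Finite G] (hns : ¬ Group.IsSolvable G)
    (S : Sylow 2 G) : Nat.card (S : Subgroup G) = 4 ∨ 2 ^ 3 ≤ Nat.card (S : Subgroup G) := by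
  haveI : Fact (Nat.Prime 2) := ⟨Nat.prime_two⟩
  obtain ⟨n, hn⟩ := IsPGroup.iff_card.1 S.2
  rw [hn]
  rcases n with _ | _ | _ | n
  · exact absurd (isSolvable_of_sylow_le_two S (by rw [hn]; norm_num)) hns
  · exact absurd (isSolvable_of_sylow_le_two S (by rw [hn]; norm_num)) hns
  · exact Or.inl rfl
  · exact Or.inr (Nat.pow_le_pow_right two_pos (by omega))

end CfsgLib.Recognition.SparseOrders
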