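import Cfsg.Agent.Lib.ClassSizeNM.Basic
import Cfsg.Agent.Lib.OddOrder.Final.Main
import Cfsg.Agent.Lib.Coprime.Generation

/-!
# Groups in which no prime divides three element orders

If some element has order `2r` with `r` odd, the 2-elements have order at most two, the `r`-elements
order at most `r`, and `2`, `r` combine only with each other; `RMixed` records this.
-/

set_option autoImplicit false

namespace CfsgLib.Recognition.SparseOrders

open Subgroup

universe u

/-- No prime divides three pairwise distinct element orders. -/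
def Sparse (G : Type*) [Group G] : Prop :=
  ∀ p : ℕ, p.Prime → ∀ a b c : G, orderOf a ≠ orderOf b → orderOf b ≠ orderOf c →
    orderOf a ≠ orderOf c → ¬ (p ∣ orderOf a ∧ p ∣ orderOf b ∧ p ∣ orderOf c)

/-- Some element has order `2r`, and the orders divisible by `2` or `r` are `2`, `r`, `2r`. -/
structure RMixed (G : Type*) [Group G] (r : ℕ) : Prop where
  prime : r.Prime
  ne_two : r ≠ 2
  two : ∀ x : G, 2 ∣ orderOf x → orderOf x = 2 ∨ orderOf x = 2 * r
  odd : ∀ x : G, r ∣ orderOf x → orderOf x = r ∨ orderOf x = 2 * r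

variable {G : Type u} [Group G] [Finite G]

theorem exists_orderOf_of_surjective {H : Type*} [Group H] {f : G →* H} (hf : Function.Surjective f)
    (y : H) : ∃ x : G, orderOf x = orderOf y := by
  obtain ⟨g, rfl⟩ := hf y
  exact ⟨_, orderOf_pow_orderOf_div (orderOf_pos g).ne' (orderOf_map_dvd f g)⟩

omit [Finite G] in
theorem Sparse.subgroup (h : Sparse G) (H : Subgroup G) : Sparse ↥H := by
  intro p hp a b c hab hbc hac hd
  rw [← Subgroup.orderOf_coe, ← Subgroup.orderOf_coe] at hab hbc hac
  rw [← Subgroup.orderOf_coe, ← Subgroup.orderOf_coe b, ← Subgroup.orderOf_coe c] at hd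
  exact h p hp _ _ _ hab hbc hac hd

theorem Sparse.of_surjective (h : Sparse G) {H : Type*} [Group H] {f : G →* H}
    (hf : Function.Surjective f) : Sparse H := by
  intro p hp a b c hab hbc hac hd
  obtain ⟨a', ha⟩ := exists_orderOf_of_surjective hf a
  obtain ⟨b', hb⟩ := exists_orderOf_of_surjective hf b
  obtain ⟨c', hc⟩ := exists_orderOf_of_surjective hf c
  rw [← ha, ← hb, ← hc] at hd
  exact h p hp a' b' c' (by rw [ha, hb]; exact hab) (by rw [hb, hc]; exact hbc)
    (by rw [ha, hc]; exact hac) hd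

omit [Finite G] in
/-- Of the orders divisible by a prime there are at most two. -/
theorem Sparse.eq_or (h : Sparse G) {p : ℕ} (hp : p.Prime) {a b : G} (hab : orderOf a ≠ orderOf b)
    (ha : p ∣ orderOf a) (hb : p ∣ orderOf b) {c : G} (hc : p ∣ orderOf c) :
    orderOf c = orderOf a ∨ orderOf c = orderOf b := by
  by_contra hne
  rw [not_or] at hne
  exact h p hp a b c hab (Ne.symm hne.2) (Ne.symm hne.1) ⟨ha, hb, hc⟩

/-- An element order is a product of at most two primes. -/
theorem Sparse.length_le_two (h : Sparse G) (x : G) :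
    (orderOf x).primeFactorsList.length ≤ 2 := by
  by_contra hlen
  obtain ⟨p, q, s, l, hl⟩ : ∃ p q s l, (orderOf x).primeFactorsList = p :: q :: s :: l := by
    match hL : (orderOf x).primeFactorsList, hlen with
    | [], h => simp at h
    | [_], h => simp at h
    | [_, _], h => simp at h
    | p :: q :: s :: l, _ => exact ⟨p, q, s, l, rfl⟩
  have hn : orderOf x = p * (q * (s * l.prod)) := by
    rw [← Nat.prod_primeFactorsList (orderOf_pos x).ne', hl]
    simp
  have hp : p.Prime := Nat.prime_of_mem_primeFactorsList (n := orderOf x) (by rw [hl]; simp)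
  have hq : q.Prime := Nat.prime_of_mem_primeFactorsList (n := orderOf x) (by rw [hl]; simp)
  have hs : s.Prime := Nat.prime_of_mem_primeFactorsList (n := orderOf x) (by rw [hl]; simp)
  have key : ∀ d : ℕ, d ∣ orderOf x → orderOf (x ^ (orderOf x / d)) = d := fun d hd =>
    orderOf_pow_orderOf_div (orderOf_pos x).ne' hd
  have h1 : p ∣ orderOf x := ⟨_, hn⟩
  have h2 : p * q ∣ orderOf x := ⟨s * l.prod, by rw [hn]; ring⟩
  have h3 : p * q * s ∣ orderOf x := ⟨l.prod, by rw [hn]; ring⟩
  have hp0 := hp.two_le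
  have hq0 := hq.two_le
  have hs0 := hs.two_le
  have e1 : p < p * q := lt_mul_of_one_lt_right (by omega) (by omega)
  have e2 : p * q < p * q * s := lt_mul_of_one_lt_right (by positivity) (by omega)
  refine h p hp (x ^ (orderOf x / p)) (x ^ (orderOf x / (p * q))) (x ^ (orderOf x / (p * q * s)))
    ?_ ?_ ?_ ⟨?_, ?_, ?_⟩ <;> simp only [key _ h1, key _ h2, key _ h3]
  · exact e1.ne
  · exact e2.ne
  · exact (e1.trans e2).ne
  · exact dvd_rfl
  · exact dvd_mul_right _ _
  · exact (dvd_mul_right _ _).mul_right _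

/-- An element of order `2r` makes the group mixed. -/
theorem Sparse.rMixed (h : Sparse G) {r : ℕ} (hr : r.Prime) (hr2 : r ≠ 2) {x : G}
    (hx : orderOf x = 2 * r) : RMixed G r := by
  have h2 : orderOf (x ^ r) = 2 := by
    rw [orderOf_pow_of_dvd hr.ne_zero (hx ▸ dvd_mul_left r 2), hx, Nat.mul_div_cancel _ hr.pos]
  have hr' : orderOf (x ^ 2) = r := by
    rw [orderOf_pow_of_dvd two_ne_zero (hx ▸ dvd_mul_right 2 r), hx,
      Nat.mul_div_cancel_left _ two_pos]
  have hne2 : 2 ≠ 2 * r := by have := hr.two_le; omega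
  have hner : r ≠ 2 * r := by have := hr.pos; omega
  refine ⟨hr, hr2, fun y hy => ?_, fun y hy => ?_⟩
  · have := h.eq_or Nat.prime_two (a := x ^ r) (b := x) (by rw [h2, hx]; exact hne2)
      (h2 ▸ dvd_rfl) (hx ▸ dvd_mul_right 2 r) hy
    rwa [h2, hx] at this
  · have := h.eq_or hr (a := x ^ 2) (b := x) (by rw [hr', hx]; exact hner)
      (hr' ▸ dvd_rfl) (hx ▸ dvd_mul_left r 2) hy
    rwa [hr', hx] at this

namespace RMixed

variable {r : ℕ}

omit [Finite G] in
theorem subgroup (h : RMixed G r) (H : Subgroup G) : RMixed ↥H r :=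
  ⟨h.prime, h.ne_two, fun x hx => by
    rw [← Subgroup.orderOf_coe] at hx ⊢; exact h.two _ hx, fun x hx => by
    rw [← Subgroup.orderOf_coe] at hx ⊢; exact h.odd _ hx⟩

theorem of_surjective (h : RMixed G r) {H : Type*} [Group H] {f : G →* H}
    (hf : Function.Surjective f) : RMixed H r :=
  ⟨h.prime, h.ne_two, fun y hy => by
    obtain ⟨x, hx⟩ := exists_orderOf_of_surjective hf y
    rw [← hx] at hy ⊢; exact h.two _ hy, fun y hy => by
    obtain ⟨x, hx⟩ := exists_orderOf_of_surjective hf y
    rw [← hx] at hy ⊢; exact h.odd _ hy⟩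

variable (h : RMixed G r)
include h

omit [Finite G] in
theorem odd_r : Odd r := h.prime.odd_of_ne_two h.ne_two

/-- The 2-elements square to the identity. -/
theorem sq_of_two {x : G} {k : ℕ} (hx : orderOf x = 2 ^ k) : x * x = 1 := by
  rcases k with _ | k
  · rw [orderOf_eq_one_iff.1 (hx.trans (pow_zero 2)), one_mul]
  · rcases h.two x (hx ▸ dvd_pow_self 2 (by omega)) with e | e
    · rw [← pow_two, ← e, pow_orderOf_eq_one]
    · exfalso
      have h1 : r ∣ 2 ^ (k + 1) := hx ▸ e ▸ dvd_mul_left r 2
      exact h.ne_two ((Nat.prime_dvd_prime_iff_eq h.prime Nat.prime_two).1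
        (h.prime.dvd_of_dvd_pow h1))

/-- The `r`-elements have order at most `r`. -/
theorem pow_of_r {x : G} {k : ℕ} (hx : orderOf x = r ^ k) : x ^ r = 1 := by
  rcases k with _ | k
  · rw [orderOf_eq_one_iff.1 (hx.trans (pow_zero r)), one_pow]
  · rcases h.odd x (hx ▸ dvd_pow_self r (by omega)) with e | e
    · calc x ^ r = x ^ orderOf x := by rw [e]
        _ = 1 := pow_orderOf_eq_one x
    · exfalso
      have h1 : 2 ∣ r ^ (k + 1) := hx ▸ e ▸ dvd_mul_right 2 r
      exact h.ne_two ((Nat.prime_dvd_prime_iff_eq Nat.prime_two h.prime).1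
        (Nat.prime_two.dvd_of_dvd_pow h1)).symm

omit [Finite G] in
/-- An element of odd order commuting with an involution has order `1` or `r`. -/
theorem pow_of_commute_two {t y : G} (ht : orderOf t = 2) (hy : Odd (orderOf y))
    (hc : Commute t y) : y ^ r = 1 := by
  have ho := hc.orderOf_mul_eq_mul_orderOf_of_coprime (by rw [ht]; exact Nat.coprime_two_left.2 hy)
  rw [ht] at ho
  rcases h.two (t * y) (ho ▸ dvd_mul_right 2 _) with e | e <;> rw [ho] at e
  · rw [orderOf_eq_one_iff.1 (show orderOf y = 1 by omega), one_pow]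
  · calc y ^ r = y ^ orderOf y := by rw [show orderOf y = r by omega]
      _ = 1 := pow_orderOf_eq_one y

omit [Finite G] in
/-- The prime orders commuting with an element of order `r` are `2` and `r`. -/
theorem prime_of_commute_r {x y : G} (hx : orderOf x = r) {l : ℕ} (hl : l.Prime)
    (hy : orderOf y = l) (hc : Commute x y) : l = 2 ∨ l = r := by
  by_contra hne
  rw [not_or] at hne
  have ho := hc.orderOf_mul_eq_mul_orderOf_of_coprime
    (by rw [hx, hy]; exact (Nat.coprime_primes h.prime hl).2 (Ne.symm hne.2))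
  rw [hx, hy] at ho
  rcases h.odd (x * y) (ho ▸ dvd_mul_right r l) with e | e <;> rw [ho] at e
  · have := hl.two_le
    have := h.prime.pos
    nlinarith
  · rw [mul_comm 2 r] at e
    exact hne.1 (Nat.eq_of_mul_eq_mul_left h.prime.pos e)

/-- A subgroup of odd order centralised elementwise by involutions is an `r`-group. -/
theorem isPGroup_of_forall {K : Subgroup G}
    (hK : ∀ y ∈ K, ∃ t : G, orderOf t = 2 ∧ Commute t y) (hodd : Odd (Nat.card K)) :
    IsPGroup r K := fun y => by
  obtain ⟨t, ht, hc⟩ := hK y y.2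
  refine ⟨1, Subtype.ext ?_⟩
  rw [pow_one, Subgroup.coe_pow, Subgroup.coe_one]
  exact h.pow_of_commute_two ht (hodd.of_dvd_nat (Subgroup.orderOf_dvd_natCard _ y.2)) hc

end RMixed

end CfsgLib.Recognition.SparseOrders
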