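import Cfsg.Agent.Lib.Recognition.SparseOrders.CitModels
import Cfsg.Agent.Lib.Recognition.CITGraph.Main
import Cfsg.Agent.Lib.Recognition.CIT.Main
import Cfsg.Agent.S0254
import Cfsg.Agent.S0494

/-!
# Non-solvable sparse groups without elements of order `2r`

Modulo the largest normal 2-subgroup such a group has a socle from the list of the CIT groups; the
bound four on the orders of 2-elements cuts the list down and, outside `PSL(2,2ⁿ)`, leaves no room
for a normal 2-subgroup.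
-/

set_option autoImplicit false
set_option linter.unusedSectionVars false
set_option linter.style.haveILetI false

open Subgroup

namespace CfsgLib.Recognition.SparseOrders

open CfsgLib.Recognition.CIT CfsgLib.Recognition.PrimeOrders CfsgLib.Recognition.CITGraph
  CfsgLib.Recognition.PrimePowerSimple

universe u

variable {G : Type u} [Group G] [Finite G]

theorem exists_orderOf_socle {T : Subgroup (G ⧸ Cfsg.pCore 2 G)} {L : Type*} [Group L] (φ : T ≃* L)
    (x : L) : ∃ g : G, orderOf g = orderOf x := by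
  obtain ⟨g, hg⟩ := exists_orderOf_of_surjective (QuotientGroup.mk'_surjective (Cfsg.pCore 2 G))
    ((φ.symm x : T) : G ⧸ Cfsg.pCore 2 G)
  exact ⟨g, by rw [hg, Subgroup.orderOf_coe, MulEquiv.orderOf_eq]⟩

theorem length_le_of_socle (h : Sparse G) {T : Subgroup (G ⧸ Cfsg.pCore 2 G)} {L : Type*} [Group L]
    (φ : T ≃* L) {n : ℕ} (hn : ∃ x : L, orderOf x = n) : n.primeFactorsList.length ≤ 2 := by
  obtain ⟨x, rfl⟩ := hn
  obtain ⟨g, hg⟩ := exists_orderOf_socle φ x
  exact hg ▸ h.length_le_two g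

theorem equiv_socle (h : Sparse G) (H : IsCIT G) (T : Subgroup (G ⧸ Cfsg.pCore 2 G)) (htop : T = ⊤)
    (hfree : ∀ (V : Type u) [CommGroup V] (ρ : G ⧸ Cfsg.pCore 2 G →* MulAut V),
      FreeModule (G ⧸ Cfsg.pCore 2 G) V ρ → False) : Nonempty (G ≃* T) := by
  haveI : Fact (Nat.Prime 2) := ⟨Nat.prime_two⟩
  have hbot : Cfsg.pCore 2 G = ⊥ := by
    by_contra hne
    obtain ⟨V, _, ρ, M⟩ := exists_module h H (CfsgLib.Solvable.Cores.isPGroup_pCore 2) hne
    exact hfree V ρ M
  exact ⟨(QuotientGroup.quotientBot.symm.trans (QuotientGroup.quotientMulEquivOfEq hbot.symm)).trans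
    (Subgroup.topEquiv.symm.trans (MulEquiv.subgroupCongr htop.symm))⟩

theorem even_case (h : Sparse G) (H : IsCIT G) (T : Subgroup (G ⧸ Cfsg.pCore 2 G)) [T.Normal]
    (hone : OneClass T) {F : Type} [Field F] [Fintype F] {m : ℕ} (hm : 2 ≤ m)
    (hF : Fintype.card F = 2 ^ m) (φ : T ≃* Matrix.ProjectiveSpecialLinearGroup (Fin 2) F) :
    ∃ (F : Type) (_ : Field F) (_ : Fintype F), CharP F 2 ∧ 4 ≤ Fintype.card F ∧
      (Fintype.card F + 1).primeFactorsList.length ≤ 2 ∧
      (Fintype.card F - 1).primeFactorsList.length ≤ 2 ∧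
      Nonempty (G ⧸ Cfsg.pCore 2 G ≃* Matrix.ProjectiveSpecialLinearGroup (Fin 2) F) := by
  classical
  haveI : Fact (Nat.Prime 2) := ⟨Nat.prime_two⟩
  haveI : CharP F 2 := charP_of_card Nat.prime_two hF
  have hev : Even (2 ^ m) := Nat.even_pow.2 ⟨even_two, by omega⟩
  have h4 : 4 ≤ 2 ^ m := (Nat.pow_le_pow_right (by norm_num) hm : 2 ^ 2 ≤ 2 ^ m)
  have hg : Nat.gcd 2 (Fintype.card F - 1) = 1 := by
    rw [hF]
    exact Nat.coprime_two_left.2 (Nat.Even.sub_odd (by omega) hev odd_one)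
  have htop : T = ⊤ := eq_top (quotient_isCIT H (CfsgLib.Solvable.Cores.isPGroup_pCore 2)) T hev
    (by omega) le_rfl ⟨m, rfl⟩ (by rw [Nat.card_congr φ.toEquiv, psl_card_even (by omega) hF]) hone
    (ti_subgroup φ (psl_ti (by omega) hF))
  have hex := CfsgLib.LocalEven.Spectrum.psl_exists (F := F) 2
  rw [hg, Nat.div_one, Nat.div_one] at hex
  refine ⟨F, inferInstance, inferInstance, inferInstance, hF ▸ h4,
    length_le_of_socle h φ (hex _ (by simp)), length_le_of_socle h φ (hex _ (by simp)),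
    ⟨(Subgroup.topEquiv.symm.trans (MulEquiv.subgroupCongr htop.symm)).trans φ⟩⟩

theorem suzuki_case (h : Sparse G) (H : IsCIT G) (T : Subgroup (G ⧸ Cfsg.pCore 2 G)) [T.Normal]
    [IsSimpleGroup T] (hone : OneClass T) {F : Type} [Field F] [Fintype F] {n : ℕ} (hn : 1 ≤ n)
    (hF : Fintype.card F = 2 ^ (2 * n + 1)) (φ : T ≃* ↥(Cfsg.Lie.Sz F (2 ^ (n + 1)))) :
    ∃ n : ℕ, 1 ≤ n ∧ IsSimpleGroup G ∧
      Nat.card G = (2 ^ (2 * n + 1)) ^ 2 * ((2 ^ (2 * n + 1)) ^ 2 + 1) * (2 ^ (2 * n + 1) - 1) ∧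
      (2 ^ (2 * n + 1) - 1).primeFactorsList.length ≤ 2 ∧
      (2 ^ (2 * n + 1) - 2 ^ (n + 1) + 1).primeFactorsList.length ≤ 2 ∧
      (2 ^ (2 * n + 1) + 2 ^ (n + 1) + 1).primeFactorsList.length ≤ 2 := by
  classical
  haveI : Fact (Nat.Prime 2) := ⟨Nat.prime_two⟩
  have HQ := quotient_isCIT H (CfsgLib.Solvable.Cores.isPGroup_pCore 2)
  have hev : Even (2 ^ (2 * n + 1)) := Nat.even_pow.2 ⟨even_two, by omega⟩
  have h8 : 8 ≤ 2 ^ (2 * n + 1) :=
    (Nat.pow_le_pow_right (by norm_num) (by omega) : 2 ^ 3 ≤ 2 ^ (2 * n + 1))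
  have htop : T = ⊤ := eq_top HQ T hev (by omega)
    (show 2 ^ (2 * n + 1) ≤ (2 ^ (2 * n + 1)) ^ 2 by nlinarith)
    ⟨2 * (2 * n + 1), by rw [← pow_mul, mul_comm]⟩
    (by rw [Nat.card_congr φ.toEquiv, sz_card hF]) hone (ti_subgroup φ (sz_ti hn hF))
  have hp := CfsgLib.KnownB.Suzuki.params_of_card hn hF
  have hP := (CfsgLib.KnownB.Suzuki.szPartition hp).congr φ.symm
  rw [hF] at hP
  have hlen : ∀ k ∈ ({2 ^ (2 * n + 1) + 2 ^ (n + 1) + 1, 2 ^ (2 * n + 1) - 2 ^ (n + 1) + 1} : Set ℕ),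
      k.primeFactorsList.length ≤ 2 := by
    intro k hk
    obtain ⟨U, hcyc, hcard, -, -⟩ := hP.tori k hk
    obtain ⟨u, hu⟩ := hcyc.exists_generator
    exact length_le_of_socle h (MulEquiv.refl T)
      ⟨u, by rw [Subgroup.orderOf_coe, orderOf_eq_card_of_forall_mem_zpowers hu, hcard]⟩
  obtain ⟨e⟩ := equiv_socle h H T htop fun V _ ρ M => by
    obtain ⟨U, -, hcard, -, hN⟩ := hP.tori _ (Set.mem_insert _ _)
    have hQ : ∀ K : Subgroup T, Nat.card (K.map T.subtype) = Nat.card K := fun K =>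
      Subgroup.card_map_of_injective T.subtype_injective
    have hodd : Odd (Nat.card (U.map T.subtype)) := by
      rw [hQ, hcard]
      exact (hev.add (Nat.even_pow.2 ⟨even_two, by omega⟩)).add_one
    have hU1 : U.map T.subtype ≠ ⊥ := fun e => by
      rw [← Subgroup.card_eq_one, hQ, hcard] at e
      have := Nat.two_pow_pos n
      omega
    have hN' : Nat.card (normalizer ((U.map T.subtype : Subgroup _) : Set (G ⧸ Cfsg.pCore 2 G))) =
        4 * Nat.card (U.map T.subtype) := by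
      rw [hQ, hcard, ← hN, ← hQ (normalizer (U : Set T))]
      subst htop
      rw [Subgroup.map_normalizer_eq_of_bijective _
        ⟨Subgroup.subtype_injective _, fun w => ⟨⟨w, Subgroup.mem_top w⟩, rfl⟩⟩]
    obtain ⟨y, hy, hyn⟩ := exists_four_normalizing HQ hodd hU1 hN'
    exact M.false_of_four HQ hodd hU1 hy hyn
  refine ⟨n, hn, ?_, ?_, ?_, hlen _ (Set.mem_insert_of_mem _ rfl), hlen _ (Set.mem_insert _ _)⟩
  · haveI : Nontrivial G := e.toEquiv.nontrivial
    exact IsSimpleGroup.isSimpleGroup_of_surjective e.symm.toMonoidHom e.symm.surjective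
  · rw [Nat.card_congr (e.trans φ).toEquiv, sz_card hF]; ring
  · obtain ⟨u, hu⟩ := (inferInstance :
      IsCyclic (CfsgLib.KnownB.Suzuki.hGroup hp.twist)).exists_generator
    have e1 := CfsgLib.KnownB.Suzuki.card_hGroup hp.twist
    rw [hF] at e1
    exact length_le_of_socle h φ
      ⟨u, by rw [Subgroup.orderOf_coe, orderOf_eq_card_of_forall_mem_zpowers hu, e1]⟩

/-- The half without elements of order `2r`. -/
theorem cit_half {G : Type u} [Group G] [Finite G] (h : Sparse G) (hns : ¬ Group.IsSolvable G)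
    (hno : ∀ r : ℕ, r.Prime → r ≠ 2 → ¬ ∃ x : G, orderOf x = 2 * r) :
    (∃ (F : Type) (_ : Field F) (_ : Fintype F), CharP F 2 ∧ 4 ≤ Fintype.card F ∧
        (Fintype.card F + 1).primeFactorsList.length ≤ 2 ∧ (Fintype.card F - 1).primeFactorsList.length ≤ 2 ∧
        Nonempty (G ⧸ Cfsg.pCore 2 G ≃* Matrix.ProjectiveSpecialLinearGroup (Fin 2) F)) ∨
    (∃ (F : Type) (_ : Field F) (_ : Fintype F), 5 < Fintype.card F ∧ (Fintype.card F % 8 = 3 ∨ Fintype.card F % 8 = 5) ∧
        ((Fintype.card F + 1) / 2).primeFactorsList.length ≤ 2 ∧ ((Fintype.card F - 1) / 2).primeFactorsList.length ≤ 2 ∧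
        Nonempty (G ≃* Matrix.ProjectiveSpecialLinearGroup (Fin 2) F)) ∨
    (∃ (F : Type) (_ : Field F) (_ : Fintype F), (Fintype.card F = 7 ∨ Fintype.card F = 9) ∧
        Nonempty (G ≃* Matrix.ProjectiveSpecialLinearGroup (Fin 2) F)) ∨
    (∃ (F : Type) (_ : Field F) (_ : Fintype F), Fintype.card F = 4 ∧ Nonempty (G ≃* Matrix.ProjectiveSpecialLinearGroup (Fin 3) F)) ∨
    (∃ n : ℕ, 1 ≤ n ∧ IsSimpleGroup G ∧ Nat.card G = (2 ^ (2 * n + 1)) ^ 2 * ((2 ^ (2 * n + 1)) ^ 2 + 1) * (2 ^ (2 * n + 1) - 1) ∧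
        (2 ^ (2 * n + 1) - 1).primeFactorsList.length ≤ 2 ∧ (2 ^ (2 * n + 1) - 2 ^ (n + 1) + 1).primeFactorsList.length ≤ 2 ∧
        (2 ^ (2 * n + 1) + 2 ^ (n + 1) + 1).primeFactorsList.length ≤ 2) := by
  classical
  haveI : Fact (Nat.Prime 2) := ⟨Nat.prime_two⟩
  have H := isCIT_of_no_mixed hno
  obtain ⟨T, hT, hTs, hlistT, hone, -⟩ :=
    exists_socle (fun L _ _ _ hna HL => IsCIT.classification HL hna) H hns
  haveI := hT
  haveI := hTs
  have HQ := quotient_isCIT H (CfsgLib.Solvable.Cores.isPGroup_pCore 2)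
  have hQ := h.of_surjective (QuotientGroup.mk'_surjective (Cfsg.pCore 2 G))
  have hindex : 2 ∣ Nat.card T → ∃ j, T.index = 2 ^ j := fun h2 => by
    obtain ⟨a, ha⟩ := exists_prime_orderOf_dvd_card' (G := T) 2 h2
    exact index_two_pow HQ T hone a.2 (by rw [Subgroup.orderOf_coe]; exact ha)
  -- `HasSevenThree` makes the socle everything and kills the core
  have seven : ∀ {L : Type} [Group L] (φ : T ≃* L), HasSevenThree L →
      2 ∣ Nat.card L → 7 ∣ Nat.card L → ¬ 49 ∣ Nat.card L → Nonempty (G ≃* L) := by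
    intro L _ φ hL h2 h7 h49
    rw [← Nat.card_congr φ.toEquiv] at h2 h7 h49
    obtain ⟨j, hj⟩ := hindex h2
    have hT7 := hL.map φ.symm.toMonoidHom φ.symm.injective
    obtain ⟨e⟩ := equiv_socle h H T (eq_top_of_sevenThree HQ T hj hT7 h7 h49) fun V _ ρ M => by
      obtain ⟨x, y, h1, h2, h3⟩ := hT7.map T.subtype T.subtype_injective
      exact M.false_of_frobenius h1 h2 h3
    exact ⟨e.trans φ⟩
  rcases hlistT with ⟨F, _, _, hq, ⟨φ⟩⟩ | ⟨F, _, _, h4, ⟨φ⟩⟩ | ⟨F, _, _, n, hn, hF, ⟨φ⟩⟩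
  · have hlarge := CfsgLib.Perm.ZGroup.three_lt_of_simple_psl φ
    rcases hq with h9 | ⟨m, hm⟩ | ⟨hpr, k, hk⟩
    · obtain ⟨ψ⟩ := Cfsg.Agent.S0254.result h9
      obtain ⟨j, hj⟩ := hindex (by
        rw [Nat.card_congr (φ.trans ψ).toEquiv, Nat.card_eq_fintype_card, card_alternatingGroup]
        decide)
      obtain ⟨e⟩ := equiv_socle h H T
        (eq_top_of_altSix HQ (fun x hx => hQ.four_of_even HQ hx) T hj (φ.trans ψ)) fun V _ ρ M =>
        M.false_of_altSix (T.subtype.comp (φ.trans ψ).symm.toMonoidHom)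
          (T.subtype_injective.comp (φ.trans ψ).symm.injective)
      exact Or.inr (Or.inr (Or.inl ⟨F, inferInstance, inferInstance, Or.inr h9, ⟨e.trans φ⟩⟩))
    · refine Or.inl (even_case h H T hone (m := m) ?_ hm φ)
      by_contra hm2
      interval_cases m <;> norm_num at hm <;> omega
    · -- Fermat and Mersenne primes: only five and seven survive
      haveI := Fact.mk hpr
      haveI : CharP F (Fintype.card F) := charP_of_card (k := 1) hpr (pow_one _).symm
      have hodd : Nat.gcd 2 (Fintype.card F - 1) = 2 := by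
        refine Nat.gcd_eq_left ?_
        rcases hpr.eq_two_or_odd with h2 | h2 <;> omega
      have hex := CfsgLib.LocalEven.Spectrum.psl_exists (F := F) (Fintype.card F)
      rw [hodd] at hex
      have hk3 : k ≤ 3 := by
        by_contra hk4
        obtain ⟨j, rfl⟩ : ∃ j, k = j + 1 := ⟨k - 1, by omega⟩
        rw [pow_succ] at hk
        obtain ⟨x, hx⟩ : ∃ x : Matrix.ProjectiveSpecialLinearGroup (Fin 2) F, orderOf x = 2 ^ j := by
          rcases hk with hk | hk
          · exact hex _ (Or.inr (Or.inl (by rw [hk]; omega)))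
          · exact hex _ (Or.inr (Or.inr (show 2 ^ j = (Fintype.card F + 1) / 2 by omega)))
        obtain ⟨g, hg⟩ := exists_orderOf_socle φ x
        have h4 := orderOf_dvd_of_pow_eq_one
          (h.four_of_even H (x := g) (by rw [hg, hx]; exact dvd_pow_self 2 (by omega)))
        rw [hg, hx] at h4
        have := (Nat.pow_dvd_pow_iff_le_right (by norm_num : 1 < 2)).1 (show 2 ^ j ∣ 2 ^ 2 from h4)
        omega
      obtain h5 | h7 : Fintype.card F = 5 ∨ Fintype.card F = 7 := by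
        rcases hk with hk | hk <;> interval_cases k <;> norm_num at hk <;>
          first
            | omega
            | (exfalso; rw [hk] at hpr; norm_num at hpr)
      · have h60 : Nat.card T = 60 := by
          have hc := CfsgLib.Perm.ZGroup.card_psl2_gcd (F := F)
          rw [← Nat.card_congr φ.toEquiv, h5] at hc
          norm_num at hc
          omega
        obtain ⟨e⟩ := Cfsg.Agent.S0494.result h60
        haveI : Fintype (GaloisField 2 2) := Fintype.ofFinite _
        have h4 : Fintype.card (GaloisField 2 2) = 4 := by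
          rw [← Nat.card_eq_fintype_card, GaloisField.card 2 2 two_ne_zero]; norm_num
        obtain ⟨e'⟩ := CfsgLib.Classical.Quat.psl2_four_equiv_alt h4
        exact Or.inl (even_case h H T hone (m := 2) le_rfl (by rw [h4]; norm_num) (e.trans e'.symm))
      · obtain ⟨e⟩ := seven φ (hasSevenThree_psl_seven h7) (by rw [card_psl_two_seven h7]; norm_num)
          (by rw [card_psl_two_seven h7]; norm_num) (by rw [card_psl_two_seven h7]; norm_num)
        exact Or.inr (Or.inr (Or.inl ⟨F, inferInstance, inferInstance, Or.inl h7, ⟨e⟩⟩))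
  · obtain ⟨e⟩ := seven φ (hasSevenThree_psl_three_four h4) (by rw [card_psl3_four h4]; norm_num)
      (by rw [card_psl3_four h4]; norm_num) (by rw [card_psl3_four h4]; norm_num)
    exact Or.inr (Or.inr (Or.inr (Or.inl ⟨F, inferInstance, inferInstance, h4, ⟨e⟩⟩)))
  · exact Or.inr (Or.inr (Or.inr (Or.inr (suzuki_case h H T hone hn hF φ))))

end CfsgLib.Recognition.SparseOrders
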