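import Cfsg.Agent.Lib.Recognition.SparseOrders.Basic
import Cfsg.Agent.Lib.Recognition.CITGraph.Reduce

/-!
# Normal 2-subgroups under fixed point free actions

In a group with 2-groups as involution centralisers the elements of odd order act freely on the
elementary abelian normal 2-subgroups; averaging over a Frobenius group or over the four lines of a
plane of order 9 then shows that such a subgroup is trivial.
-/

set_option autoImplicit false
set_option linter.unusedSectionVars false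
set_option linter.style.haveILetI false

open Subgroup

namespace CfsgLib.Recognition.SparseOrders

open CfsgLib.Recognition.CIT CfsgLib.Recognition.PrimeOrders CfsgLib.Recognition.CITGraph

universe u

variable {G : Type u} [Group G] [Finite G]

/-- No element of order `2r`, `r` an odd prime: the centralisers of involutions are 2-groups. -/
theorem isCIT_of_no_mixed (hno : ∀ r : ℕ, r.Prime → r ≠ 2 → ¬ ∃ x : G, orderOf x = 2 * r) :
    IsCIT G := by
  intro t ht
  refine isPGroup_of_forall fun d hd hodd => ?_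
  by_contra hd1
  obtain ⟨r, hr, hrd⟩ := Nat.exists_prime_and_dvd (mt orderOf_eq_one_iff.1 hd1)
  have hr2 : r ≠ 2 := fun e => hodd.not_two_dvd_nat (e ▸ hrd)
  have he : orderOf (d ^ (orderOf d / r)) = r :=
    orderOf_pow_orderOf_div (orderOf_pos d).ne' hrd
  have hcom : Commute t (d ^ (orderOf d / r)) :=
    Commute.pow_right (show Commute t d from (mem_centralizer_singleton_iff.1 hd).symm) _
  refine hno r hr hr2 ⟨t * d ^ (orderOf d / r), ?_⟩
  rw [hcom.orderOf_mul_eq_mul_orderOf_of_coprime (by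
    rw [ht, he]; exact (Nat.coprime_primes Nat.prime_two hr).2 (Ne.symm hr2)), ht, he]

theorem exists_two_pow_of_even (H : IsCIT G) {x : G} (hx : 2 ∣ orderOf x) :
    ∃ k, x ^ 2 ^ k = 1 := by
  obtain ⟨k, hk⟩ := exists_odd_pow x
  refine ⟨k, by_contra fun hne => ?_⟩
  exact not_commute_two_odd H (orderOf_pow_orderOf_div (orderOf_pos x).ne' hx) hk hne
    (Commute.pow_pow_self x _ _).eq

/-- The elements of even order satisfy `x ^ 4 = 1`. -/
theorem Sparse.four_of_even (h : Sparse G) (H : IsCIT G) {x : G} (hx : 2 ∣ orderOf x) :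
    x ^ 4 = 1 := by
  obtain ⟨k, hk⟩ := exists_two_pow_of_even H hx
  obtain ⟨j, -, hj⟩ := (Nat.dvd_prime_pow Nat.prime_two).1 (orderOf_dvd_of_pow_eq_one hk)
  rw [← orderOf_dvd_iff_pow_eq_one, hj]
  by_contra hn
  have h3 : 3 ≤ j := by
    by_contra hj3
    exact hn (Nat.pow_dvd_pow 2 (show j ≤ 2 by omega))
  have key : ∀ i, i ≤ j → orderOf (x ^ (orderOf x / 2 ^ i)) = 2 ^ i := fun i hi =>
    orderOf_pow_orderOf_div (orderOf_pos x).ne' (hj ▸ Nat.pow_dvd_pow 2 hi)
  refine h 2 Nat.prime_two (x ^ (orderOf x / 2 ^ 1)) (x ^ (orderOf x / 2 ^ 2))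
    (x ^ (orderOf x / 2 ^ 3)) ?_ ?_ ?_ ⟨?_, ?_, ?_⟩ <;>
    simp only [key 1 (by omega), key 2 (by omega), key 3 h3] <;> norm_num

/-- Averaging over a group `H` of odd order and the conjugates of `y`. -/
theorem eq_one_of_average {Q V : Type*} [Group Q] [Finite Q] [CommGroup V] (ρ : Q →* MulAut V)
    (two : ∀ v : V, v * v = 1) (H : Subgroup Q) (hodd : Odd (Nat.card H)) (y : Q) {k : ℕ}
    (hk : 0 < k) (hnorm : ∀ a ∈ H, y⁻¹ * a * y ∈ H)
    (hfree : ∀ j, 0 < j → j < k → ∀ a ∈ H, a * y ^ j = y ^ j * a → a = 1)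
    (hH : ∀ v, (∀ a ∈ H, ρ a v = v) → v = 1)
    (hY : ∀ a ∈ H, ∀ v, ∏ j ∈ Finset.range k, ρ (a * y ^ j * a⁻¹) v = 1) (v : V) : v = 1 := by
  classical
  haveI : Fintype H := Fintype.ofFinite H
  have hHv : ∀ w, ∏ a : H, ρ a w = 1 := fun w => hH _ fun b hb => by
    rw [map_prod]
    refine Fintype.prod_equiv (Equiv.mulLeft ⟨b, hb⟩) _ _ fun a => ?_
    rw [Equiv.coe_mulLeft, Subgroup.coe_mul, map_mul, MulAut.mul_apply]
  have hnormj : ∀ j, ∀ a ∈ H, (y ^ j)⁻¹ * a * y ^ j ∈ H := by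
    intro j
    induction j with
    | zero => intro a ha; simpa using ha
    | succ j ih =>
      intro a ha
      have := hnorm _ (ih a ha)
      simpa [pow_succ, mul_assoc] using this
  have hterm : ∀ j, 0 < j → j < k → ∏ a : H, ρ ((a : Q) * y ^ j * (a : Q)⁻¹) v = 1 := by
    intro j h0 h1
    let e : H → H := fun a => ⟨(y ^ j)⁻¹ * a * y ^ j * (a : Q)⁻¹,
      H.mul_mem (hnormj j a a.2) (H.inv_mem a.2)⟩
    have he : Function.Injective e := by
      intro a b hab
      have h2 : (y ^ j)⁻¹ * (a : Q) * y ^ j * (a : Q)⁻¹ = (y ^ j)⁻¹ * b * y ^ j * (b : Q)⁻¹ :=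
        congrArg Subtype.val hab
      refine Subtype.ext (inv_mul_eq_one.1
        (hfree j h0 h1 ((b : Q)⁻¹ * a) (H.mul_mem (H.inv_mem b.2) a.2) ?_)).symm
      calc (b : Q)⁻¹ * a * y ^ j
          = (b : Q)⁻¹ * y ^ j * ((y ^ j)⁻¹ * a * y ^ j * (a : Q)⁻¹) * a := by group
        _ = y ^ j * ((b : Q)⁻¹ * a) := by rw [h2]; group
    calc ∏ a : H, ρ ((a : Q) * y ^ j * (a : Q)⁻¹) v = ∏ a : H, ρ (y ^ j) (ρ (e a : Q) v) :=
          Finset.prod_congr rfl fun a _ => by
            rw [← MulAut.mul_apply, ← map_mul]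
            congr 2
            show (a : Q) * y ^ j * (a : Q)⁻¹ = y ^ j * ((y ^ j)⁻¹ * a * y ^ j * (a : Q)⁻¹)
            group
      _ = ρ (y ^ j) (∏ a : H, ρ (e a : Q) v) := (map_prod _ _ _).symm
      _ = 1 := by
        rw [(Finite.injective_iff_bijective.1 he).prod_comp fun a : H => ρ (a : Q) v, hHv, map_one]
  have htot : ∏ j ∈ Finset.range k, ∏ a : H, ρ ((a : Q) * y ^ j * (a : Q)⁻¹) v = 1 := by
    rw [Finset.prod_comm]
    exact Finset.prod_eq_one fun a _ => hY a a.2 v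
  rw [Finset.prod_eq_single 0 (fun j hj h0 => hterm j (Nat.pos_of_ne_zero h0) (Finset.mem_range.1 hj))
    (fun h => absurd (Finset.mem_range.2 hk) h)] at htot
  simp only [pow_zero, mul_one, mul_inv_cancel, map_one, MulAut.one_apply, Finset.prod_const,
    Finset.card_univ, ← Nat.card_eq_fintype_card] at htot
  obtain ⟨l, hl⟩ := hodd
  rwa [hl, pow_succ, pow_mul, pow_two, two, one_pow, one_mul] at htot

/-- An action on a nontrivial elementary abelian 2-group, free for the elements of odd order, with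
`1 + q + q ^ 2 + q ^ 3` killing everything for `q` of order four. -/
structure FreeModule (Q : Type*) [Group Q] (V : Type*) [CommGroup V] (ρ : Q →* MulAut V) : Prop where
  nontrivial : ∃ v : V, v ≠ 1
  two : ∀ v : V, v * v = 1
  free : ∀ q : Q, Odd (orderOf q) → q ≠ 1 → ∀ v : V, ρ q v = v → v = 1
  four : ∀ q : Q, orderOf q = 4 → ∀ v : V, ∏ j ∈ Finset.range 4, ρ (q ^ j) v = 1

theorem exists_module (h : Sparse G) (H : IsCIT G) {N : Subgroup G} [N.Normal] (hN : IsPGroup 2 N)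
    (hne : N ≠ ⊥) :
    ∃ (V : Type u) (_ : CommGroup V) (ρ : G ⧸ N →* MulAut V), FreeModule (G ⧸ N) V ρ := by
  classical
  haveI : Fact (Nat.Prime 2) := ⟨Nat.prime_two⟩
  let Z : Subgroup G :=
    { carrier := {x | x ∈ N ∧ (∀ n ∈ N, n * x = x * n) ∧ x * x = 1}
      one_mem' := ⟨N.one_mem, fun n _ => by simp, by simp⟩
      mul_mem' := fun {a b} ha hb => ⟨N.mul_mem ha.1 hb.1,
        fun n hn => Commute.mul_right (ha.2.1 n hn) (hb.2.1 n hn), by
          rw [Commute.mul_mul_mul_comm (hb.2.1 a ha.1).symm, ha.2.2, hb.2.2, one_mul]⟩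
      inv_mem' := fun {a} ha => by rwa [inv_eq_of_mul_eq_one_right ha.2.2] }
  haveI : Z.Normal := ⟨fun x hx g => ⟨(inferInstance : N.Normal).conj_mem x hx.1 g, fun n hn => by
    have e := hx.2.1 (g⁻¹ * n * g)
      (by simpa using (inferInstance : N.Normal).conj_mem n hn g⁻¹)
    calc n * (g * x * g⁻¹) = g * (g⁻¹ * n * g * x) * g⁻¹ := by group
      _ = g * x * g⁻¹ * n := by rw [e]; group, by
    calc g * x * g⁻¹ * (g * x * g⁻¹) = g * (x * x) * g⁻¹ := by group
      _ = 1 := by rw [hx.2.2]; group⟩⟩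
  let inst : CommGroup Z := { (inferInstance : Group Z) with
    mul_comm := fun a b => Subtype.ext (b.2.2.1 a a.2.1) }
  let conj : G →* MulAut Z := MulAut.conjNormal
  have hker : N ≤ conj.ker := fun n hn => MulEquiv.ext fun v => Subtype.ext (by
    show ((MulAut.conjNormal n) v : G) = v
    rw [MulAut.conjNormal_apply, v.2.2.1 n hn]; group)
  refine ⟨Z, inst, QuotientGroup.lift N conj hker, ?_, fun v => Subtype.ext v.2.2.2, ?_, ?_⟩
  · obtain ⟨a, ha, ha2⟩ : ∃ a : N, a ∈ Subgroup.center N ∧ orderOf a = 2 := by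
      haveI : Nontrivial N := (Subgroup.nontrivial_iff_ne_bot N).2 hne
      haveI : Group.IsNilpotent N := hN.isNilpotent
      haveI : Nontrivial (Subgroup.center N) := hN.center_nontrivial
      obtain ⟨k, hk0, hk⟩ := (hN.to_subgroup (Subgroup.center N)).nontrivial_iff_card.1 inferInstance
      obtain ⟨a, ha⟩ := exists_prime_orderOf_dvd_card' (G := Subgroup.center N) 2
        (hk ▸ dvd_pow_self 2 (by omega))
      exact ⟨a, a.2, by rw [Subgroup.orderOf_coe, ha]⟩
    refine ⟨⟨a, a.2, fun n hn => congrArg Subtype.val (Subgroup.mem_center_iff.1 ha ⟨n, hn⟩), ?_⟩, ?_⟩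
    · rw [← Subgroup.coe_mul, ← pow_two, ← ha2, pow_orderOf_eq_one, Subgroup.coe_one]
    · intro e
      rw [orderOf_eq_one_iff.2 (Subtype.ext (show (a : G) = 1 from congrArg (fun w : Z => (w : G)) e))]
        at ha2
      omega
  · intro q hq hq1 v hv
    obtain ⟨g, rfl⟩ := QuotientGroup.mk_surjective q
    obtain ⟨k, hk⟩ := exists_odd_pow g
    by_contra hv1
    have hv2 : orderOf (v : G) = 2 :=
      orderOf_eq_prime (by rw [pow_two]; exact v.2.2.2) fun e => hv1 (Subtype.ext e)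
    have hgv : g * (v : G) * g⁻¹ = v := congrArg Subtype.val hv
    have hc : Commute g (v : G) := mul_inv_eq_iff_eq_mul.1 hgv
    refine not_commute_two_odd H hv2 hk (fun e => hq1 (eq_one_of_odd_of_two hq (k := k) ?_))
      (hc.pow_left _).eq
    rw [← QuotientGroup.mk_pow, e, QuotientGroup.mk_one]
  · intro q hq v
    obtain ⟨g, rfl⟩ := QuotientGroup.mk_surjective q
    have key : ∀ g' : G, (QuotientGroup.mk g' : G ⧸ N) = QuotientGroup.mk g → g' ^ 4 = 1 := fun g' e =>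
      h.four_of_even H ((show 2 ∣ 4 by norm_num).trans
        (hq ▸ e ▸ orderOf_map_dvd (QuotientGroup.mk' N) g'))
    have e1 := key g rfl
    have e2 := key ((v : G) * g) (by
      rw [QuotientGroup.mk_mul, (QuotientGroup.eq_one_iff _).2 v.2.1, one_mul])
    refine Subtype.ext ?_
    rw [Finset.prod_range_succ, Finset.prod_range_succ, Finset.prod_range_succ, Finset.prod_range_one]
    simp only [← QuotientGroup.mk_pow]
    show g ^ 0 * (v : G) * (g ^ 0)⁻¹ * (g ^ 1 * v * (g ^ 1)⁻¹) * (g ^ 2 * v * (g ^ 2)⁻¹) *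
      (g ^ 3 * v * (g ^ 3)⁻¹) = 1
    calc g ^ 0 * (v : G) * (g ^ 0)⁻¹ * (g ^ 1 * v * (g ^ 1)⁻¹) * (g ^ 2 * v * (g ^ 2)⁻¹) *
          (g ^ 3 * v * (g ^ 3)⁻¹)
        = ((v : G) * g) ^ 4 * (g ^ 4)⁻¹ := by simp only [pow_succ, pow_zero, one_mul]; group
      _ = 1 := by rw [e1, e2, inv_one, mul_one]

namespace FreeModule

variable {Q : Type*} [Group Q] [Finite Q] {V : Type*} [CommGroup V] {ρ : Q →* MulAut V}

theorem cube (M : FreeModule Q V ρ) {q : Q} (hq : q ^ 3 = 1) (hq1 : q ≠ 1) (v : V) :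
    v * ρ q v * ρ (q ^ 2) v = 1 := by
  refine M.free q ((show Odd 3 by decide).of_dvd_nat (orderOf_dvd_of_pow_eq_one hq)) hq1 _ ?_
  rw [map_mul, map_mul, ← MulAut.mul_apply, ← MulAut.mul_apply, ← map_mul, ← map_mul, ← pow_two,
    ← pow_succ', hq, map_one, MulAut.one_apply]
  rw [mul_comm _ v, ← mul_assoc]

theorem false_of_plane (M : FreeModule Q V ρ) {a b : Q} (ha : a ^ 3 = 1) (hb : b ^ 3 = 1)
    (hab : a * b = b * a) (ha1 : a ≠ 1) (hb1 : b ≠ 1) (h1 : a * b ≠ 1) (h2 : a * b ^ 2 ≠ 1) :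
    False := by
  obtain ⟨v, hv⟩ := M.nontrivial
  have hc : Commute a b := hab
  have e2 := M.cube hb hb1 v
  have e3 := M.cube (q := a * b) (by rw [hc.mul_pow, ha, hb, one_mul]) h1 v
  have e4 := M.cube (q := a * b ^ 2)
    (by rw [(hc.pow_right 2).mul_pow, ← pow_mul, mul_comm 2 3, pow_mul, ha, hb, one_pow, one_mul]) h2 v
  have e5 := M.cube ha ha1 (ρ b v)
  have e6 := M.cube ha ha1 (ρ (b ^ 2) v)
  have hb4 : (b ^ 2) ^ 2 = b := by rw [← pow_mul, show 2 * 2 = 3 + 1 from rfl, pow_succ, hb, one_mul]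
  rw [hc.mul_pow] at e3
  rw [(hc.pow_right 2).mul_pow, hb4] at e4
  simp only [← MulAut.mul_apply, ← map_mul] at e5 e6
  have h8 : v * (v * v) = 1 := by
    calc v * (v * v) = v * (v * v) * ((ρ b v * ρ (a * b) v * ρ (a ^ 2 * b) v) *
          (ρ (b ^ 2) v * ρ (a * b ^ 2) v * ρ (a ^ 2 * b ^ 2) v)) := by rw [e5, e6, mul_one, mul_one]
      _ = (v * ρ b v * ρ (b ^ 2) v) * (v * ρ (a * b) v * ρ (a ^ 2 * b ^ 2) v) *
          (v * ρ (a * b ^ 2) v * ρ (a ^ 2 * b) v) := by
        simp only [mul_comm, mul_left_comm, mul_assoc]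
      _ = 1 := by rw [e2, e3, e4, one_mul, one_mul]
  exact hv (by rwa [M.two, mul_one] at h8)

theorem false_of_frobenius (M : FreeModule Q V ρ) {h y : Q} (hh : orderOf h = 7) (hy : y ^ 3 = 1)
    (hrel : y * h * y⁻¹ = h ^ 2) : False := by
  obtain ⟨v, hv⟩ := M.nontrivial
  have hh7 : h ^ 7 = 1 := hh ▸ pow_orderOf_eq_one h
  have hh1 : h ≠ 1 := fun e => by rw [e, orderOf_one] at hh; omega
  have hy1 : y ≠ 1 := fun e => by
    rw [e, one_mul, inv_one, mul_one, pow_two] at hrel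
    exact hh1 (mul_eq_left.1 hrel.symm)
  have hinv : y⁻¹ * h * y = h ^ 4 := by
    have e : y * h ^ 4 * y⁻¹ = h := by
      rw [← conj_pow, hrel, ← pow_mul, show 2 * 4 = 7 + 1 from rfl, pow_succ, hh7, one_mul]
    calc y⁻¹ * h * y = y⁻¹ * (y * h ^ 4 * y⁻¹) * y := by rw [e]
      _ = h ^ 4 := by group
  have hH : ∀ a ∈ zpowers h, ∃ i : ℕ, h ^ i = a := fun a ha =>
    mem_powers_iff_mem_zpowers.2 ha
  refine hv (eq_one_of_average ρ M.two (zpowers h) (by rw [Nat.card_zpowers, hh]; decide) y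
    (k := 3) (by norm_num) ?_ ?_ ?_ ?_ v)
  · intro a ha
    obtain ⟨i, rfl⟩ := hH a ha
    have e : y⁻¹ * h ^ i * y = (h ^ 4) ^ i := by
      rw [← hinv]; simpa using (conj_pow (a := y⁻¹) (b := h) (i := i)).symm
    rw [e]
    exact pow_mem (pow_mem (mem_zpowers h) 4) i
  · intro j h0 h3 a ha hc
    obtain ⟨i, rfl⟩ := hH a ha
    have e : ∀ i, y * h ^ i * y⁻¹ = h ^ (2 * i) := fun i => by rw [← conj_pow, hrel, ← pow_mul]
    have hc' : y ^ j * h ^ i * (y ^ j)⁻¹ = h ^ i := mul_inv_eq_iff_eq_mul.2 hc.symm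
    have hd : 7 ∣ i := by
      interval_cases j
      · rw [pow_one, e] at hc'
        have := pow_eq_pow_iff_modEq.1 hc'
        rw [hh, Nat.ModEq] at this
        omega
      · rw [pow_two, mul_inv_rev, show y * y * h ^ i * (y⁻¹ * y⁻¹) = y * (y * h ^ i * y⁻¹) * y⁻¹ by
          group, e, e] at hc'
        have := pow_eq_pow_iff_modEq.1 hc'
        rw [hh, Nat.ModEq] at this
        omega
    obtain ⟨c, rfl⟩ := hd
    rw [pow_mul, hh7, one_pow]
  · exact fun w hw => M.free h (by rw [hh]; decide) hh1 w (hw h (mem_zpowers h))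
  · intro a _ w
    have := M.cube (q := a * y * a⁻¹) (by rw [conj_pow, hy]; group)
      (fun e => hy1 (conj_eq_one_iff.1 e)) w
    rw [conj_pow] at this
    simpa [Finset.prod_range_succ] using this

theorem false_of_four (M : FreeModule Q V ρ) (H : IsCIT Q) {U : Subgroup Q} (hU : Odd (Nat.card U))
    (hU1 : U ≠ ⊥) {y : Q} (hy : orderOf y = 4) (hn : ∀ a ∈ U, y⁻¹ * a * y ∈ U) : False := by
  haveI : Fact (Nat.Prime 2) := ⟨Nat.prime_two⟩
  obtain ⟨v, hv⟩ := M.nontrivial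
  obtain ⟨u, hu, hu1⟩ : ∃ u ∈ U, u ≠ 1 := by
    by_contra hne
    push Not at hne
    exact hU1 ((Subgroup.eq_bot_iff_forall U).2 hne)
  refine hv (eq_one_of_average ρ M.two U hU y (k := 4) (by norm_num) hn ?_ ?_ ?_ v)
  · intro j h0 h4 a ha hc
    refine H.eq_one_of_commute (P := zpowers y) (IsPGroup.of_card (n := 2)
      (by rw [Nat.card_zpowers, hy]; norm_num)) (pow_mem (mem_zpowers y) j) ?_
      (orderOf_odd_of_mem hU ha) hc
    intro e
    have := Nat.le_of_dvd h0 (hy ▸ orderOf_dvd_of_pow_eq_one e)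
    omega
  · exact fun w hw => M.free u (orderOf_odd_of_mem hU hu) hu1 w (hw u hu)
  · intro a _ w
    simp only [← conj_pow]
    exact M.four _ (by rw [← MulAut.conj_apply, MulEquiv.orderOf_eq, hy]) w

end FreeModule

end CfsgLib.Recognition.SparseOrders
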