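import Cfsg.Agent.Lib.Recognition.CITGraph.Reduce

/-!
# The socle is everything for `PSL(2,7)`, `PSL(3,4)` and `A₆`

A 2-element outside the socle would give an element of order `6` at a Sylow 7-subgroup, and of order
`6` or `8` at a Sylow 2-subgroup of `A₆`.
-/

set_option autoImplicit false
set_option linter.unusedSectionVars false

open Subgroup

namespace CfsgLib.Recognition.SparseOrders

open CfsgLib.Recognition.CIT CfsgLib.Recognition.PrimeOrders CfsgLib.Recognition.CITGraph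

universe u

/-- A Frobenius subgroup of order 21. -/
def HasSevenThree (L : Type*) [Group L] : Prop :=
  ∃ h y : L, orderOf h = 7 ∧ y ^ 3 = 1 ∧ y * h * y⁻¹ = h ^ 2

theorem HasSevenThree.map {L M : Type*} [Group L] [Group M] (hL : HasSevenThree L) (f : L →* M)
    (hf : Function.Injective f) : HasSevenThree M := by
  obtain ⟨h, y, h1, h2, h3⟩ := hL
  exact ⟨f h, f y, by rw [orderOf_injective f hf, h1], by rw [← map_pow, h2, map_one],
    by rw [← map_inv, ← map_mul, ← map_mul, h3, map_pow]⟩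

variable {X : Type u} [Group X] [Finite X]

/-- Outside a normal subgroup of 2-power index there are 2-elements with square inside. -/
theorem pow_notMem {T : Subgroup X} [T.Normal] {j : ℕ} (hj : T.index = 2 ^ j) {x : X} (hx : x ∉ T)
    {m : ℕ} (hm : Odd m) : x ^ m ∉ T := by
  intro h
  refine hx ((QuotientGroup.eq_one_iff x).1 ?_)
  have h1 : (QuotientGroup.mk x : X ⧸ T) ^ m = 1 := by
    rw [← QuotientGroup.mk_pow]; exact (QuotientGroup.eq_one_iff _).2 h
  have h2 : (QuotientGroup.mk x : X ⧸ T) ^ (2 ^ j) = 1 := by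
    rw [← hj, Subgroup.index_eq_card]; exact pow_card_eq_one'
  have h3 := pow_gcd_eq_one.2 ⟨h1, h2⟩
  rwa [Nat.Coprime.pow_right j (Nat.coprime_two_right.2 hm), pow_one] at h3

theorem conj_pow_iterate {g h : X} {c : ℕ} (e : g * h * g⁻¹ = h ^ c) :
    ∀ n : ℕ, g ^ n * h * (g ^ n)⁻¹ = h ^ (c ^ n)
  | 0 => by simp
  | n + 1 => by
    calc g ^ (n + 1) * h * (g ^ (n + 1))⁻¹ = g * (g ^ n * h * (g ^ n)⁻¹) * g⁻¹ := by
          rw [pow_succ']; group
      _ = h ^ (c ^ (n + 1)) := by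
          rw [conj_pow_iterate e n, ← conj_pow, e, ← pow_mul, pow_succ']

theorem cast_pow_eq_one {g h : X} (hh : orderOf h = 7) {c n : ℕ} (e : g * h * g⁻¹ = h ^ c)
    (hn : g ^ n = 1) : (c : ZMod 7) ^ n = 1 := by
  have h1 := conj_pow_iterate e n
  rw [hn, one_mul, inv_one, mul_one] at h1
  nth_rewrite 1 [← pow_one h] at h1
  have h2 := pow_eq_pow_iff_modEq.1 h1
  rw [hh, ← ZMod.natCast_eq_natCast_iff] at h2
  simpa using h2.symm

theorem sq_seven : ∀ d : ZMod 7, d ^ 2 = 1 → d = 1 ∨ d = 6 := by decide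

theorem pow_five_seven : ((6 : ZMod 7) * 2) ^ 6 = 1 ∧
    ∀ r : Fin 6, ((6 : ZMod 7) * 2) ^ (r : ℕ) = 1 → r = 0 := by decide

theorem eq_top_of_sevenThree (H : IsCIT X) (T : Subgroup X) [T.Normal] {j : ℕ}
    (hj : T.index = 2 ^ j) (hT : HasSevenThree T) (h7 : 7 ∣ Nat.card T) (h49 : ¬ 49 ∣ Nat.card T) :
    T = ⊤ := by
  classical
  haveI : Fact (Nat.Prime 7) := ⟨by norm_num⟩
  obtain ⟨h, y, hh, hy, hrel⟩ := hT
  have hfac : (Nat.card T).factorization 7 = 1 := by
    have h0 : Nat.card T ≠ 0 := Nat.card_pos.ne'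
    have h1 := (Nat.Prime.dvd_iff_one_le_factorization (by norm_num) h0).1 h7
    have h2 := Nat.Prime.pow_dvd_iff_le_factorization (k := 2) (show Nat.Prime 7 by norm_num) h0
    norm_num at h2
    omega
  let P : Sylow 7 T := Sylow.ofCard (zpowers h) (by rw [Nat.card_zpowers, hh, hfac, pow_one])
  have hF := Sylow.normalizer_sup_eq_top P
  by_contra hne
  obtain ⟨x, hx, hxT⟩ : ∃ x ∈ normalizer (((P : Subgroup T).map T.subtype : Subgroup X) : Set X),
      x ∉ T := by
    by_contra hcon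
    push Not at hcon
    exact hne (le_antisymm le_top (hF ▸ sup_le hcon le_rfl))
  obtain ⟨a, m, hm, ham⟩ := Nat.exists_eq_two_pow_mul_odd (orderOf_pos x).ne'
  set g := x ^ m with hg
  have hgn := (normalizer _).pow_mem hx m
  rw [← hg] at hgn
  have hgT : g ∉ T := pow_notMem hj hxT hm
  have hg2 : g ^ 2 ^ a = 1 := by rw [hg, ← pow_mul, mul_comm, ← ham, pow_orderOf_eq_one]
  have hhX : orderOf (h : X) = 7 := by rw [Subgroup.orderOf_coe, hh]
  obtain ⟨c, hc⟩ : ∃ c : ℕ, g * (h : X) * g⁻¹ = (h : X) ^ c := by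
    obtain ⟨w, hw, e⟩ := (Subgroup.mem_normalizer_iff.1 hgn (h : X)).1 ⟨h, mem_zpowers h, rfl⟩
    obtain ⟨c, rfl⟩ := mem_powers_iff_mem_zpowers.2 hw
    exact ⟨c, e.symm.trans (by simp)⟩
  have hc1 := cast_pow_eq_one hhX hc hg2
  have hc0 : (c : ZMod 7) ≠ 0 := fun e => by
    rw [e, zero_pow (by positivity)] at hc1; exact zero_ne_one hc1
  have hc2 : (c : ZMod 7) ^ 2 = 1 := by
    have h3 := pow_gcd_eq_one.2 ⟨hc1, ZMod.pow_card_sub_one_eq_one hc0⟩
    have h4 : Nat.gcd (2 ^ a) (7 - 1) ∣ 2 := by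
      refine Nat.Coprime.dvd_of_dvd_mul_right (k := Nat.gcd (2 ^ a) (7 - 1)) (n := 3) ?_
        (Nat.gcd_dvd_right _ _)
      exact Nat.Coprime.coprime_dvd_left (Nat.gcd_dvd_left _ _) (Nat.Coprime.pow_left a (by norm_num))
    obtain ⟨l, hl⟩ := h4
    rw [hl, pow_mul, h3, one_pow]
  have h16 : (c : ZMod 7) = 1 ∨ (c : ZMod 7) = 6 := sq_seven _ hc2
  have hg1 : g ≠ 1 := fun e => hgT (e ▸ T.one_mem)
  rcases h16 with e | e
  · have hmod : c ≡ 1 [MOD 7] := (ZMod.natCast_eq_natCast_iff _ _ _).1 (by rw [e, Nat.cast_one])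
    rw [← hhX] at hmod
    have hcom : (h : X) * g = g * h := by
      rw [pow_eq_pow_iff_modEq.2 hmod, pow_one] at hc
      exact (mul_inv_eq_iff_eq_mul.1 hc).symm
    refine absurd (H.eq_one_of_commute (P := zpowers g) ?_ (mem_zpowers g) hg1
      (by rw [hhX]; decide) hcom) (fun e => by rw [e, orderOf_one] at hhX; omega)
    obtain ⟨i, -, hi⟩ := (Nat.dvd_prime_pow Nat.prime_two).1 (orderOf_dvd_of_pow_eq_one hg2)
    exact IsPGroup.of_card (n := i) (by rw [Nat.card_zpowers, hi])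
  · have hgy : g * (y : X) * (h : X) * (g * (y : X))⁻¹ = (h : X) ^ (c * 2) := by
      have e' : (y : X) * h * (y : X)⁻¹ = (h : X) ^ 2 := by exact_mod_cast congrArg Subtype.val hrel
      calc g * (y : X) * (h : X) * (g * (y : X))⁻¹ = g * ((y : X) * h * (y : X)⁻¹) * g⁻¹ := by group
        _ = (h : X) ^ (c * 2) := by rw [e', ← conj_pow, hc, ← pow_mul]
    have h5 := cast_pow_eq_one hhX hgy (pow_orderOf_eq_one (g * (y : X)))
    push_cast at h5
    rw [e] at h5
    have h6 : 6 ∣ orderOf (g * (y : X)) := by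
      rw [← Nat.div_add_mod (orderOf (g * (y : X))) 6, pow_add, pow_mul, pow_five_seven.1, one_pow,
        one_mul] at h5
      exact Nat.dvd_of_mod_eq_zero
        (Fin.ext_iff.1 (pow_five_seven.2 ⟨_, Nat.mod_lt _ (by norm_num)⟩ h5))
    exact not_commute_two_odd H
      (orderOf_pow_orderOf_div (orderOf_pos _).ne' ((show 2 ∣ 6 by norm_num).trans h6))
      (by rw [orderOf_pow_orderOf_div (orderOf_pos _).ne' ((show 3 ∣ 6 by norm_num).trans h6)]; decide)
      (fun e3 => by
        have := orderOf_pow_orderOf_div (orderOf_pos _).ne' ((show 3 ∣ 6 by norm_num).trans h6)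
        rw [e3, orderOf_one] at this; omega)
      (Commute.pow_pow_self (g * (y : X)) _ _).eq

/-! ### The alternating group of degree six -/

namespace AltSix

/-- An involution. -/
def a : alternatingGroup (Fin 6) :=
  ⟨Equiv.swap 0 1 * Equiv.swap 2 3, Equiv.Perm.mem_alternatingGroup.2 (by decide)⟩

/-- An involution with `a * b` of order four. -/
def b : alternatingGroup (Fin 6) :=
  ⟨Equiv.swap 1 3 * Equiv.swap 4 5, Equiv.Perm.mem_alternatingGroup.2 (by decide)⟩

/-- The central involution. -/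
def z : alternatingGroup (Fin 6) := a * b * (a * b)

/-- An element of order three normalising `⟨a, z⟩`. -/
def d : alternatingGroup (Fin 6) :=
  ⟨Equiv.swap 0 2 * Equiv.swap 0 1, Equiv.Perm.mem_alternatingGroup.2 (by decide)⟩

/-- The elements of a Sylow 2-subgroup. -/
def eight : List (alternatingGroup (Fin 6)) := [1, z, a * b, b * a, a, a * z, b, b * z]

/-- A Sylow 2-subgroup. -/
def sylow : Subgroup (alternatingGroup (Fin 6)) where
  carrier := {u | u ∈ eight}
  one_mem' := List.mem_cons_self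
  mul_mem' := fun {u v} hu hv =>
    (by decide +kernel : ∀ u ∈ eight, ∀ v ∈ eight, u * v ∈ eight) u hu v hv
  inv_mem' := fun {u} hu => (by decide +kernel : ∀ u ∈ eight, u⁻¹ ∈ eight) u hu

theorem card_sylow : Nat.card sylow = 8 := by
  have e : Nat.card sylow = Nat.card {u // u ∈ eight.toFinset} :=
    Nat.card_congr (Equiv.subtypeEquivRight fun u => List.mem_toFinset.symm)
  rw [e, Nat.card_eq_fintype_card, Fintype.card_coe]
  decide +kernel

theorem sq_cases : ∀ u ∈ eight, u * u = 1 → u = 1 ∨ u = z ∨ u = a ∨ u = a * z ∨ u = b ∨ u = b * z := by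
  decide +kernel

theorem sq_ne : ∀ u ∈ eight, u * u ≠ 1 → u * u = z := by decide +kernel

theorem centralizer_a : ∀ u ∈ eight, u * a = a * u → u ∈ [1, z, a, a * z] := by decide +kernel

theorem twist : ∀ u ∈ [1, z, a, a * z], ∃ v ∈ [1, z, a, a * z], u = v * (d * v * d⁻¹)⁻¹ := by
  decide +kernel

theorem conj_mem : d⁻¹ * a * d ∈ [1, z, a, a * z] ∧ d⁻¹ * z * d ∈ [1, z, a, a * z] := by
  decide +kernel

theorem mul_ne : ∀ β ∈ [b, b * z], ∀ u ∈ [1, z], β * u * a * (β * u * a) ≠ 1 := by decide +kernel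

theorem basic : a * a = 1 ∧ a ≠ 1 ∧ a ≠ z ∧ z ≠ 1 ∧ z * z = 1 ∧ a * z = z * a ∧
    b * a * b⁻¹ = a * z ∧ b * z * b⁻¹ = z ∧ (a * b) * (a * b) ≠ 1 ∧ d ^ 3 = 1 ∧ d ≠ 1 ∧
    z * a ≠ b ∧ a ≠ b ∧ a * z ≠ b ∧ a * z ≠ b * z ∧ a ≠ b * z := by decide +kernel

end AltSix

open AltSix in
theorem eq_top_of_altSix (H : IsCIT X) (h4 : ∀ x : X, 2 ∣ orderOf x → x ^ 4 = 1) (T : Subgroup X)
    [T.Normal] {j : ℕ} (hj : T.index = 2 ^ j) (φ : T ≃* alternatingGroup (Fin 6)) : T = ⊤ := by
  classical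
  haveI : Fact (Nat.Prime 2) := ⟨Nat.prime_two⟩
  obtain ⟨haa, ha1, haz, hz1, hzz, hazc, hba, hbz, hab4, hd3, hd1, -, hanb, -, -, hanbz⟩ := basic
  let ι : alternatingGroup (Fin 6) →* X := T.subtype.comp φ.symm.toMonoidHom
  have hι : Function.Injective ι := T.subtype_injective.comp φ.symm.injective
  have hιT : ∀ u, ι u ∈ T := fun u => (φ.symm u).2
  have hcardT : Nat.card T = 360 := by
    rw [Nat.card_congr φ.toEquiv, Nat.card_eq_fintype_card, card_alternatingGroup]; decide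
  set D := sylow.map ι with hD
  have hDcard : Nat.card D = 2 ^ 3 := by
    rw [hD, Subgroup.card_map_of_injective hι, card_sylow]; norm_num
  have hsmall : ∀ K : Subgroup X, D ≤ K → K ≤ T → IsPGroup 2 K → K = D := by
    intro K hDK hKT hK
    obtain ⟨i, hi⟩ := IsPGroup.iff_card.1 hK
    have hdvd := Subgroup.card_dvd_of_le hKT
    rw [hi, hcardT] at hdvd
    have hi3 : i ≤ 3 := by
      by_contra hlt
      have := (Nat.pow_dvd_pow 2 (show 4 ≤ i by omega)).trans hdvd
      norm_num at this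
    exact (Subgroup.eq_of_le_of_card_ge hDK
      (by rw [hi, hDcard]; exact Nat.pow_le_pow_right (by norm_num) hi3)).symm
  have hDmem : ∀ c ∈ D, ∃ u ∈ eight, ι u = c := fun c hc => hc
  -- the centraliser of `z` in `T`
  have hCz : T ⊓ centralizer {ι z} = D := by
    refine hsmall _ (le_inf ?_ ?_) inf_le_left ((H (ι z) ?_).to_le inf_le_right)
    · rintro _ ⟨u, -, rfl⟩; exact hιT u
    · rintro _ ⟨u, hu, rfl⟩
      rw [mem_centralizer_singleton_iff, ← map_mul, ← map_mul,
        (by decide +kernel : ∀ u ∈ eight, u * z = z * u) u hu]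
    · exact orderOf_eq_prime (by rw [pow_two, ← map_mul, hzz, map_one])
        fun e => hz1 (hι (e.trans ι.map_one.symm))
  by_contra hne
  obtain ⟨S, hDS⟩ := (IsPGroup.of_card hDcard).exists_le_sylow
  have hST : (S : Subgroup X) ⊓ T = D := hsmall _ (le_inf hDS (by rintro _ ⟨u, -, rfl⟩; exact hιT u))
    inf_le_right (S.2.to_le inf_le_left)
  -- a 2-element outside `T` with square inside, in `S`
  obtain ⟨x, hxS, hxT, hx2T⟩ : ∃ x ∈ (S : Subgroup X), x ∉ T ∧ x * x ∈ T := by
    obtain ⟨x₀, hx₀⟩ : ∃ x, x ∉ T := by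
      by_contra hcon
      push Not at hcon
      exact hne (eq_top_iff.2 fun x _ => hcon x)
    obtain ⟨e, m, hm, hem⟩ := Nat.exists_eq_two_pow_mul_odd (orderOf_pos x₀).ne'
    have hx₁ := pow_notMem hj hx₀ hm
    have hp : IsPGroup 2 (zpowers (x₀ ^ m)) := by
      obtain ⟨i, -, hi⟩ := (Nat.dvd_prime_pow Nat.prime_two).1 (orderOf_dvd_of_pow_eq_one
        (show (x₀ ^ m) ^ 2 ^ e = 1 by rw [← pow_mul, mul_comm, ← hem, pow_orderOf_eq_one]))
      exact IsPGroup.of_card (n := i) (by rw [Nat.card_zpowers, hi])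
    obtain ⟨S', hS'⟩ := hp.exists_le_sylow
    obtain ⟨g, hg⟩ := MulAction.exists_smul_eq X S' S
    set x₂ := g * x₀ ^ m * g⁻¹ with hx₂
    have h2S : x₂ ∈ (S : Subgroup X) := by
      rw [← hg, Sylow.coe_subgroup_smul]
      exact ⟨_, hS' (mem_zpowers _), rfl⟩
    have h2T : x₂ ∉ T := fun hh => hx₁ (by
      have := (inferInstance : T.Normal).conj_mem _ hh g⁻¹
      simpa [hx₂, mul_assoc] using this)
    have hex : ∃ i, x₂ ^ 2 ^ i ∈ T := by
      obtain ⟨k, hk⟩ := S.2 ⟨x₂, h2S⟩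
      exact ⟨k, by rw [show x₂ ^ 2 ^ k = 1 from congrArg Subtype.val hk]; exact T.one_mem⟩
    have h0 : Nat.find hex ≠ 0 := fun e0 => h2T (by
      have := Nat.find_spec hex
      rwa [e0, pow_zero, pow_one] at this)
    obtain ⟨i, hi⟩ := Nat.exists_eq_succ_of_ne_zero h0
    refine ⟨x₂ ^ 2 ^ i, (S : Subgroup X).pow_mem h2S _, Nat.find_min hex (by omega), ?_⟩
    have := Nat.find_spec hex
    rwa [hi, pow_succ, pow_mul, pow_two] at this
  have hDn : ∀ g ∈ (S : Subgroup X), ∀ c ∈ D, g * c * g⁻¹ ∈ D := fun g hg c hc => by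
    rw [← hST] at hc ⊢
    exact ⟨(S : Subgroup X).mul_mem ((S : Subgroup X).mul_mem hg hc.1) ((S : Subgroup X).inv_mem hg),
      (inferInstance : T.Normal).conj_mem c hc.2 g⟩
  have hfour : ∀ g ∈ (S : Subgroup X), g ∉ T → g ^ 4 = 1 := fun g hg hgT => h4 g (by
    obtain ⟨k, hk⟩ := S.2 ⟨g, hg⟩
    obtain ⟨i, -, hi⟩ := (Nat.dvd_prime_pow Nat.prime_two).1
      (orderOf_dvd_of_pow_eq_one (congrArg Subtype.val hk : g ^ 2 ^ k = 1))
    rw [hi]
    refine dvd_pow_self 2 fun e => hgT ?_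
    rw [orderOf_eq_one_iff.1 (show orderOf g = 1 by rw [hi, e, pow_zero])]
    exact T.one_mem)
  have hzfix : ∀ g ∈ (S : Subgroup X), g * ι z * g⁻¹ = ι z := fun g hg => by
    obtain ⟨u, hu, e⟩ := hDmem _ (hDn g hg (ι (a * b))
      ⟨a * b, (by simp [eight] : a * b ∈ eight), rfl⟩)
    have he : ι (u * u) = g * ι z * g⁻¹ := by
      rw [map_mul, e, show z = a * b * (a * b) from rfl, map_mul ι (a * b) (a * b)]; group
    rw [← he, sq_ne u hu fun h1 => hab4 (hι ?_)]
    rw [h1, map_one] at he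
    rw [map_one]
    exact conj_eq_one_iff.1 he.symm
  have hcent : ∀ g ∈ T, g * ι a = ι a * g → g * ι z = ι z * g →
      ∃ u ∈ [1, z, a, a * z], ι u = g := fun g hgT hga hgz => by
    obtain ⟨u, hu, rfl⟩ := hDmem g (hCz ▸ ⟨hgT, mem_centralizer_singleton_iff.2 hgz⟩)
    exact ⟨u, centralizer_a u hu (hι (by rw [map_mul, map_mul, hga])), rfl⟩
  -- no element of `S` outside `T` centralises `⟨a, z⟩`
  have hfix : ∀ g ∈ (S : Subgroup X), g ∉ T → g * ι a * g⁻¹ ≠ ι a := by
    intro g hgS hgT hga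
    have hga' : g * ι a = ι a * g := mul_inv_eq_iff_eq_mul.1 hga
    have hgz : g * ι z = ι z * g := mul_inv_eq_iff_eq_mul.1 (hzfix g hgS)
    have hcomm : ∀ w ∈ [1, z, a, a * z], ι w * g = g * ι w := by
      intro w hw
      simp only [List.mem_cons, List.not_mem_nil, or_false] at hw
      rcases hw with rfl | rfl | rfl | rfl
      · rw [map_one, one_mul, mul_one]
      · exact hgz.symm
      · exact hga'.symm
      · rw [map_mul, mul_assoc, ← hgz, ← mul_assoc, ← hga', mul_assoc]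
    set D' := ι d with hD'
    set c := g⁻¹ * (D' * g * D'⁻¹) with hc
    have hcT : c ∈ T := by
      have e : c = g⁻¹ * D' * g * D'⁻¹ := by rw [hc]; group
      rw [e]
      exact T.mul_mem (by simpa using (inferInstance : T.Normal).conj_mem D' (hιT d) g⁻¹)
        (T.inv_mem (hιT d))
    have hcw : ∀ w, d⁻¹ * w * d ∈ [1, z, a, a * z] → w ∈ [1, z, a, a * z] → c * ι w = ι w * c := by
      intro w hw hw'
      have h1 : ι (d⁻¹ * w * d) * g = g * ι (d⁻¹ * w * d) := hcomm _ hw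
      simp only [map_mul, map_inv, ← hD'] at h1
      have h2 : D' * g * D'⁻¹ * ι w = ι w * (D' * g * D'⁻¹) := by
        calc D' * g * D'⁻¹ * ι w = D' * (g * (D'⁻¹ * ι w * D')) * D'⁻¹ := by group
          _ = ι w * (D' * g * D'⁻¹) := by rw [← h1]; group
      calc c * ι w = g⁻¹ * (D' * g * D'⁻¹ * ι w) := by rw [hc, mul_assoc]
        _ = g⁻¹ * (ι w * g) * (g⁻¹ * (D' * g * D'⁻¹)) := by rw [h2]; group
        _ = ι w * c := by rw [hcomm w hw', hc]; group
    obtain ⟨u, hu, hue⟩ := hcent c hcT (hcw a conj_mem.1 (by simp)) (hcw z conj_mem.2 (by simp))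
    obtain ⟨v, hv, huv⟩ := twist u hu
    have hvD : ι v ∈ D := ⟨v, (by decide +kernel : ∀ v ∈ [1, z, a, a * z], v ∈ eight) v hv, rfl⟩
    have hcom : D' * (g * ι v) = g * ι v * D' := by
      have e : D' * (g * ι v) * D'⁻¹ = g * c * (D' * ι v * D'⁻¹) := by rw [hc]; group
      refine mul_inv_eq_iff_eq_mul.1 ?_
      rw [e, ← hue, huv, map_mul, map_inv, map_mul, map_mul, map_inv, ← hD', mul_assoc,
        mul_assoc (ι v), inv_mul_cancel, mul_one]
    refine hd1 (hι ((H.eq_one_of_commute S.2 ((S : Subgroup X).mul_mem hgS (hDS hvD)) ?_ ?_ hcom).trans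
      ι.map_one.symm))
    · intro e
      exact hgT (eq_inv_of_mul_eq_one_left e ▸ T.inv_mem (hιT v))
    · exact (show Odd 3 by decide).of_dvd_nat
        (orderOf_dvd_of_pow_eq_one (by rw [hD', ← map_pow, hd3, map_one]))
  obtain ⟨β, hβ, hβe⟩ := hDmem _ (hDn x hxS (ι a) ⟨a, (by simp [eight] : a ∈ eight), rfl⟩)
  have hβ2 : β * β = 1 := hι (by
    rw [map_mul, hβe, map_one,
      show x * ι a * x⁻¹ * (x * ι a * x⁻¹) = x * (ι a * ι a) * x⁻¹ by group, ← map_mul, haa,
      map_one]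
    group)
  have hbD : ι b ∈ D := ⟨b, (by simp [eight] : b ∈ eight), rfl⟩
  rcases sq_cases β hβ hβ2 with rfl | rfl | rfl | rfl | hb
  · rw [map_one] at hβe
    exact ha1 (hι ((conj_eq_one_iff.1 hβe.symm).trans ι.map_one.symm))
  · rw [← hzfix x hxS] at hβe
    exact haz (hι (mul_left_cancel (mul_right_cancel hβe)).symm)
  · exact hfix x hxS hxT hβe.symm
  · -- `x * b` centralises `a`
    refine hfix (x * ι b) ((S : Subgroup X).mul_mem hxS (hDS hbD))
      (fun h => hxT (by simpa using T.mul_mem h (T.inv_mem (hιT b)))) ?_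
    rw [show x * ι b * ι a * (x * ι b)⁻¹ = x * (ι b * ι a * (ι b)⁻¹) * x⁻¹ by group, ← map_inv,
      ← map_mul, ← map_mul, hba, map_mul,
      show x * (ι a * ι z) * x⁻¹ = x * ι a * x⁻¹ * (x * ι z * x⁻¹) by group, ← hβe, hzfix x hxS,
      ← map_mul, mul_assoc, hzz, mul_one]
  · -- `x` interchanges the two fours groups: an element of order eight
    have hb' : β ∈ [b, b * z] := by simpa using hb
    obtain ⟨u, hu, hue⟩ := hDmem (x * x) (hST ▸ ⟨(S : Subgroup X).mul_mem hxS hxS, hx2T⟩)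
    have hu2 : u * u = 1 := hι (by
      rw [map_mul, hue, map_one, ← hfour x hxS hxT]
      simp only [pow_succ, pow_zero, one_mul, mul_assoc])
    have hxu : x * ι u * x⁻¹ = ι u := by rw [hue]; group
    have huz : u ∈ [1, z] := by
      rcases sq_cases u hu hu2 with rfl | rfl | rfl | rfl | rfl | rfl
      · simp
      · simp
      · rw [← hβe] at hxu
        rcases hb with rfl | rfl
        · exact absurd (hι hxu).symm hanb
        · exact absurd (hι hxu).symm hanbz
      · rw [map_mul, show x * (ι a * ι z) * x⁻¹ = x * ι a * x⁻¹ * (x * ι z * x⁻¹) by group,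
          hzfix x hxS, ← hβe] at hxu
        rcases hb with rfl | rfl
        · exact absurd (mul_right_cancel hxu) fun e => hanb (hι e).symm
        · exact absurd (mul_right_cancel hxu) fun e => hanbz (hι e).symm
      · exfalso
        rcases hb with rfl | rfl
        · exact hanb (hι (mul_left_cancel (mul_right_cancel (hxu.trans hβe))).symm)
        · -- `x a x⁻¹ = b z` forces `a = b z`
          rw [map_mul, ← hxu, ← hzfix x hxS,
            show x * ι b * x⁻¹ * (x * ι z * x⁻¹) = x * (ι b * ι z) * x⁻¹ by group, ← map_mul] at hβe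
          exact hanbz (hι (mul_left_cancel (mul_right_cancel hβe))).symm
      · exfalso
        rcases hb with rfl | rfl
        · have e : ι b = ι (b * z) * ι z := by rw [← map_mul, mul_assoc, hzz, mul_one]
          rw [e, ← hxu, ← hzfix x hxS,
            show x * ι (b * z) * x⁻¹ * (x * ι z * x⁻¹) = x * (ι (b * z) * ι z) * x⁻¹ by group,
            ← e] at hβe
          exact hanb (hι (mul_left_cancel (mul_right_cancel hβe))).symm
        · exact hanbz (hι (mul_left_cancel (mul_right_cancel (hxu.trans hβe))).symm)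
    have h8 := hfour (x * ι a) ((S : Subgroup X).mul_mem hxS (hDS ⟨a, (by simp [eight] : a ∈ eight), rfl⟩))
      (fun h => hxT (by simpa using T.mul_mem h (T.inv_mem (hιT a))))
    refine mul_ne β hb' u huz (hι ?_)
    rw [map_one, ← h8, map_mul, map_mul, map_mul, hβe, hue]
    simp only [pow_succ, pow_zero, one_mul]
    group

end CfsgLib.Recognition.SparseOrders
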