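import Cfsg.Agent.Lib.Recognition.SparseOrders.CitFree
import Cfsg.Agent.Lib.Recognition.SparseOrders.CitSocle
import Cfsg.Agent.Lib.Recognition.CITGraph.Ident

/-!
# Frobenius subgroups in the models

Subgroups of order 21 in `PSL(2,7)` and `PSL(3,4)`, a plane of order 9 in `A₆`, and an element of
order four normalising a torus.
-/

set_option autoImplicit false
set_option linter.unusedSectionVars false
set_option linter.style.haveILetI false

open Subgroup

namespace CfsgLib.Recognition.SparseOrders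

open CfsgLib.Recognition.CIT CfsgLib.Recognition.PrimeOrders CfsgLib.Recognition.CITGraph

/-- A Frobenius group of order 21 stays one modulo the centre. -/
theorem HasSevenThree.quotient_center {A B : Type*} [Group A] [Group B] (hA : HasSevenThree A)
    (f : A →* B) (hf : Function.Injective f) : HasSevenThree (B ⧸ Subgroup.center B) := by
  haveI : Fact (Nat.Prime 7) := ⟨by norm_num⟩
  obtain ⟨h, y, h1, h2, h3⟩ := hA
  let g : A →* B ⧸ Subgroup.center B := (QuotientGroup.mk' _).comp f
  refine ⟨g h, g y, orderOf_eq_prime ?_ ?_, by rw [← map_pow, h2, map_one], ?_⟩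
  · rw [← map_pow, show h ^ 7 = 1 from h1 ▸ pow_orderOf_eq_one h, map_one]
  · intro e
    have hc : f h ∈ Subgroup.center B := (QuotientGroup.eq_one_iff (f h)).1 e
    have hcom : y * h = h * y := hf (by
      rw [map_mul, map_mul]; exact Subgroup.mem_center_iff.1 hc (f y))
    rw [hcom, mul_inv_cancel_right, pow_two] at h3
    rw [mul_eq_left.1 h3.symm, orderOf_one] at h1
    omega
  · rw [← map_inv, ← map_mul, ← map_mul, h3, map_pow]

theorem slMap_injective {n : Type*} [Fintype n] [DecidableEq n] {R S : Type*} [CommRing R]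
    [CommRing S] (f : R →+* S) (hf : Function.Injective f) :
    Function.Injective (Matrix.SpecialLinearGroup.map (n := n) f) := fun A B e =>
  Subtype.ext (Matrix.ext fun i j => hf (by
    have := congrArg (fun M : Matrix.SpecialLinearGroup n S => (M : Matrix n n S) i j) e
    simpa using this))

/-- An element of order seven of `SL(2,7)`. -/
def slTwoSeven : Matrix.SpecialLinearGroup (Fin 2) (ZMod 7) := ⟨!![1, 1; 0, 1], by decide +kernel⟩

/-- An element of order three normalising it. -/
def slTwoThree : Matrix.SpecialLinearGroup (Fin 2) (ZMod 7) := ⟨!![4, 0; 0, 2], by decide +kernel⟩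

/-- An element of order seven of `SL(3,2)`. -/
def slThreeSeven : Matrix.SpecialLinearGroup (Fin 3) (ZMod 2) :=
  ⟨!![0, 0, 1; 1, 0, 1; 0, 1, 0], by decide +kernel⟩

/-- An element of order three normalising it. -/
def slThreeThree : Matrix.SpecialLinearGroup (Fin 3) (ZMod 2) :=
  ⟨!![1, 0, 0; 0, 0, 1; 0, 1, 1], by decide +kernel⟩

theorem slTwo_rel : slTwoSeven ^ 7 = 1 ∧ slTwoSeven.1 ≠ 1 ∧ slTwoThree ^ 3 = 1 ∧
    slTwoThree * slTwoSeven * slTwoThree⁻¹ = slTwoSeven ^ 2 := by
  refine ⟨Subtype.ext ?_, ?_, Subtype.ext ?_, Subtype.ext ?_⟩ <;> decide +kernel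

theorem slThree_rel : slThreeSeven ^ 7 = 1 ∧ slThreeSeven.1 ≠ 1 ∧ slThreeThree ^ 3 = 1 ∧
    slThreeThree * slThreeSeven * slThreeThree⁻¹ = slThreeSeven ^ 2 := by
  refine ⟨Subtype.ext ?_, ?_, Subtype.ext ?_, Subtype.ext ?_⟩ <;> decide +kernel

theorem hasSevenThree_sl_two : HasSevenThree (Matrix.SpecialLinearGroup (Fin 2) (ZMod 7)) := by
  obtain ⟨h1, h2, h3, h4⟩ := slTwo_rel
  haveI : Fact (Nat.Prime 7) := ⟨by norm_num⟩
  exact ⟨_, _, orderOf_eq_prime h1 fun e => h2 (congrArg Subtype.val e), h3, h4⟩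

theorem hasSevenThree_sl_three : HasSevenThree (Matrix.SpecialLinearGroup (Fin 3) (ZMod 2)) := by
  obtain ⟨h1, h2, h3, h4⟩ := slThree_rel
  haveI : Fact (Nat.Prime 7) := ⟨by norm_num⟩
  exact ⟨_, _, orderOf_eq_prime h1 fun e => h2 (congrArg Subtype.val e), h3, h4⟩

theorem charP_of_card {F : Type*} [Field F] [Fintype F] {p k : ℕ} (hp : p.Prime)
    (h : Fintype.card F = p ^ k) : CharP F p := by
  haveI := Fact.mk hp
  exact charP_of_card_eq_prime_pow h

theorem hasSevenThree_psl_seven {F : Type*} [Field F] [Fintype F] (h7 : Fintype.card F = 7) :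
    HasSevenThree (Matrix.ProjectiveSpecialLinearGroup (Fin 2) F) := by
  haveI : Fact (Nat.Prime 7) := ⟨by norm_num⟩
  haveI : CharP F 7 := charP_of_card (k := 1) (by norm_num) (by rw [h7]; norm_num)
  exact hasSevenThree_sl_two.quotient_center _ (slMap_injective (ZMod.castHom dvd_rfl F)
    (ZMod.castHom_injective F))

theorem hasSevenThree_psl_three_four {F : Type*} [Field F] [Fintype F] (h4 : Fintype.card F = 4) :
    HasSevenThree (Matrix.ProjectiveSpecialLinearGroup (Fin 3) F) := by
  haveI : Fact (Nat.Prime 2) := ⟨Nat.prime_two⟩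
  haveI : CharP F 2 := charP_of_card (k := 2) Nat.prime_two (by rw [h4]; norm_num)
  exact hasSevenThree_sl_three.quotient_center _ (slMap_injective (ZMod.castHom dvd_rfl F)
    (ZMod.castHom_injective F))

theorem card_psl_two_seven {F : Type*} [Field F] [Fintype F] (h7 : Fintype.card F = 7) :
    Nat.card (Matrix.ProjectiveSpecialLinearGroup (Fin 2) F) = 168 := by
  have hc := CfsgLib.Perm.ZGroup.card_psl2_gcd (F := F)
  rw [h7] at hc
  norm_num at hc
  omega

namespace AltSix

/-- An element of order three commuting with `d`. -/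
def d' : alternatingGroup (Fin 6) :=
  ⟨Equiv.swap 3 5 * Equiv.swap 3 4, Equiv.Perm.mem_alternatingGroup.2 (by decide +kernel)⟩

theorem plane : d ^ 3 = 1 ∧ d' ^ 3 = 1 ∧ d * d' = d' * d ∧ d ≠ 1 ∧ d' ≠ 1 ∧ d * d' ≠ 1 ∧
    d * d' ^ 2 ≠ 1 := by decide +kernel

end AltSix

/-- A free module excludes a plane of order nine from `A₆`. -/
theorem FreeModule.false_of_altSix {Q : Type*} [Group Q] [Finite Q] {V : Type*} [CommGroup V]
    {ρ : Q →* MulAut V} (M : FreeModule Q V ρ) (f : alternatingGroup (Fin 6) →* Q)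
    (hf : Function.Injective f) : False := by
  obtain ⟨h1, h2, h3, h4, h5, h6, h7⟩ := AltSix.plane
  have hne : ∀ u, u ≠ 1 → f u ≠ 1 := fun u hu e => hu (hf (e.trans f.map_one.symm))
  exact M.false_of_plane (a := f AltSix.d) (b := f AltSix.d') (by rw [← map_pow, h1, map_one])
    (by rw [← map_pow, h2, map_one]) (by rw [← map_mul, ← map_mul, h3]) (hne _ h4) (hne _ h5)
    (by rw [← map_mul]; exact hne _ h6) (by rw [← map_pow, ← map_mul]; exact hne _ h7)

/-- An element of order four normalising a torus of index four in its normaliser. -/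
theorem exists_four_normalizing {Q : Type*} [Group Q] [Finite Q] (H : IsCIT Q) {U : Subgroup Q}
    (hU : Odd (Nat.card U)) (hU1 : U ≠ ⊥)
    (hN : Nat.card (normalizer (U : Set Q)) = 4 * Nat.card U) :
    ∃ y : Q, orderOf y = 4 ∧ ∀ a ∈ U, y⁻¹ * a * y ∈ U := by
  haveI : Fact (Nat.Prime 2) := ⟨Nat.prime_two⟩
  obtain ⟨R, hR⟩ := Sylow.exists_subgroup_card_pow_prime (G := normalizer (U : Set Q)) 2 (n := 2)
    (by rw [hN]; norm_num)
  have hn : ∀ r : R, ∀ a ∈ U, ((r : normalizer (U : Set Q)) : Q) * a *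
      ((r : normalizer (U : Set Q)) : Q)⁻¹ ∈ U := fun r a ha =>
    (Subgroup.mem_normalizer_iff.1 (r : normalizer (U : Set Q)).2 a).1 ha
  by_cases hex : ∃ r : R, orderOf r = 4
  · obtain ⟨r, hr⟩ := hex
    refine ⟨((r : normalizer (U : Set Q)) : Q), by rw [Subgroup.orderOf_coe, Subgroup.orderOf_coe, hr],
      fun a ha => ?_⟩
    simpa using hn r⁻¹ a ha
  · exfalso
    push Not at hex
    obtain ⟨u, hu, hu1⟩ : ∃ u ∈ U, u ≠ 1 := by
      by_contra hne
      push Not at hne
      exact hU1 ((Subgroup.eq_bot_iff_forall U).2 hne)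
    have h2 : ∀ r : R, r ≠ 1 → orderOf ((r : normalizer (U : Set Q)) : Q) = 2 := fun r hr1 => by
      rw [Subgroup.orderOf_coe, Subgroup.orderOf_coe]
      obtain ⟨i, hi, e⟩ := (Nat.dvd_prime_pow Nat.prime_two).1 (hR ▸ orderOf_dvd_natCard r)
      interval_cases i
      · exact absurd (orderOf_eq_one_iff.1 (by simpa using e)) hr1
      · simpa using e
      · exact absurd (by simpa using e) (hex r)
    -- every involution of `R` inverts `U`
    have hinv : ∀ r : R, r ≠ 1 → ((r : normalizer (U : Set Q)) : Q) * u *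
        ((r : normalizer (U : Set Q)) : Q)⁻¹ = u⁻¹ := fun r hr1 =>
      inverts H hU (h2 r hr1) (hn r) hu
    classical
    haveI : Fintype R := Fintype.ofFinite R
    obtain ⟨r, hr1⟩ : ∃ r : R, r ≠ 1 := by
      by_contra hcon
      push Not at hcon
      haveI : Subsingleton R := ⟨fun a b => (hcon a).trans (hcon b).symm⟩
      have := hR
      rw [Nat.card_of_subsingleton (1 : R)] at this
      norm_num at this
    obtain ⟨s, hs1, hsr⟩ : ∃ s : R, s ≠ 1 ∧ s ≠ r := by
      by_contra hcon
      push Not at hcon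
      have hle : (Finset.univ : Finset R) ⊆ {1, r} := fun s _ => by
        rcases eq_or_ne s 1 with rfl | hs
        · exact Finset.mem_insert_self _ _
        · exact Finset.mem_insert_of_mem (Finset.mem_singleton.2 (hcon s hs))
      have h3 := (Finset.card_le_card hle).trans Finset.card_le_two
      rw [Finset.card_univ, ← Nat.card_eq_fintype_card, hR] at h3
      norm_num at h3
    have hrr : r * r = 1 := by
      have h4 := h2 r hr1
      rw [Subgroup.orderOf_coe, Subgroup.orderOf_coe] at h4
      rw [← pow_two, ← h4, pow_orderOf_eq_one]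
    have hrs : r * s ≠ 1 := fun e => hsr ((inv_eq_of_mul_eq_one_right e).symm.trans
      (inv_eq_of_mul_eq_one_right hrr))
    have e := hinv (r * s) hrs
    have e' : ((r * s : R) : normalizer (U : Set Q)) = (r : normalizer (U : Set Q)) * s := rfl
    rw [e', Subgroup.coe_mul] at e
    have e2 : ((r : normalizer (U : Set Q)) : Q) * (((s : normalizer (U : Set Q)) : Q) * u *
        ((s : normalizer (U : Set Q)) : Q)⁻¹) * ((r : normalizer (U : Set Q)) : Q)⁻¹ = u⁻¹ := by
      rw [← e]; group
    rw [hinv s hs1, ← conj_inv, hinv r hr1, inv_inv] at e2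
    exact hu1 (eq_one_of_odd_of_two (orderOf_odd_of_mem hU hu) (k := 1)
      (by rw [pow_one, pow_two]; nth_rewrite 1 [e2]; exact inv_mul_cancel u))

end CfsgLib.Recognition.SparseOrders
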