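import Cfsg.Agent.Lib.Recognition.SparseOrders.Basic
import Cfsg.Agent.Lib.Coprime.Sylow
import Cfsg.Agent.Lib.Solvable.Cores
import Cfsg.Agent.Lib.Fusion.Abelian

/-!
# A Klein four Sylow 2-subgroup in a mixed group

If `ρ` permutes the involutions of the Sylow four-group `V` and normalises an `r`-group `X` normalised
by `V`, then `x · x^ρ · x^(ρ²) = 1` on `X`, so `V` centralises `X`.  Hence maximal `V`-invariant
`r`-subgroups are determined by any such subgroup not centralised by `V`, and when the odd part of the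
centraliser of an involution is not centralised by `V`, it is abelian, inverted by `V`, contains the
normalisers of its nontrivial subgroups and `V` is self-centralising.
-/

set_option autoImplicit false
set_option linter.style.haveILetI false
set_option linter.unusedSectionVars false

namespace CfsgLib.Recognition.SparseOrders

open Subgroup

universe u

variable {G : Type u} [Group G]

/-- `ρ` has order 3 and permutes cyclically the involutions `t`, `ρtρ⁻¹`, `t(ρtρ⁻¹)` of `V`. -/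
structure Rot (V : Subgroup G) (t ρ : G) : Prop where
  mem : t ∈ V
  two : orderOf t = 2
  three : orderOf ρ = 3
  mem_conj : ρ * t * ρ⁻¹ ∈ V
  ne : ρ * t * ρ⁻¹ ≠ t
  cycle : ρ * (ρ * t * ρ⁻¹) * ρ⁻¹ = t * (ρ * t * ρ⁻¹)

section Four

variable [Finite G] {V : Subgroup G} [hV : IsKleinFour ↥V]

theorem four_sq {v : G} (hv : v ∈ V) : v * v = 1 :=
  congrArg Subtype.val (IsKleinFour.mul_self (⟨v, hv⟩ : V))

theorem four_inv {v : G} (hv : v ∈ V) : v⁻¹ = v :=
  inv_eq_of_mul_eq_one_right (four_sq hv)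

theorem four_comm {v w : G} (hv : v ∈ V) (hw : w ∈ V) : Commute v w := by
  haveI := IsKleinFour.isMulCommutative (G := ↥V)
  exact congrArg Subtype.val (mul_comm' (⟨v, hv⟩ : V) ⟨w, hw⟩)

theorem four_order {v : G} (hv : v ∈ V) (hv1 : v ≠ 1) : orderOf v = 2 :=
  orderOf_eq_prime (by rw [pow_two]; exact four_sq hv) hv1

theorem four_eq_mul {x y z : G} (hx : x ∈ V) (hy : y ∈ V) (hz : z ∈ V) (hx1 : x ≠ 1) (hy1 : y ≠ 1)
    (hxy : x ≠ y) (hz1 : z ≠ 1) (hzx : z ≠ x) (hzy : z ≠ y) : z = x * y := by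
  have := IsKleinFour.eq_mul_of_ne_all (x := (⟨x, hx⟩ : V)) (y := ⟨y, hy⟩) (z := ⟨z, hz⟩)
    (fun e => hx1 (congrArg Subtype.val e)) (fun e => hy1 (congrArg Subtype.val e))
    (fun e => hxy (congrArg Subtype.val e)) (fun e => hz1 (congrArg Subtype.val e))
    (fun e => hzx (congrArg Subtype.val e)) (fun e => hzy (congrArg Subtype.val e))
  exact congrArg Subtype.val this

theorem Rot.cases {t ρ v : G} (h : Rot V t ρ) (hv : v ∈ V) :
    v = 1 ∨ v = t ∨ v = ρ * t * ρ⁻¹ ∨ v = t * (ρ * t * ρ⁻¹) := by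
  by_contra hne
  rw [not_or, not_or, not_or] at hne
  have ht1 : t ≠ 1 := fun e => by simpa [e] using h.two
  have hu1 : ρ * t * ρ⁻¹ ≠ 1 := fun e => ht1 (conj_eq_one_iff.1 e)
  exact hne.2.2.2 (four_eq_mul h.mem h.mem_conj hv ht1 hu1 h.ne.symm hne.1 hne.2.1 hne.2.2.1)

theorem Rot.shift {t ρ : G} (h : Rot V t ρ) : Rot V (ρ * t * ρ⁻¹) ρ := by
  have ht1 : t ≠ 1 := fun e => by simpa [e] using h.two
  set u := ρ * t * ρ⁻¹ with hu
  have hcu : Commute t u := four_comm h.mem h.mem_conj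
  refine ⟨h.mem_conj, four_order h.mem_conj fun e => ht1 (conj_eq_one_iff.1 (hu ▸ e)), h.three, ?_,
    ?_, ?_⟩
  · rw [h.cycle]; exact mul_mem h.mem h.mem_conj
  · rw [h.cycle]
    exact fun e => ht1 (mul_right_cancel (e.trans (one_mul u).symm))
  · rw [h.cycle]
    calc ρ * (t * u) * ρ⁻¹ = (ρ * t * ρ⁻¹) * (ρ * u * ρ⁻¹) := by group
      _ = u * (t * u) := by rw [← hu, h.cycle]

theorem Rot.normalizes {t ρ : G} (h : Rot V t ρ) {v : G} (hv : v ∈ V) : ρ * v * ρ⁻¹ ∈ V := by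
  rcases h.cases hv with rfl | rfl | rfl | rfl
  · rw [mul_one, mul_inv_cancel]; exact one_mem _
  · exact h.mem_conj
  · rw [h.cycle]; exact mul_mem h.mem h.mem_conj
  · rw [← h.cycle]; exact (h.shift.shift).mem_conj

theorem Rot.mem_normalizer {t ρ : G} (h : Rot V t ρ) : ρ ∈ normalizer (V : Set G) := by
  have hle : V.map (MulAut.conj ρ).toMonoidHom ≤ V := by
    rintro _ ⟨v, hv, rfl⟩; exact h.normalizes hv
  exact mem_normalizer_iff_map_conj_eq.2
    (eq_of_le_of_card_ge hle (card_map_of_injective (MulAut.conj ρ).injective).ge)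

theorem Rot.of_mem {t ρ v : G} (h : Rot V t ρ) (hv : v ∈ V) (hv1 : v ≠ 1) : Rot V v ρ := by
  rcases h.cases hv with rfl | rfl | rfl | rfl
  · exact absurd rfl hv1
  · exact h
  · exact h.shift
  · have := h.shift.shift
    rwa [h.cycle] at this

theorem Rot.not_commute {t ρ v : G} (h : Rot V t ρ) (hv : v ∈ V) (hv1 : v ≠ 1) : ¬ Commute ρ v :=
  fun hc => (h.of_mem hv hv1).ne (by rw [hc.eq, mul_inv_cancel_right])

variable {r : ℕ} (hm : RMixed G r)

/-- The identity `x · x^ρ · x^(ρ²) = 1`. -/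
theorem RMixed.prod_eq_one (hm : RMixed G r) {X : Subgroup G} (hX : IsPGroup r X) {ρ : G}
    (hρ : orderOf ρ = 3) (hn : ρ ∈ normalizer (X : Set G)) {x : G} (hx : x ∈ X) :
    x * (ρ * x * ρ⁻¹) * (ρ * (ρ * x * ρ⁻¹) * ρ⁻¹) = 1 := by
  haveI : Fact r.Prime := ⟨hm.prime⟩
  have hρ3 : ρ * ρ * ρ = 1 := by
    have := pow_orderOf_eq_one ρ
    rwa [hρ, pow_succ, pow_two] at this
  have hXn : ∀ y ∈ X, ρ * y * ρ⁻¹ ∈ X := fun y hy => (mem_normalizer_iff.1 hn y).1 hy
  by_cases hr3 : r = 3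
  · subst hr3
    have hρp : IsPGroup 3 (zpowers ρ) :=
      IsPGroup.of_card (n := 1) (by rw [Nat.card_zpowers, hρ, pow_one])
    have hE : IsPGroup 3 (X ⊔ zpowers ρ : Subgroup G) :=
      hX.to_sup_of_normal_left' hρp (zpowers_le.2 hn)
    obtain ⟨k, hk⟩ := hE ⟨x * ρ, mul_mem (mem_sup_left hx) (mem_sup_right (mem_zpowers ρ))⟩
    obtain ⟨j, -, hj⟩ := (Nat.dvd_prime_pow Nat.prime_three).1
      (orderOf_dvd_of_pow_eq_one (congrArg Subtype.val hk : (x * ρ) ^ 3 ^ k = 1))
    have h3 := hm.pow_of_r hj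
    calc x * (ρ * x * ρ⁻¹) * (ρ * (ρ * x * ρ⁻¹) * ρ⁻¹)
        = (x * ρ) ^ 3 * (ρ * ρ * ρ)⁻¹ := by rw [pow_succ, pow_two]; group
      _ = 1 := by rw [h3, hρ3, inv_one, one_mul]
  · let f : X → X := fun y => ⟨(y : G)⁻¹ * (ρ * y * ρ⁻¹), X.mul_mem (X.inv_mem y.2) (hXn _ y.2)⟩
    have hf : Function.Injective f := by
      intro y y' e
      have e' : (y : G)⁻¹ * (ρ * y * ρ⁻¹) = (y' : G)⁻¹ * (ρ * y' * ρ⁻¹) := congrArg Subtype.val e
      by_contra hne
      set z : G := (y' : G) * (y : G)⁻¹ with hz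
      have hzX : z ∈ X := X.mul_mem y'.2 (X.inv_mem y.2)
      have hz1 : z ≠ 1 := fun e1 => hne (Subtype.ext (mul_inv_eq_one.1 e1).symm)
      have hzc : Commute ρ z := by
        refine mul_inv_eq_iff_eq_mul.1 ?_
        calc ρ * z * ρ⁻¹ = (y' : G) * ((y' : G)⁻¹ * (ρ * y' * ρ⁻¹)) * (ρ * y * ρ⁻¹)⁻¹ := by
              rw [hz]; group
          _ = z := by rw [← e', hz]; group
      obtain ⟨k, hk⟩ := hX ⟨z, hzX⟩
      obtain ⟨j, -, hj⟩ := (Nat.dvd_prime_pow hm.prime).1
        (orderOf_dvd_of_pow_eq_one (congrArg Subtype.val hk : z ^ r ^ k = 1))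
      have hzr : orderOf z = r := orderOf_eq_prime (hm.pow_of_r hj) hz1
      rcases hm.prime_of_commute_r hzr Nat.prime_three hρ hzc.symm with e1 | e1
      · omega
      · exact hr3 e1.symm
    obtain ⟨y, hy⟩ := Finite.surjective_of_injective hf ⟨x, hx⟩
    rw [show x = (y : G)⁻¹ * (ρ * y * ρ⁻¹) from (congrArg Subtype.val hy).symm]
    calc (y : G)⁻¹ * (ρ * y * ρ⁻¹) * (ρ * ((y : G)⁻¹ * (ρ * y * ρ⁻¹)) * ρ⁻¹) *
          (ρ * (ρ * ((y : G)⁻¹ * (ρ * y * ρ⁻¹)) * ρ⁻¹) * ρ⁻¹)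
        = (y : G)⁻¹ * ((ρ * ρ * ρ) * y * (ρ * ρ * ρ)⁻¹) := by group
      _ = 1 := by rw [hρ3, inv_one, one_mul, mul_one, inv_mul_cancel]

/-- What a rotated involution centralises in an invariant `r`-group is centralised by the next. -/
theorem RMixed.commute_of_fixed (hm : RMixed G r) {X : Subgroup G} (hX : IsPGroup r X)
    (hVX : V ≤ normalizer (X : Set G)) {t ρ : G} (h : Rot V t ρ) (hn : ρ ∈ normalizer (X : Set G))
    {x : G} (hx : x ∈ X) (htx : Commute t x) : Commute (ρ * t * ρ⁻¹) x := by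
  haveI : Fact r.Prime := ⟨hm.prime⟩
  set u := ρ * t * ρ⁻¹ with hu
  set w := t * u with hw
  have hmu : u ∈ V := h.mem_conj
  have hcu : Commute t u := four_comm h.mem hmu
  have hXn : ∀ g ∈ normalizer (X : Set G), ∀ y ∈ X, g * y * g⁻¹ ∈ X := fun g hg y hy =>
    (mem_normalizer_iff.1 hg y).1 hy
  set x' := ρ * x * ρ⁻¹ with hx'
  set x'' := ρ * x' * ρ⁻¹ with hx''
  have hux' : Commute u x' := (Commute.conj_iff ρ).2 htx
  have hwx'' : Commute w x'' := by
    have := (Commute.conj_iff ρ).2 hux'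
    rwa [h.cycle] at this
  have hprod : x * x' * x'' = 1 := hm.prod_eq_one hX h.three hn hx
  have hxx' : x * x' = x''⁻¹ := mul_eq_one_iff_eq_inv.1 hprod
  have hwc : Commute w (x * x') := hxx' ▸ hwx''.inv_right
  have htt := four_sq h.mem
  have huu := four_sq hmu
  set y := x⁻¹ * (u * x * u⁻¹) with hy
  have hcjx : w * x * w⁻¹ = u * x * u⁻¹ := by
    calc w * x * w⁻¹ = u * (t * x * t⁻¹) * u⁻¹ := by rw [hw, hcu.eq]; group
      _ = u * x * u⁻¹ := by rw [htx.eq, mul_inv_cancel_right]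
  have hcjx' : w * x' * w⁻¹ = t * x' * t⁻¹ := by
    calc w * x' * w⁻¹ = t * (u * x' * u⁻¹) * t⁻¹ := by rw [hw]; group
      _ = t * x' * t⁻¹ := by rw [hux'.eq, mul_inv_cancel_right]
  have hy' : y = x' * (t * x' * t⁻¹)⁻¹ := by
    have e : (u * x * u⁻¹) * (t * x' * t⁻¹) = x * x' := by
      rw [← hcjx, ← hcjx']
      calc w * x * w⁻¹ * (w * x' * w⁻¹) = w * (x * x') * w⁻¹ := by group
        _ = x * x' := by rw [hwc.eq, mul_inv_cancel_right]
    rw [hy, eq_mul_inv_iff_mul_eq, mul_assoc, e, inv_mul_cancel_left]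
  have huy : Commute u y := by
    rw [hy']
    refine hux'.mul_right (Commute.inv_right ?_)
    calc u * (t * x' * t⁻¹) = t * (u * x') * t⁻¹ := by rw [← mul_assoc, ← mul_assoc, ← hcu.eq]; group
      _ = t * (x' * u) * t⁻¹ := by rw [hux'.eq]
      _ = t * x' * t⁻¹ * u := by
          rw [show t * (x' * u) * t⁻¹ = t * x' * (u * t⁻¹) by group, (hcu.inv_left).symm.eq]; group
  have hyX : y ∈ X := X.mul_mem (X.inv_mem hx) (hXn u (hVX hmu) x hx)
  have hyinv : y = y⁻¹ := by
    calc y = u * y * u⁻¹ := by rw [huy.eq, mul_inv_cancel_right]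
      _ = (u * u) * (u * u)⁻¹ * (u * x⁻¹ * u⁻¹) * ((u * u) * x * (u * u)⁻¹) := by rw [hy]; group
      _ = y⁻¹ := by rw [huu, hy]; group
  have hy1 : y = 1 := by
    have hd : orderOf y ∣ 2 := orderOf_dvd_of_pow_eq_one (by
      rw [pow_two]; nth_rewrite 2 [hyinv]; exact mul_inv_cancel y)
    obtain ⟨k, hk⟩ := IsPGroup.exists_orderOf_eq_pow hX ⟨y, hyX⟩
    rw [Subgroup.orderOf_mk] at hk
    exact orderOf_eq_one_iff.1 (Nat.eq_one_of_dvd_coprimes
      ((Nat.coprime_two_right.2 (hm.odd_r.pow (n := k))).symm) hd (hk ▸ dvd_rfl))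
  rw [hy, inv_mul_eq_one] at hy1
  exact mul_inv_eq_iff_eq_mul.1 hy1.symm

/-- Generation of a group of odd order normalised by a four-group. -/
theorem le_of_centralizers {K C : Subgroup G} (hVK : V ≤ normalizer (K : Set G))
    (hodd : Odd (Nat.card K)) (h : ∀ v ∈ V, v ≠ 1 → ∀ y ∈ K, Commute v y → y ∈ C) : K ≤ C := by
  haveI := IsKleinFour.isMulCommutative (G := ↥V)
  have hcop : (Nat.card V).Coprime (Nat.card K) := by
    rw [IsKleinFour.card_four, show 4 = 2 ^ 2 by rfl]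
    exact Nat.Coprime.pow_left 2 (Nat.coprime_two_left.2 hodd)
  conv_lhs => rw [← Coprime.iSup_centralizer_singleton IsKleinFour.not_isCyclic hVK hcop]
  exact iSup₂_le fun v hv y hy =>
    h v hv.1 hv.2 y hy.1 (mem_centralizer_singleton_iff.1 hy.2).symm

theorem odd_card_of_r (hm : RMixed G r) {X : Subgroup G} (hX : IsPGroup r X) : Odd (Nat.card X) := by
  haveI : Fact r.Prime := ⟨hm.prime⟩
  obtain ⟨n, hn⟩ := IsPGroup.iff_card.1 hX
  rw [hn]
  exact hm.odd_r.pow

/-- A rotation normalising an invariant `r`-group: the four-group centralises it. -/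
theorem RMixed.le_centralizer_of_rot (hm : RMixed G r) {X : Subgroup G} (hX : IsPGroup r X)
    (hVX : V ≤ normalizer (X : Set G)) {t ρ : G} (h : Rot V t ρ)
    (hn : ρ ∈ normalizer (X : Set G)) : X ≤ centralizer (V : Set G) := by
  refine le_of_centralizers hVX (odd_card_of_r hm hX) fun v hv hv1 x hx hvx => ?_
  have h' := h.of_mem hv hv1
  have hu : Commute (ρ * v * ρ⁻¹) x := hm.commute_of_fixed hX hVX h' hn hx hvx
  refine mem_centralizer_iff.2 fun g hg => ?_
  rcases h'.cases hg with rfl | rfl | rfl | rfl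
  · simp
  · exact hvx.eq
  · exact hu.eq
  · exact (hvx.mul_left hu).eq

/-- An odd subgroup normalised by the four-group is an `r`-group. -/
theorem RMixed.isPGroup_of_four (hm : RMixed G r) {K : Subgroup G} (hVK : V ≤ normalizer (K : Set G))
    (hodd : Odd (Nat.card K)) : IsPGroup r K := by
  haveI : Fact r.Prime := ⟨hm.prime⟩
  refine IsPGroup.of_card (n := (Nat.card K).primeFactorsList.length)
    (Nat.eq_prime_pow_of_unique_prime_dvd Nat.card_pos.ne' fun {s} hs hsK => ?_)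
  by_contra hsr
  haveI := Fact.mk hs
  haveI := IsKleinFour.isMulCommutative (G := ↥V)
  have hcop : (Nat.card V).Coprime (Nat.card K) := by
    rw [IsKleinFour.card_four, show 4 = 2 ^ 2 by rfl]
    exact Nat.Coprime.pow_left 2 (Nat.coprime_two_left.2 hodd)
  obtain ⟨S, hS⟩ := Coprime.exists_invariant_sylow hVK hcop
    (Or.inl (letI : CommGroup ↥V := { (inferInstance : Group _) with mul_comm := mul_comm' }
      inferInstance)) s
  set S' := (S : Subgroup K).map K.subtype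
  have hS'K : S' ≤ K := map_subtype_le _
  have hS'odd : Odd (Nat.card S') := hodd.of_dvd_nat (card_dvd_of_le hS'K)
  have hle : S' ≤ ⊥ := by
    refine le_of_centralizers hS hS'odd fun v hv hv1 y hy hvy => mem_bot.2 ?_
    have hyr := hm.pow_of_commute_two (four_order hv hv1)
      (hS'odd.of_dvd_nat (Subgroup.orderOf_dvd_natCard _ hy)) hvy
    obtain ⟨k, hk⟩ := IsPGroup.exists_orderOf_eq_pow (S.2.map K.subtype) ⟨y, hy⟩
    rw [Subgroup.orderOf_mk] at hk
    have hd := orderOf_dvd_of_pow_eq_one hyr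
    rw [hk] at hd
    exact orderOf_eq_one_iff.1 (hk.trans (Nat.eq_one_of_dvd_coprimes
      (((Nat.coprime_primes hm.prime hs).2 (Ne.symm hsr)).symm.pow_left k) dvd_rfl hd))
  exact Sylow.ne_bot_of_dvd_card S hsK
    ((map_eq_bot_iff_of_injective _ K.subtype_injective).1 (le_bot_iff.1 hle))

end Four

section Sylow

variable [Finite G] {r : ℕ} (hm : RMixed G r) (P : Sylow 2 G) [hP : IsKleinFour ↥(P : Subgroup G)]
include hm hP

/-- An element normalising the four-group and moving it gives a rotation. -/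
theorem exists_rot {g : G} (hg : ∀ v ∈ (P : Subgroup G), g * v * g⁻¹ ∈ (P : Subgroup G))
    (hne : ¬ ∀ v ∈ (P : Subgroup G), Commute g v) :
    ∃ t ρ : G, Rot (P : Subgroup G) t ρ ∧ ρ ∈ zpowers g := by
  classical
  haveI : Fact (Nat.Prime 2) := ⟨Nat.prime_two⟩
  set V : Subgroup G := (P : Subgroup G) with hV
  have hgN : g ∈ normalizer (V : Set G) := by
    have hle : V.map (MulAut.conj g).toMonoidHom ≤ V := by
      rintro _ ⟨v, hv, rfl⟩; exact hg v hv
    exact mem_normalizer_iff_map_conj_eq.2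
      (eq_of_le_of_card_ge hle (card_map_of_injective (MulAut.conj g).injective).ge)
  obtain ⟨a, m, hmodd, hn⟩ := Nat.exists_eq_two_pow_mul_odd (orderOf_pos g).ne'
  have hgm : g ^ m ∈ V := by
    have h2 : IsPGroup 2 (zpowers (g ^ m)) := IsPGroup.of_card (n := a) (by
      rw [Nat.card_zpowers, orderOf_pow_of_dvd hmodd.pos.ne' (hn ▸ dvd_mul_left m _), hn,
        Nat.mul_div_cancel _ hmodd.pos])
    have hsup : IsPGroup 2 (V ⊔ zpowers (g ^ m) : Subgroup G) :=
      P.2.to_sup_of_normal_left' h2 (zpowers_le.2 (pow_mem hgN m))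
    rw [hV, ← P.3 hsup le_sup_left]
    exact mem_sup_right (mem_zpowers _)
  set h := g ^ 2 ^ a with hh
  have hho : orderOf h = m := by
    rw [hh, orderOf_pow_of_dvd (by positivity) (hn ▸ dvd_mul_right _ m), hn,
      Nat.mul_div_cancel_left _ (by positivity)]
  have hhN : ∀ (k : ℕ) (v : G), v ∈ V → h ^ k * v * (h ^ k)⁻¹ ∈ V := fun k v hv =>
    (mem_normalizer_iff.1 (pow_mem (pow_mem hgN _) k) v).1 hv
  obtain ⟨t, ht, hth⟩ : ∃ t ∈ V, ¬ Commute h t := by
    by_contra hall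
    push Not at hall
    refine hne fun v hv => ?_
    have h1 : g ^ (2 ^ a) ∈ centralizer ({v} : Set G) :=
      mem_centralizer_singleton_iff.2 (hall v hv).eq
    have h2 : g ^ m ∈ centralizer ({v} : Set G) :=
      mem_centralizer_singleton_iff.2 (four_comm hgm hv).eq
    obtain ⟨i, j, hij⟩ : ∃ i j : ℤ, ((2 ^ a : ℕ) : ℤ) * i + (m : ℤ) * j = 1 := by
      refine ⟨Nat.gcdA (2 ^ a) m, Nat.gcdB (2 ^ a) m, ?_⟩
      rw [← Nat.gcd_eq_gcd_ab, Nat.Coprime.gcd_eq_one (Nat.Coprime.pow_left a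
        (Nat.coprime_two_left.2 hmodd)), Nat.cast_one]
    have h3 : g ∈ centralizer ({v} : Set G) := by
      have := mul_mem (zpow_mem h1 i) (zpow_mem h2 j)
      rwa [← zpow_natCast g (2 ^ a), ← zpow_natCast g m, ← zpow_mul, ← zpow_mul, ← zpow_add, hij,
        zpow_one] at this
    exact mem_centralizer_singleton_iff.1 h3
  have ht1 : t ≠ 1 := fun e => hth (e ▸ Commute.one_right h)
  -- the action of the powers of `h` on `t`
  let c : ℕ → G := fun k => h ^ k * t * (h ^ k)⁻¹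
  have hadd : ∀ j k, c (j + k) = h ^ j * c k * (h ^ j)⁻¹ := fun j k => by
    simp only [c, pow_add]; group
  have hinj : ∀ j k, c (j + k) = c j → c k = t := fun j k e => by
    rw [hadd] at e
    exact mul_left_cancel (mul_right_cancel e)
  have hc0 : c 0 = t := by simp [c]
  have hc1 : c 1 ≠ t := fun e => hth (by
    simp only [c, pow_one] at e
    exact mul_inv_eq_iff_eq_mul.1 e)
  have hcm : c m = t := by simp [c, ← hho, pow_orderOf_eq_one]
  have hmul : ∀ d, c d = t → ∀ j, c (d * j) = t := fun d hd j => by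
    induction j with
    | zero => simpa using hc0
    | succ j ih => rw [Nat.mul_succ, hadd, hd]; exact ih
  have hcne : ∀ k, c k ≠ 1 := fun k e => ht1 (conj_eq_one_iff.1 e)
  have hc2 : c 2 ≠ t := fun e => by
    obtain ⟨l, hl⟩ := hmodd
    have := hmul 2 e l
    rw [hl, hadd, show c 1 = h * t * h⁻¹ by simp [c]] at hcm
    have e2 : h ^ (2 * l) * t * (h ^ (2 * l))⁻¹ = t := this
    refine hc1 (mul_left_cancel (mul_right_cancel (hcm.trans e2.symm) : _) |> fun q => ?_)
    simpa [c] using q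
  have hc12 : c 2 ≠ c 1 := fun e => hc1 (hinj 1 1 e)
  have hcV : ∀ k, c k ∈ V := fun k => hhN k t ht
  have hc2' : c 2 = t * c 1 :=
    four_eq_mul ht (hcV 1) (hcV 2) ht1 (hcne 1) (Ne.symm hc1) (hcne 2) hc2 hc12
  have hc3 : c 3 = t := by
    by_contra h3
    have h32 : c 3 ≠ c 2 := fun e => hc1 (hinj 2 1 e)
    have h31 : c 3 ≠ c 1 := fun e => hc2 (hinj 1 2 e)
    exact h32 ((four_eq_mul ht (hcV 1) (hcV 3) ht1 (hcne 1) (Ne.symm hc1) (hcne 3) h3 h31).trans
      hc2'.symm)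
  obtain ⟨b, m', hm', hmb⟩ := Nat.exists_eq_pow_mul_and_not_dvd hmodd.pos.ne' 3 (by norm_num)
  have hm'0 : m' ≠ 0 := fun e => hm' (e ▸ dvd_zero 3)
  set ρ := h ^ m' with hρ
  have hρt : ρ * t * ρ⁻¹ = c m' := rfl
  have hmod : c m' ≠ t ∧ ρ * (ρ * t * ρ⁻¹) * ρ⁻¹ = t * (ρ * t * ρ⁻¹) := by
    have hred : ∀ k, c k = c (k % 3) := fun k => by
      conv_lhs => rw [← Nat.mod_add_div k 3]
      rw [hadd, hmul 3 hc3 (k / 3)]
    have hsq : ρ * (ρ * t * ρ⁻¹) * ρ⁻¹ = c (m' + m') := by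
      rw [hρt, hρ, ← hadd]
    rw [hρt] at hsq ⊢
    rw [hsq, hred m', hred (m' + m')]
    rcases (show m' % 3 = 1 ∨ m' % 3 = 2 by omega) with e | e
    · rw [e, show (m' + m') % 3 = 2 by omega]
      exact ⟨hc1, hc2'⟩
    · rw [e, show (m' + m') % 3 = 1 by omega]
      refine ⟨hc2, ?_⟩
      rw [hc2', ← mul_assoc, four_sq ht, one_mul]
  have hord : orderOf ρ = 3 ^ b := by
    rw [hρ, orderOf_pow_of_dvd hm'0 (hho ▸ hmb ▸ dvd_mul_left m' _), hho, hmb,
      Nat.mul_div_cancel _ (Nat.pos_of_ne_zero hm'0)]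
  have hρ1 : ρ ≠ 1 := fun e => hmod.1 (by rw [← hρt, e, one_mul, inv_one, mul_one])
  have hb : b ≠ 0 := fun e => hρ1 (orderOf_eq_one_iff.1 (by rw [hord, e, pow_zero]))
  have h3t : Commute t (ρ ^ 3) := by
    refine (mul_inv_eq_iff_eq_mul.1 ?_).symm
    have e3 : c (m' * 3) = t := by rw [mul_comm]; exact hmul 3 hc3 m'
    simpa only [c, pow_mul, ← hρ] using e3
  have hρ3 : orderOf ρ = 3 := by
    refine orderOf_eq_prime (by_contra fun hne3 => ?_) hρ1
    have ho : orderOf (ρ ^ 3) = 3 ^ (b - 1) := by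
      rw [orderOf_pow_of_dvd (by norm_num) (hord ▸ dvd_pow_self 3 hb), hord]
      nth_rewrite 1 [show b = b - 1 + 1 by omega]
      rw [pow_succ, Nat.mul_div_cancel _ (by norm_num)]
    have hr' := hm.pow_of_commute_two (four_order ht ht1) (ho ▸ Odd.pow (by decide)) h3t
    have hd := orderOf_dvd_of_pow_eq_one hr'
    rw [ho] at hd
    have hb1 : b - 1 ≠ 0 := fun e => hne3 (orderOf_eq_one_iff.1 (by rw [ho, e, pow_zero]))
    have hr3 : r = 3 := ((Nat.prime_dvd_prime_iff_eq Nat.prime_three hm.prime).1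
      ((dvd_pow_self 3 hb1).trans hd)).symm
    subst hr3
    exact hne3 (hm.pow_of_r hord)
  exact ⟨t, ρ, ⟨ht, four_order ht ht1, hρ3, hρt ▸ hcV m', hρt ▸ hmod.1, hmod.2⟩,
    pow_mem (pow_mem (mem_zpowers g) _) _⟩

/-- An odd subgroup normalised by the four-group is an `r`-group. -/
theorem isPGroup_of_invariant {K : Subgroup G} (hVK : (P : Subgroup G) ≤ normalizer (K : Set G))
    (hodd : Odd (Nat.card K)) : IsPGroup r K :=
  hm.isPGroup_of_four hVK hodd

/-- Without fusion in the four-group a subgroup containing it is an `r`-group times the four-group. -/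
theorem exists_kernel {N : Subgroup G} (hVN : (P : Subgroup G) ≤ N)
    (hfus : ∀ g ∈ N, (∀ v ∈ (P : Subgroup G), g * v * g⁻¹ ∈ (P : Subgroup G)) →
      ∀ v ∈ (P : Subgroup G), Commute g v) :
    ∃ K ≤ N, IsPGroup r K ∧ (∀ g ∈ N, ∀ k ∈ K, g * k * g⁻¹ ∈ K) ∧
      (∀ g ∈ N, Odd (orderOf g) → g ∈ K) ∧
      ∀ g ∈ N, ∃ k ∈ K, ∃ v ∈ (P : Subgroup G), g = k * v := by
  haveI : Fact (Nat.Prime 2) := ⟨Nat.prime_two⟩
  let PN : Sylow 2 N := P.subtype hVN
  have hPN : ∀ {y : N}, y ∈ (PN : Subgroup N) ↔ (y : G) ∈ (P : Subgroup G) := Iff.rfl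
  have hnc : normalizer ((PN : Subgroup N) : Set N) ≤ centralizer ((PN : Subgroup N) : Set N) := by
    intro g hg
    refine mem_centralizer_iff.2 fun y hy => Subtype.ext ?_
    exact (hfus g g.2 (fun v hv => hPN.1 ((mem_normalizer_iff.1 hg ⟨v, hVN hv⟩).1 (hPN.2 hv)))
      y (hPN.1 hy)).symm.eq
  set K₀ := (MonoidHom.transferSylow PN hnc).ker
  have hc : IsComplement' K₀ (PN : Subgroup N) := MonoidHom.ker_transferSylow_isComplement' PN hnc
  have hK₀ : Odd (Nat.card K₀) := by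
    rw [← hc.index_eq_card]
    exact Nat.not_even_iff_odd.1 fun e => PN.not_dvd_index e.two_dvd
  set K := K₀.map N.subtype with hK
  have hKN : K ≤ N := map_subtype_le _
  have hKn : ∀ g ∈ N, ∀ k ∈ K, g * k * g⁻¹ ∈ K := by
    rintro g hg _ ⟨k, hk, rfl⟩
    exact ⟨_, (inferInstance : K₀.Normal).conj_mem k hk ⟨g, hg⟩, rfl⟩
  refine ⟨K, hKN, ?_, hKn, fun g hg hgo => ?_, fun g hg => ?_⟩
  · refine isPGroup_of_invariant hm P (fun v hv => ?_)
      (by rwa [hK, card_map_of_injective N.subtype_injective])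
    refine mem_normalizer_iff.2 fun y => ⟨hKn v (hVN hv) y, fun hy => ?_⟩
    have := hKn v⁻¹ (inv_mem (hVN hv)) _ hy
    simpa [mul_assoc] using this
  · refine ⟨⟨g, hg⟩, ?_, rfl⟩
    have h4 : (⟨g, hg⟩ : N) ^ 4 ∈ K₀ := by
      have := K₀.pow_index_mem ⟨g, hg⟩
      rwa [hc.symm.index_eq_card, show Nat.card (PN : Subgroup N) = 4 from
        (Nat.card_congr (subgroupOfEquivOfLe hVN).toEquiv).trans IsKleinFour.card_four] at this
    obtain ⟨i, hi⟩ := exists_pow_eq_self_of_coprime (x := (⟨g, hg⟩ : N)) (n := 4)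
      (Nat.Coprime.pow_left 2 (Nat.coprime_two_left.2 (by rwa [← Subgroup.orderOf_coe])))
    show (⟨g, hg⟩ : N) ∈ K₀
    rw [← hi]
    exact pow_mem h4 i
  · obtain ⟨⟨⟨k, hk⟩, ⟨v, hv⟩⟩, e, -⟩ := hc.existsUnique ⟨g, hg⟩
    exact ⟨k, ⟨k, hk, rfl⟩, v, hPN.1 hv, (congrArg Subtype.val e).symm⟩

end Sylow

section Max

variable [Finite G] {r : ℕ} (hm : RMixed G r) (P : Sylow 2 G) [hP : IsKleinFour ↥(P : Subgroup G)]

/-- An `r`-group normalised by the four-group. -/
def VInv (r : ℕ) (V R : Subgroup G) : Prop := IsPGroup r R ∧ V ≤ normalizer (R : Set G)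

include hm hP

/-- The normaliser of an invariant `r`-group not centralised by the four-group. -/
theorem exists_kernel_normalizer {X : Subgroup G} (hX : VInv r (P : Subgroup G) X)
    (hXc : ¬ X ≤ centralizer ((P : Subgroup G) : Set G)) :
    ∃ K, VInv r (P : Subgroup G) K ∧ K ≤ normalizer (X : Set G) ∧
      (∀ g ∈ normalizer (X : Set G), Odd (orderOf g) → g ∈ K) ∧
      ∀ g ∈ normalizer (X : Set G), ∃ k ∈ K, ∃ v ∈ (P : Subgroup G), g = k * v := by
  obtain ⟨K, hKN, hKr, hKn, hKodd, hdec⟩ := exists_kernel hm P hX.2 fun g hg hgV => by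
    by_contra hgc
    obtain ⟨t, ρ, hR, hρ⟩ := exists_rot hm P hgV hgc
    exact hXc (hm.le_centralizer_of_rot hX.1 hX.2 hR (zpowers_le.2 hg hρ))
  refine ⟨K, ⟨hKr, fun v hv => mem_normalizer_iff.2 fun y => ⟨hKn v (hX.2 hv) y, fun hy => ?_⟩⟩,
    hKN, hKodd, hdec⟩
  have := hKn v⁻¹ (inv_mem (hX.2 hv)) _ hy
  simpa [mul_assoc] using this

/-- Maximal invariant `r`-groups meeting in a subgroup not centralised are equal. -/
theorem max_unique {R R' X : Subgroup G} (hR : Maximal (VInv r (P : Subgroup G)) R)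
    (hR' : Maximal (VInv r (P : Subgroup G)) R') (hX : X ≤ R) (hX' : X ≤ R')
    (hXc : ¬ X ≤ centralizer ((P : Subgroup G) : Set G)) : R' = R := by
  classical
  haveI : Fact r.Prime := ⟨hm.prime⟩
  by_contra hne
  obtain ⟨R', ⟨hR', hX', hne⟩, hmax⟩ := Set.exists_max_image
    {S : Subgroup G | Maximal (VInv r (P : Subgroup G)) S ∧ X ≤ S ∧ ¬ S = R}
    (fun S => Nat.card ↥(R ⊓ S)) (Set.toFinite _) ⟨R', hR', hX', hne⟩
  set Y := R ⊓ R' with hY
  have hYc : ¬ Y ≤ centralizer ((P : Subgroup G) : Set G) := fun h => hXc ((le_inf hX hX').trans h)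
  obtain ⟨K, hK, -, hKodd, -⟩ := exists_kernel_normalizer hm P (X := Y)
    ⟨hR.prop.1.to_le inf_le_left, (le_inf hR.prop.2 hR'.prop.2).trans inf_normalizer_le_normalizer_inf⟩
    hYc
  obtain ⟨R'', hKR'', hR''⟩ := Finite.exists_le_maximal (p := VInv r (P : Subgroup G)) hK
  have hlt : Y < R := lt_of_le_of_ne inf_le_left fun e =>
    hne (hR.eq_of_le hR'.prop (inf_eq_left.1 e)).symm
  have hlt' : Y < R' := lt_of_le_of_ne inf_le_right fun e =>
    hne (hR'.eq_of_le hR.prop (inf_eq_right.1 e))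
  have hgrow := Coprime.lt_normalizer_inf_of_lt hR.prop.1 hlt
  have hgrow' := Coprime.lt_normalizer_inf_of_lt hR'.prop.1 hlt'
  have hin : ∀ {S : Subgroup G}, IsPGroup r S → S ⊓ normalizer (Y : Set G) ≤ R'' := fun hS y hy => by
    refine hKR'' (hKodd y hy.2 ?_)
    exact (odd_card_of_r hm hS).of_dvd_nat (Subgroup.orderOf_dvd_natCard _ hy.1)
  have hR''R : R'' = R := by
    by_contra h''
    refine (hmax R'' ⟨hR'', ?_, h''⟩).not_gt ?_
    · exact (le_inf hX hX').trans (hgrow.le.trans (hin hR.prop.1))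
    · refine (Set.ncard_lt_ncard ?_ (Set.toFinite _) : (Y : Set G).ncard < ((R ⊓ R'' : Subgroup G) : Set G).ncard)
      exact lt_of_lt_of_le hgrow (le_inf inf_le_left (hin hR.prop.1))
  exact hgrow'.not_ge (le_inf (hR''R ▸ hin hR'.prop.1) inf_le_left)

theorem vinv_map {R : Subgroup G} (hR : VInv r (P : Subgroup G) R) {g : G}
    (hg : g ∈ normalizer ((P : Subgroup G) : Set G)) :
    VInv r (P : Subgroup G) (R.map (MulAut.conj g).toMonoidHom) := by
  refine ⟨hR.1.map _, fun v hv => mem_normalizer_iff_map_conj_eq.2 ?_⟩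
  have hv' : g⁻¹ * v * g ∈ (P : Subgroup G) := by
    have := (mem_normalizer_iff.1 (inv_mem hg) v).1 hv
    rwa [inv_inv] at this
  conv_rhs => rw [← mem_normalizer_iff_map_conj_eq.1 (hR.2 hv')]
  rw [Subgroup.map_map, Subgroup.map_map]
  congr 1
  ext y
  simp [mul_assoc]

theorem maximal_map {R : Subgroup G} (hR : Maximal (VInv r (P : Subgroup G)) R) {g : G}
    (hg : g ∈ normalizer ((P : Subgroup G) : Set G)) :
    Maximal (VInv r (P : Subgroup G)) (R.map (MulAut.conj g).toMonoidHom) := by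
  obtain ⟨S, hS, hmax⟩ := Finite.exists_le_maximal (p := VInv r (P : Subgroup G))
    (vinv_map hm P hR.prop hg)
  have h1 := vinv_map hm P hmax.prop (inv_mem hg)
  have h2 : R ≤ S.map (MulAut.conj g⁻¹).toMonoidHom := fun y hy =>
    ⟨_, hS ⟨y, hy, rfl⟩, by simp [mul_assoc]⟩
  have heq : R.map (MulAut.conj g).toMonoidHom = S := by
    refine le_antisymm hS fun y hy => ?_
    have hyR : g⁻¹ * y * g ∈ R := hR.eq_of_le h1 h2 ▸ ⟨y, hy, by simp [mul_assoc]⟩
    exact ⟨_, hyR, by simp [mul_assoc]⟩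
  rw [heq]
  exact hmax

/-- If the odd part of `C(t)` is not centralised by `V`: `V` is self-centralising, the odd part is
inverted by `V` and contains the normalisers of its nontrivial subgroups. -/
theorem strong_of_rot {t ρ : G} (hrot : Rot (P : Subgroup G) t ρ)
    (hO : ∃ y, Odd (orderOf y) ∧ Commute t y ∧ y ∉ centralizer ((P : Subgroup G) : Set G)) :
    (∀ y, Odd (orderOf y) → y ∈ centralizer ((P : Subgroup G) : Set G) → y = 1) ∧
      (∀ u ∈ (P : Subgroup G), u ≠ 1 → u ≠ t → ∀ y, Odd (orderOf y) → Commute t y →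
        u * y * u⁻¹ = y⁻¹) ∧
      ∀ Y : Subgroup G, Y ≠ ⊥ → (∀ y ∈ Y, Odd (orderOf y) ∧ Commute t y) →
        normalizer (Y : Set G) ≤ centralizer ({t} : Set G) := by
  classical
  haveI : Fact r.Prime := ⟨hm.prime⟩
  haveI : Fact (Nat.Prime 2) := ⟨Nat.prime_two⟩
  set V : Subgroup G := (P : Subgroup G) with hV
  have hVC : V ≤ centralizer ({t} : Set G) := fun v hv =>
    mem_centralizer_singleton_iff.2 (four_comm hv hrot.mem).eq
  have ht1 : t ≠ 1 := fun e => by simpa [e] using hrot.two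
  obtain ⟨O, hOC, hOr, hOn, hOodd, -⟩ := exists_kernel hm P hVC fun g hg hgV => by
    by_contra hgc
    obtain ⟨t₀, ρ₀, hR₀, hρ₀⟩ := exists_rot hm P hgV hgc
    exact hR₀.not_commute hrot.mem ht1
      (mem_centralizer_singleton_iff.1 (zpowers_le.2 hg hρ₀))
  have hmemO : ∀ {y : G}, y ∈ O ↔ Odd (orderOf y) ∧ Commute t y := fun {y} =>
    ⟨fun hy => ⟨(odd_card_of_r hm hOr).of_dvd_nat (Subgroup.orderOf_dvd_natCard _ hy),
      (mem_centralizer_singleton_iff.1 (hOC hy)).symm⟩,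
      fun h => hOodd y (mem_centralizer_singleton_iff.2 h.2.symm.eq) h.1⟩
  have hVO : V ≤ normalizer (O : Set G) := fun v hv => mem_normalizer_iff.2 fun y =>
    ⟨hOn v (hVC hv) y, fun hy => by
      have := hOn v⁻¹ (inv_mem (hVC hv)) _ hy
      simpa [mul_assoc] using this⟩
  have hOc : ¬ O ≤ centralizer (V : Set G) := fun h => by
    obtain ⟨y, hy, hyt, hyV⟩ := hO
    exact hyV (h (hmemO.2 ⟨hy, hyt⟩))
  -- `O` is the only maximal invariant `r`-group over it
  have hmaxO : ∀ R, Maximal (VInv r V) R → O ≤ R → R = O := by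
    intro R hR hOR
    have hRc : ¬ R ≤ centralizer (V : Set G) := fun h => hOc (hOR.trans h)
    refine le_antisymm ?_ hOR
    refine le_of_centralizers hR.prop.2 (odd_card_of_r hm hR.prop.1) fun v hv hv1 y hy hvy => ?_
    have hyo : Odd (orderOf y) :=
      (odd_card_of_r hm hR.prop.1).of_dvd_nat (Subgroup.orderOf_dvd_natCard _ hy)
    refine hmemO.2 ⟨hyo, ?_⟩
    -- the conjugates of `t`
    have aux : ∀ g ∈ zpowers ρ, g * g ∈ zpowers ρ → v = g * t * g⁻¹ →
        (ρ = g ∨ ρ = g * g) → Commute t y := by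
      intro g hg _ hvg hρg
      have hgN : g ∈ normalizer (V : Set G) := zpowers_le.2 hrot.mem_normalizer hg
      set X := R ⊓ centralizer ({v} : Set G) with hX
      by_cases hXc : X ≤ centralizer (V : Set G)
      · exact mem_centralizer_iff.1 (hXc ⟨hy, mem_centralizer_singleton_iff.2 hvy.symm.eq⟩) t hrot.mem
      exfalso
      set R' := R.map (MulAut.conj g).toMonoidHom with hR'
      have hXR' : X ≤ R' := by
        rintro z ⟨hz, hzv⟩
        have hzv' := mem_centralizer_singleton_iff.1 hzv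
        refine ⟨g⁻¹ * z * g, hOR (hmemO.2 ⟨?_, ?_⟩), by simp [mul_assoc]⟩
        · have e : orderOf (g⁻¹ * z * g) = orderOf z := by
            simpa using MulEquiv.orderOf_eq (MulAut.conj g⁻¹) z
          rw [e]
          exact (odd_card_of_r hm hR.prop.1).of_dvd_nat (Subgroup.orderOf_dvd_natCard _ hz)
        · have h1 : Commute (g⁻¹ * v * g) (g⁻¹ * z * g) := by
            have := (Commute.conj_iff g⁻¹).2 (show Commute v z from hzv'.symm)
            simpa using this
          rwa [show g⁻¹ * v * g = t by rw [hvg]; group] at h1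
      have hgR : g ∈ normalizer (R : Set G) := mem_normalizer_iff_map_conj_eq.2
        (max_unique hm P hR (maximal_map hm P hR hgN) inf_le_left hXR' hXc)
      have hρR : ρ ∈ normalizer (R : Set G) := by
        rcases hρg with e | e
        · exact e ▸ hgR
        · exact e ▸ mul_mem hgR hgR
      exact hRc (hm.le_centralizer_of_rot hR.prop.1 hR.prop.2 hrot hρR)
    have hρz : ρ ∈ zpowers ρ := mem_zpowers ρ
    rcases hrot.cases hv with rfl | rfl | rfl | rfl
    · exact absurd rfl hv1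
    · exact hvy
    · exact aux ρ hρz (mul_mem hρz hρz) rfl (Or.inl rfl)
    · refine aux (ρ * ρ) (mul_mem hρz hρz) (mul_mem (mul_mem hρz hρz) (mul_mem hρz hρz)) ?_ (Or.inr ?_)
      · rw [← hrot.cycle]; group
      · have h3 : ρ * ρ * ρ = 1 := by
          have := pow_orderOf_eq_one ρ
          rwa [hrot.three, pow_succ, pow_two] at this
        rw [← mul_assoc, h3, one_mul]
  -- `V` is self-centralising
  have hD : ∀ y, Odd (orderOf y) → y ∈ centralizer (V : Set G) → y = 1 := by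
    intro y₀ hy₀ hy₀c
    by_contra hy₀1
    set D := O ⊓ centralizer (V : Set G) with hD
    have hy₀D : y₀ ∈ D := ⟨hmemO.2 ⟨hy₀, mem_centralizer_iff.1 hy₀c t hrot.mem⟩, hy₀c⟩
    have hDlt : D < O := lt_of_le_of_ne inf_le_left fun e => hOc (inf_eq_left.1 e)
    have hρD : ρ ∈ normalizer (D : Set G) := by
      have hle : D.map (MulAut.conj ρ).toMonoidHom ≤ D := by
        rintro _ ⟨z, ⟨hzO, hzV⟩, rfl⟩
        have hc : ρ * z * ρ⁻¹ ∈ centralizer (V : Set G) := by
          refine mem_centralizer_iff.2 fun v hv => ?_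
          have hv' : ρ⁻¹ * v * ρ ∈ V := by
            have := (mem_normalizer_iff.1 (inv_mem hrot.mem_normalizer) v).1 hv
            rwa [inv_inv] at this
          calc v * (ρ * z * ρ⁻¹) = ρ * (ρ⁻¹ * v * ρ * z) * ρ⁻¹ := by group
            _ = ρ * (z * (ρ⁻¹ * v * ρ)) * ρ⁻¹ := by rw [mem_centralizer_iff.1 hzV _ hv']
            _ = ρ * z * ρ⁻¹ * v := by group
        refine ⟨hmemO.2 ⟨?_, mem_centralizer_iff.1 hc t hrot.mem⟩, hc⟩
        show Odd (orderOf (MulAut.conj ρ z))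
        rw [MulEquiv.orderOf_eq]
        exact (hmemO.1 hzO).1
      exact mem_normalizer_iff_map_conj_eq.2
        (eq_of_le_of_card_ge hle (card_map_of_injective (MulAut.conj ρ).injective).ge)
    have hy₀r : orderOf y₀ = r :=
      orderOf_eq_prime (hm.pow_of_commute_two hrot.two hy₀ (hmemO.1 hy₀D.1).2) hy₀1
    set H := centralizer (D : Set G) with hH
    have hVH : V ≤ H := fun v hv => mem_centralizer_iff.2 fun z hz =>
      (mem_centralizer_iff.1 hz.2 v hv).symm
    haveI hHs : Group.IsSolvable H := by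
      refine CfsgLib.ClassSizeNM.isSolvable_of_two_primes Nat.prime_two hm.prime
        fun s hs hs2 hsr y hy => ?_
      obtain ⟨k, hk⟩ := hy
      rcases k with _ | k
      · rw [orderOf_eq_one_iff.1 (hk.trans (pow_zero s))]; exact one_mem _
      exfalso
      have hc : Commute y₀ ((y : G) ^ s ^ k) :=
        (show Commute y₀ (y : G) from mem_centralizer_iff.1 y.2 y₀ hy₀D).pow_right _
      have ho : orderOf ((y : G) ^ s ^ k) = s := by
        rw [orderOf_pow_of_dvd (pow_ne_zero _ hs.ne_zero)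
          (by rw [Subgroup.orderOf_coe, hk]; exact pow_dvd_pow s k.le_succ), Subgroup.orderOf_coe, hk,
          pow_succ, Nat.mul_div_cancel_left _ (pow_pos hs.pos k)]
      rcases hm.prime_of_commute_r hy₀r hs ho hc with e | e
      · exact hs2 e
      · exact hsr e
    set Y₀ := Cfsg.pPrimeCore 2 H with hY₀
    set Y := Y₀.map H.subtype with hY
    have hY₀odd : Odd (Nat.card Y₀) :=
      Nat.coprime_two_right.1 (CfsgLib.Solvable.Cores.coprime_card_pPrimeCore 2)
    have hYodd : Odd (Nat.card Y) := by rwa [hY, card_map_of_injective H.subtype_injective]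
    have hYnorm : ∀ g ∈ normalizer (H : Set G), g ∈ normalizer (Y : Set G) := by
      intro g hg
      have hgH : ∀ y ∈ H, g * y * g⁻¹ ∈ H := fun y hy => (mem_normalizer_iff.1 hg y).1 hy
      have hgH' : ∀ y ∈ H, g⁻¹ * y * g ∈ H := fun y hy => by
        have := (mem_normalizer_iff.1 (inv_mem hg) y).1 hy
        rwa [inv_inv] at this
      let e : ↥H →* ↥H :=
        { toFun := fun y => ⟨g * y * g⁻¹, hgH _ y.2⟩
          map_one' := Subtype.ext (by simp)
          map_mul' := fun a b => Subtype.ext (by simp [mul_assoc]) }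
      have hes : Function.Surjective e := fun y =>
        ⟨⟨g⁻¹ * y * g, hgH' _ y.2⟩, Subtype.ext (by show g * (g⁻¹ * y * g) * g⁻¹ = y; group)⟩
      haveI : (Y₀.map e).Normal := (inferInstance : Y₀.Normal).map e hes
      have hle : Y₀.map e ≤ Y₀ := CfsgLib.Solvable.Cores.le_pPrimeCore
        ((CfsgLib.Solvable.Cores.coprime_card_pPrimeCore 2).coprime_dvd_left (card_map_dvd _ e))
      refine mem_normalizer_iff_map_conj_eq.2 (eq_of_le_of_card_ge ?_
        (card_map_of_injective (MulAut.conj g).injective).ge)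
      rintro _ ⟨_, ⟨y, hy, rfl⟩, rfl⟩
      exact ⟨e y, hle ⟨y, hy, rfl⟩, rfl⟩
    have hHnorm : normalizer (D : Set G) ≤ normalizer (H : Set G) := by
      intro g hg
      refine mem_normalizer_iff_map_conj_eq.2 (eq_of_le_of_card_ge ?_
        (card_map_of_injective (MulAut.conj g).injective).ge)
      rintro _ ⟨y, hy, rfl⟩
      refine mem_centralizer_iff.2 fun z hz => ?_
      have hz' : g⁻¹ * z * g ∈ D := by
        have := (mem_normalizer_iff.1 (inv_mem hg) z).1 hz
        rwa [inv_inv] at this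
      show z * (g * y * g⁻¹) = g * y * g⁻¹ * z
      calc z * (g * y * g⁻¹) = g * (g⁻¹ * z * g * y) * g⁻¹ := by group
        _ = g * (y * (g⁻¹ * z * g)) * g⁻¹ := by rw [mem_centralizer_iff.1 hy _ hz']
        _ = g * y * g⁻¹ * z := by group
    have hVY : V ≤ normalizer (Y : Set G) := fun v hv => hYnorm v (le_normalizer (hVH hv))
    have hYr := isPGroup_of_invariant hm P hVY hYodd
    have hYc : Y ≤ centralizer (V : Set G) :=
      hm.le_centralizer_of_rot hYr hVY hrot (hYnorm ρ (hHnorm hρD))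
    -- `V` is normal in `H`
    have hVn : ∀ h ∈ H, ∀ v ∈ V, h * v * h⁻¹ ∈ V := by
      let q : ↥H →* ↥H ⧸ Y₀ := QuotientGroup.mk' Y₀
      let VH : Sylow 2 ↥H := P.subtype hVH
      let Vq := VH.mapSurjective (f := q) (QuotientGroup.mk'_surjective Y₀)
      have hO1 : Cfsg.pPrimeCore 2 (↥H ⧸ Y₀) = ⊥ := by
        set W := Cfsg.pPrimeCore 2 (↥H ⧸ Y₀)
        have hle : W.comap q ≤ Y₀ := by
          refine CfsgLib.Solvable.Cores.le_pPrimeCore ?_
          rw [CfsgLib.Solvable.Basic.card_comap_mk Y₀ W]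
          exact (CfsgLib.Solvable.Cores.coprime_card_pPrimeCore 2).mul_left
            (CfsgLib.Solvable.Cores.coprime_card_pPrimeCore 2)
        rw [← map_comap_eq_self_of_surjective (QuotientGroup.mk'_surjective Y₀) W, Subgroup.map_eq_bot_iff,
          QuotientGroup.ker_mk']
        exact hle
      haveI : Group.IsSolvable (↥H ⧸ Y₀) := inferInstance
      have hfit := CfsgLib.Solvable.Cores.centralizer_fittingSubgroup_le (G := ↥H ⧸ Y₀)
      rw [CfsgLib.Solvable.Cores.fittingSubgroup_eq_pCore 2 hO1] at hfit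
      have hle : Cfsg.pCore 2 (↥H ⧸ Y₀) ≤ (Vq : Subgroup _) :=
        CfsgLib.Solvable.Cores.pCore_le_sylow Vq
      have hge : (Vq : Subgroup (↥H ⧸ Y₀)) ≤ Cfsg.pCore 2 (↥H ⧸ Y₀) := by
        refine le_trans (fun y hy => mem_centralizer_iff.2 fun z hz => ?_) hfit
        obtain ⟨a, ha, rfl⟩ := hy
        obtain ⟨b, hb, rfl⟩ := hle hz
        show q b * q a = q a * q b
        rw [← map_mul, ← map_mul]
        exact congrArg q (Subtype.ext (four_comm (V := V) hb ha).eq)
      intro h hh v hv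
      have hvq : q ⟨v, hVH hv⟩ ∈ Cfsg.pCore 2 (↥H ⧸ Y₀) := hge ⟨_, hv, rfl⟩
      obtain ⟨v', hv', e⟩ := hle ((inferInstance : (Cfsg.pCore 2 (↥H ⧸ Y₀)).Normal).conj_mem _ hvq
        (q ⟨h, hh⟩))
      set z : G := h * v * h⁻¹ with hz
      have hyY : z * (v' : G)⁻¹ ∈ Y := by
        refine ⟨⟨h, hh⟩ * ⟨v, hVH hv⟩ * ⟨h, hh⟩⁻¹ * v'⁻¹, (QuotientGroup.eq_one_iff _).1 ?_, rfl⟩
        show q _ = 1
        rw [map_mul, map_mul, map_mul, map_inv, map_inv, e, mul_inv_cancel]
      set y := z * (v' : G)⁻¹ with hy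
      have hc : Commute y v' := (mem_centralizer_iff.1 (hYc hyY) v' hv').symm
      have hzy : z = y * v' := by rw [hy]; group
      have hy2 : y * y = 1 := by
        have hz2 : z * z = 1 := by
          calc z * z = h * (v * v) * h⁻¹ := by rw [hz]; group
            _ = 1 := by rw [four_sq hv, mul_one, mul_inv_cancel]
        rw [hzy, hc.symm.mul_mul_mul_comm, show (v' : G) * v' = 1 from four_sq (V := V) hv', mul_one] at hz2
        exact hz2
      have hy1 : y = 1 := orderOf_eq_one_iff.1 (Nat.eq_one_of_dvd_coprimes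
        (Nat.coprime_two_right.2 (hYodd.of_dvd_nat (Subgroup.orderOf_dvd_natCard _ hyY))) dvd_rfl
        (orderOf_dvd_of_pow_eq_one (by rw [pow_two]; exact hy2)))
      rw [hzy, hy1, one_mul]
      exact hv'
    obtain ⟨e, ⟨heO, heN⟩, heD⟩ := SetLike.exists_of_lt (Coprime.lt_normalizer_inf_of_lt hOr hDlt)
    refine heD ⟨heO, mem_centralizer_iff.2 fun v hv => ?_⟩
    have hev : e * v * e⁻¹ ∈ H := (mem_normalizer_iff.1 (hHnorm heN) v).1 (hVH hv)
    -- the involutions of `H` lie in `V`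
    have hev' : e * v * e⁻¹ ∈ V := by
      set z := e * v * e⁻¹ with hz
      have hz2 : z * z = 1 := by
        calc z * z = e * (v * v) * e⁻¹ := by rw [hz]; group
          _ = 1 := by rw [four_sq hv, mul_one, mul_inv_cancel]
      have hzN : z ∈ normalizer (V : Set G) := mem_normalizer_iff_map_conj_eq.2 (eq_of_le_of_card_ge
        (by rintro _ ⟨w, hw, rfl⟩; exact hVn z hev w hw)
        (card_map_of_injective (MulAut.conj z).injective).ge)
      have h2 : IsPGroup 2 (zpowers z) := by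
        obtain ⟨i, -, hi⟩ := (Nat.dvd_prime_pow Nat.prime_two).1
          (orderOf_dvd_of_pow_eq_one (show z ^ 2 ^ 1 = 1 by rw [pow_one, pow_two, hz2]))
        exact IsPGroup.of_card (n := i) (by rw [Nat.card_zpowers, hi])
      have hsup : IsPGroup 2 (V ⊔ zpowers z : Subgroup G) :=
        P.2.to_sup_of_normal_left' h2 (zpowers_le.2 hzN)
      rw [hV, ← P.3 hsup le_sup_left]
      exact mem_sup_right (mem_zpowers _)
    have hcomm : e * v * e⁻¹ * v⁻¹ ∈ V := mul_mem hev' (inv_mem hv)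
    have hcommO : e * v * e⁻¹ * v⁻¹ ∈ O := by
      rw [show e * v * e⁻¹ * v⁻¹ = e * (v * e⁻¹ * v⁻¹) by group]
      exact mul_mem heO ((mem_normalizer_iff.1 (hVO hv) _).1 (inv_mem heO))
    have h1 : e * v * e⁻¹ * v⁻¹ = 1 := orderOf_eq_one_iff.1 (Nat.eq_one_of_dvd_coprimes
      (Nat.coprime_two_right.2 (hmemO.1 hcommO).1) dvd_rfl
      (orderOf_dvd_of_pow_eq_one (by rw [pow_two]; exact four_sq hcomm)))
    exact (mul_inv_eq_iff_eq_mul.1 (mul_inv_eq_one.1 h1)).symm
  -- inversion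
  have hinv : ∀ u ∈ V, u ≠ 1 → u ≠ t → ∀ y, Odd (orderOf y) → Commute t y →
      u * y * u⁻¹ = y⁻¹ := by
    intro u hu hu1 hut y hy hty
    have hyO := hmemO.2 ⟨hy, hty⟩
    have hfix : ∀ z ∈ O, Commute u z → z = 1 := fun z hz huz => by
      refine hD z (hmemO.1 hz).1 (mem_centralizer_iff.2 fun v hv => ?_)
      by_cases hv1 : v = 1
      · simp [hv1]
      by_cases hvt : v = t
      · rw [hvt]; exact (hmemO.1 hz).2.eq
      by_cases hvu : v = u
      · rw [hvu]; exact huz.eq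
      · rw [four_eq_mul hrot.mem hu hv ht1 hu1 (Ne.symm hut) hv1 hvt hvu]
        exact ((hmemO.1 hz).2.mul_left huz).eq
    let φ : O → O := fun z => ⟨(z : G)⁻¹ * (u * z * u⁻¹),
      O.mul_mem (O.inv_mem z.2) ((mem_normalizer_iff.1 (hVO hu) _).1 z.2)⟩
    have hφ : Function.Injective φ := by
      intro a b e
      have e' : (a : G)⁻¹ * (u * a * u⁻¹) = (b : G)⁻¹ * (u * b * u⁻¹) := congrArg Subtype.val e
      refine Subtype.ext (mul_inv_eq_one.1 (hfix ((a : G) * (b : G)⁻¹)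
        (O.mul_mem a.2 (O.inv_mem b.2)) (mul_inv_eq_iff_eq_mul.1 ?_)))
      calc u * ((a : G) * (b : G)⁻¹) * u⁻¹
          = (a : G) * ((a : G)⁻¹ * (u * a * u⁻¹)) * (u * b * u⁻¹)⁻¹ := by group
        _ = (a : G) * (b : G)⁻¹ := by rw [e']; group
    obtain ⟨z, hz⟩ := Finite.surjective_of_injective hφ ⟨y, hyO⟩
    rw [show y = (z : G)⁻¹ * (u * z * u⁻¹) from (congrArg Subtype.val hz).symm]
    have huu := four_sq hu
    calc u * ((z : G)⁻¹ * (u * z * u⁻¹)) * u⁻¹
        = (u * (z : G)⁻¹ * u⁻¹) * ((u * u) * z * (u * u)⁻¹) * (u * u) * (u * u)⁻¹ := by group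
      _ = ((z : G)⁻¹ * (u * z * u⁻¹))⁻¹ := by rw [huu]; group
  refine ⟨hD, hinv, fun Y hY hYmem g hg => ?_⟩
  obtain ⟨u, hu, hu1, hut⟩ : ∃ u ∈ V, u ≠ 1 ∧ u ≠ t :=
    ⟨_, hrot.mem_conj, fun e => ht1 (conj_eq_one_iff.1 e), hrot.ne⟩
  have hYO : Y ≤ O := fun y hy => hmemO.2 (hYmem y hy)
  have hOab : ∀ a ∈ O, ∀ b ∈ O, Commute a b := by
    intro a ha b hb
    have hab := mul_mem ha hb
    have e := hinv u hu hu1 hut (a * b) (hmemO.1 hab).1 (hmemO.1 hab).2
    rw [show u * (a * b) * u⁻¹ = u * a * u⁻¹ * (u * b * u⁻¹) by group,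
      hinv u hu hu1 hut a (hmemO.1 ha).1 (hmemO.1 ha).2,
      hinv u hu hu1 hut b (hmemO.1 hb).1 (hmemO.1 hb).2, ← mul_inv_rev, inv_inj] at e
    exact e.symm
  have hY' : VInv r V Y := by
    refine ⟨hOr.to_le hYO, fun v hv => mem_normalizer_iff_map_conj_eq.2 (eq_of_le_of_card_ge ?_
      (card_map_of_injective (MulAut.conj v).injective).ge)⟩
    rintro _ ⟨y, hy, rfl⟩
    show v * y * v⁻¹ ∈ Y
    by_cases hv1 : v = 1
    · simpa [hv1] using hy
    by_cases hvt : v = t
    · rw [hvt, (hYmem y hy).2.eq, mul_inv_cancel_right]; exact hy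
    rw [hinv v hv hv1 hvt y (hYmem y hy).1 (hYmem y hy).2]
    exact inv_mem hy
  have hYc : ¬ Y ≤ centralizer (V : Set G) := fun h =>
    hY ((Subgroup.eq_bot_iff_forall Y).2 fun y hy => hD y (hYmem y hy).1 (h hy))
  obtain ⟨K, hK, -, hKodd, hdec⟩ := exists_kernel_normalizer hm P hY' hYc
  have hOK : O ≤ K := fun y hy => by
    refine hKodd y (mem_normalizer_iff.2 fun z => ?_) (hmemO.1 hy).1
    refine ⟨fun hz => ?_, fun hz => ?_⟩
    · rw [(hOab y hy z (hYO hz)).eq, mul_inv_cancel_right]; exact hz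
    · have hzO : z ∈ O := by
        have := mul_mem (mul_mem (inv_mem hy) (hYO hz)) hy
        simpa [mul_assoc] using this
      rwa [(hOab y hy z hzO).eq, mul_inv_cancel_right] at hz
  obtain ⟨R, hKR, hR⟩ := Finite.exists_le_maximal (p := VInv r V) hK
  have hKO : K ≤ O := hmaxO R hR (hOK.trans hKR) ▸ hKR
  obtain ⟨k, hk, v, hv, rfl⟩ := hdec g hg
  exact mul_mem (hOC (hKO hk)) (hVC hv)

end Max

end CfsgLib.Recognition.SparseOrders
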