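import Cfsg.Agent.Lib.Recognition.SparseOrders.Outer
import Cfsg.Agent.S0494

/-!
# Groups with an element of order `2r` in which no prime divides three element orders

The odd core is an `r`-group; it is trivial because an element of prime order acting without fixed
points on a Sylow 2-subgroup would otherwise make that subgroup centralise it.  So the group is
almost simple, hence simple, hence `L₂(q)` with `q ≡ 3, 5 (mod 8)` and `q > 5`.
-/

set_option autoImplicit false
set_option linter.style.haveILetI false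
set_option linter.unusedSectionVars false

namespace CfsgLib.Recognition.SparseOrders

open Subgroup

universe u

variable {G : Type u} [Group G] [Finite G] {r : ℕ}

/-- A subgroup with every element squaring to the identity and all Frobenius sums zero is fixed. -/
theorem fixed_of_fpf {M : Type*} [CommGroup M] (f : G →* MulAut M) (S : Subgroup G) {h : G} {l : ℕ}
    (hl : l.Prime) (ho : orderOf h = l) (hN : h ∈ normalizer (S : Set G))
    (hfpf : ∀ v ∈ S, Commute h v → v = 1)
    (hzero : ∀ g : G, orderOf g = l → ∀ m : M, ∏ i ∈ Finset.range l, f (g ^ i) m = 1)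
    (hexp : ∀ m : M, m ^ r = 1) (hcop : (Nat.card S).Coprime r) {v : G} (hv : v ∈ S) (m : M) :
    f v m = m := by
  classical
  haveI := Fintype.ofFinite S
  obtain ⟨l', rfl⟩ : ∃ l', l = l' + 1 := ⟨l - 1, by have := hl.two_le; omega⟩
  have hNn : ∀ k : ℕ, ∀ s ∈ S, h ^ k * s * (h ^ k)⁻¹ ∈ S := fun k s hs =>
    (mem_normalizer_iff.1 (pow_mem hN k) s).1 hs
  let Nm : M → M := fun y => ∏ s : S, f s y
  have hinner : ∀ i ∈ Finset.range l', ∏ s : S, f ((s : G) * h ^ (i + 1) * (s : G)⁻¹) m =
      Nm (f (h ^ (i + 1)) m) := by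
    intro i hi
    rw [Finset.mem_range] at hi
    let φ : S → S := fun s => ⟨(s : G) * (h ^ (i + 1) * (s : G)⁻¹ * (h ^ (i + 1))⁻¹),
      S.mul_mem s.2 (hNn _ _ (S.inv_mem s.2))⟩
    have hφ : Function.Injective φ := by
      intro a b e
      have e' : (a : G) * (h ^ (i + 1) * (a : G)⁻¹ * (h ^ (i + 1))⁻¹) =
          (b : G) * (h ^ (i + 1) * (b : G)⁻¹ * (h ^ (i + 1))⁻¹) := congrArg Subtype.val e
      have hc : Commute (h ^ (i + 1)) ((b : G)⁻¹ * a) := by
        refine Commute.symm ?_
        show (b : G)⁻¹ * a * h ^ (i + 1) = h ^ (i + 1) * ((b : G)⁻¹ * a)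
        calc (b : G)⁻¹ * a * h ^ (i + 1)
            = (b : G)⁻¹ * ((a : G) * (h ^ (i + 1) * (a : G)⁻¹ * (h ^ (i + 1))⁻¹)) * h ^ (i + 1) *
                a := by group
          _ = h ^ (i + 1) * ((b : G)⁻¹ * a) := by rw [e']; group
      obtain ⟨j, hj⟩ := exists_pow_eq_self_of_coprime (x := h) (n := i + 1) (by
        rw [ho]
        exact (hl.coprime_iff_not_dvd.2 fun hd => by
          have := Nat.le_of_dvd (Nat.succ_pos i) hd
          omega).symm)
      have := hfpf _ (S.mul_mem (S.inv_mem b.2) a.2) (hj ▸ hc.pow_left j)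
      exact Subtype.ext (inv_mul_eq_one.1 this).symm
    refine Fintype.prod_bijective φ (Finite.injective_iff_bijective.1 hφ) _ _ fun s => ?_
    rw [show (s : G) * h ^ (i + 1) * (s : G)⁻¹ = (φ s : G) * h ^ (i + 1) by
      show _ = (s : G) * (h ^ (i + 1) * (s : G)⁻¹ * (h ^ (i + 1))⁻¹) * h ^ (i + 1)
      group, map_mul, MulAut.mul_apply]
  have hsum : ∏ i ∈ Finset.range l', f (h ^ (i + 1)) m = m⁻¹ := by
    have := hzero h ho m
    rw [Finset.prod_range_succ', pow_zero, map_one, MulAut.one_apply] at this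
    exact eq_inv_of_mul_eq_one_left this
  have hmain : Nm m = m ^ Nat.card S := by
    have h1 : ∏ s : S, ∏ i ∈ Finset.range (l' + 1), f (((s : G) * h * (s : G)⁻¹) ^ i) m = 1 :=
      Finset.prod_eq_one fun s _ => hzero _
        ((MulEquiv.orderOf_eq (MulAut.conj (s : G)) h).trans ho) m
    rw [Finset.prod_comm, Finset.prod_range_succ'] at h1
    simp only [conj_pow, pow_zero, mul_one, mul_inv_cancel, map_one, MulAut.one_apply] at h1
    rw [Finset.prod_congr rfl hinner, Finset.prod_const, Finset.card_univ,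
      ← Nat.card_eq_fintype_card] at h1
    have h2 : ∏ i ∈ Finset.range l', Nm (f (h ^ (i + 1)) m) = (Nm m)⁻¹ := by
      show ∏ i ∈ Finset.range l', ∏ s : S, f s (f (h ^ (i + 1)) m) = _
      rw [Finset.prod_comm]
      simp only [← map_prod, hsum, map_inv, Finset.prod_inv_distrib]
      rfl
    rw [h2, inv_mul_eq_one] at h1
    exact h1
  have hinv : f v (Nm m) = Nm m := by
    show f v (∏ s : S, f s m) = ∏ s : S, f s m
    rw [map_prod]
    refine Fintype.prod_bijective (fun s : S => ⟨v, hv⟩ * s) (Group.mulLeft_bijective _) _ _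
      fun s => ?_
    rw [Subgroup.coe_mul, map_mul, MulAut.mul_apply]
  rw [hmain, map_pow] at hinv
  have h1 : (f v m / m) ^ Nat.card S = 1 := by rw [div_pow, hinv, div_self']
  have h2 : (f v m / m) ^ r = 1 := by rw [div_pow, ← map_pow, hexp, map_one, div_self']
  have := pow_gcd_eq_one.2 ⟨h1, h2⟩
  rw [hcop.gcd_eq_one, pow_one, div_eq_one] at this
  exact this

/-- A group with a solvable normal subgroup containing a Sylow 2-subgroup is solvable. -/
theorem isSolvable_of_sylow_le (N : Subgroup G) [N.Normal] [Group.IsSolvable N] (S : Sylow 2 G)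
    (hS : (S : Subgroup G) ≤ N) : Group.IsSolvable G := by
  haveI : Fact (Nat.Prime 2) := ⟨Nat.prime_two⟩
  haveI : Group.IsSolvable (G ⧸ N) := CfsgLib.OddOrder.Final.oddSolvable _
    (Nat.not_even_iff_odd.1 fun e => S.not_dvd_index
      ((Subgroup.index_eq_card N ▸ e.two_dvd).trans (index_dvd_of_le hS)))
  exact Group.isSolvable_of_ker_le_range N.subtype (QuotientGroup.mk' N)
    (by rw [QuotientGroup.ker_mk', range_subtype])

theorem RMixed.pCore_two_eq_bot (hm : RMixed G r) (hns : ¬ Group.IsSolvable G) :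
    Cfsg.pCore 2 G = ⊥ := by
  haveI : Fact (Nat.Prime 2) := ⟨Nat.prime_two⟩
  by_contra hne
  obtain ⟨z, hz, hz1⟩ : ∃ z ∈ Cfsg.pCore 2 G, z ≠ 1 := by
    by_contra h
    push Not at h
    exact hne ((eq_bot_iff_forall _).2 h)
  obtain ⟨S⟩ : Nonempty (Sylow 2 G) := inferInstance
  have hNS : Cfsg.pCore 2 G ≤ (S : Subgroup G) := CfsgLib.Solvable.Cores.pCore_le_sylow S
  set C := centralizer (Cfsg.pCore 2 G : Set G)
  have hle : C ≤ centralizer ({z} : Set G) := centralizer_le (Set.singleton_subset_iff.2 hz)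
  haveI := hm.solvable_centralizer (hm.orderOf_two S.2 (hNS hz) hz1)
  haveI : Group.IsSolvable C :=
    Group.isSolvable_of_isSolvable_injective (f := Subgroup.inclusion hle) (inclusion_injective hle)
  exact hns (isSolvable_of_sylow_le C S fun a ha =>
    mem_centralizer_iff.2 fun b hb => hm.sylow_comm S.2 (hNS hb) ha)

/-- A normal `r`-subgroup is trivial when an element of prime order is fixed-point-free on a Sylow
2-subgroup. -/
theorem RMixed.eq_bot_of_fpf (hm : RMixed G r) (hns : ¬ Group.IsSolvable G) (S : Sylow 2 G)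
    (W : Subgroup G) [W.Normal] (hW : IsPGroup r W) {h : G} {l : ℕ} (hl : l.Prime) (hl2 : l ≠ 2)
    (ho : orderOf h = l) (hN : h ∈ normalizer ((S : Subgroup G) : Set G))
    (hfpf : ∀ v ∈ (S : Subgroup G), Commute h v → v = 1) : W = ⊥ := by
  classical
  haveI : Fact r.Prime := ⟨hm.prime⟩
  haveI : Fact (Nat.Prime 2) := ⟨Nat.prime_two⟩
  by_contra hW1
  haveI : Nontrivial W := (nontrivial_iff_ne_bot W).2 hW1
  set M : Subgroup G := (center W).map W.subtype with hM
  haveI hMn : M.Normal := inferInstance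
  have hMr : IsPGroup r M := (hW.to_subgroup _).map _
  have hMab : ∀ a ∈ M, ∀ b ∈ M, a * b = b * a := by
    rintro _ ⟨a, ha, rfl⟩ _ ⟨b, -, rfl⟩
    exact congrArg Subtype.val (mem_center_iff.1 ha b).symm
  obtain ⟨m₀, hm₀, hm₀1⟩ : ∃ m ∈ M, m ≠ 1 := by
    haveI := hW.center_nontrivial
    obtain ⟨c, hc⟩ := exists_ne (1 : center W)
    exact ⟨_, ⟨c, c.2, rfl⟩, fun e => hc (Subtype.ext (Subtype.ext e))⟩
  have hr1 : ∀ y ∈ M, y ^ r = 1 := fun y hy => by
    obtain ⟨k, hk⟩ := IsPGroup.exists_orderOf_eq_pow hMr ⟨y, hy⟩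
    rw [Subgroup.orderOf_mk] at hk
    exact hm.pow_of_r hk
  letI : CommGroup M :=
    { (inferInstance : Group M) with mul_comm := fun a b => Subtype.ext (hMab a a.2 b b.2) }
  let f : G →* MulAut M := MulAut.conjNormal
  have hzero : ∀ g : G, orderOf g = l → ∀ m : M, ∏ i ∈ Finset.range l, f (g ^ i) m = 1 := by
    intro g hg m
    by_cases hlr : l = r
    · have hpr : ∀ k, ((m : G) * g) ^ k =
          ((∏ i ∈ Finset.range k, f (g ^ i) m : M) : G) * g ^ k := fun k => by
        induction k with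
        | zero => simp
        | succ k ih =>
          rw [pow_succ, ih, Finset.prod_range_succ]
          show _ = ((∏ i ∈ Finset.range k, f (g ^ i) m : M) : G) * (f (g ^ k) m : G) * g ^ (k + 1)
          rw [MulAut.conjNormal_apply, pow_succ g k]
          group
      have hE : IsPGroup r (M ⊔ zpowers g : Subgroup G) := hMr.to_sup_of_normal_left'
        (IsPGroup.of_card (n := 1) (by rw [Nat.card_zpowers, hg, hlr, pow_one]))
        (fun y _ => normalizer_eq_top (H := M) ▸ mem_top y)
      obtain ⟨j, hj⟩ := IsPGroup.exists_orderOf_eq_pow hE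
        ⟨(m : G) * g, mul_mem (mem_sup_left m.2) (mem_sup_right (mem_zpowers g))⟩
      rw [Subgroup.orderOf_mk] at hj
      have hgl : g ^ l = 1 := by rw [← hg, pow_orderOf_eq_one]
      have := hm.pow_of_r hj
      rw [← hlr, hpr, hgl, mul_one] at this
      exact Subtype.ext this
    · let φ : M → M := fun y => f g y / y
      have hφ : Function.Injective φ := by
        intro a b e
        have e' : f g (a / b) = a / b := by
          have e1 : f g a / a = f g b / b := e
          rw [map_div]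
          exact div_eq_div_iff_div_eq_div.1 e1
        set y := a / b with hy
        by_contra hne
        have hy1 : (y : G) ≠ 1 := fun h1 => hne (div_eq_one.1 (Subtype.ext h1))
        have hc : Commute (y : G) g := by
          have h2 : g * (y : G) * g⁻¹ = y := by
            rw [← MulAut.conjNormal_apply]; exact congrArg Subtype.val e'
          exact (mul_inv_eq_iff_eq_mul.1 h2).symm
        rcases hm.prime_of_commute_r (orderOf_eq_prime (hr1 _ y.2) hy1) hl hg hc with h3 | h3
        · exact hl2 h3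
        · exact hlr h3
      obtain ⟨y, hy⟩ := Finite.surjective_of_injective hφ m
      rw [← hy]
      have hstep : ∀ i, f (g ^ i) (f g y / y) = f (g ^ (i + 1)) y / f (g ^ i) y := fun i => by
        rw [map_div, pow_succ, map_mul, MulAut.mul_apply]
      show ∏ i ∈ Finset.range l, f (g ^ i) (f g y / y) = 1
      simp only [hstep]
      rw [Finset.prod_range_div (fun i => f (g ^ i) y), ← hg, pow_orderOf_eq_one, pow_zero, div_self']
  have hcop : (Nat.card (S : Subgroup G)).Coprime r := by
    obtain ⟨n, hn⟩ := IsPGroup.iff_card.1 S.2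
    rw [hn]
    exact Nat.Coprime.pow_left n (Nat.coprime_two_left.2 hm.odd_r)
  have hSC : (S : Subgroup G) ≤ centralizer (M : Set G) := fun v hv => mem_centralizer_iff.2 fun y hy => by
    have := fixed_of_fpf (r := r) f _ hl ho hN hfpf hzero
      (fun z => Subtype.ext (hr1 z z.2)) hcop hv ⟨y, hy⟩
    have h2 : v * y * v⁻¹ = y := by
      have h3 := congrArg Subtype.val this
      rwa [MulAut.conjNormal_apply] at h3
    exact (mul_inv_eq_iff_eq_mul.1 h2).symm
  haveI : Group.IsSolvable (centralizer (M : Set G)) := by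
    refine CfsgLib.ClassSizeNM.isSolvable_of_two_primes Nat.prime_two hm.prime
      fun s hs hs2 hsr y hy => ?_
    obtain ⟨k, hk⟩ := hy
    rcases k with _ | k
    · rw [orderOf_eq_one_iff.1 (hk.trans (pow_zero s))]; exact one_mem _
    exfalso
    have ho' : orderOf ((y : G) ^ s ^ k) = s := by
      rw [orderOf_pow_of_dvd (pow_ne_zero _ hs.ne_zero)
        (by rw [Subgroup.orderOf_coe, hk]; exact pow_dvd_pow s k.le_succ), Subgroup.orderOf_coe, hk,
        pow_succ, Nat.mul_div_cancel_left _ (pow_pos hs.pos k)]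
    rcases hm.prime_of_commute_r (orderOf_eq_prime (hr1 _ hm₀) hm₀1) hs ho'
      ((show Commute m₀ (y : G) from mem_centralizer_iff.1 y.2 m₀ hm₀).pow_right _) with e | e
    · exact hs2 e
    · exact hsr e
  exact hns (isSolvable_of_sylow_le (centralizer (M : Set G)) S hSC)

theorem exists_rot_of_not_solvable (hm : RMixed G r) (hns : ¬ Group.IsSolvable G) (P : Sylow 2 G)
    [hP : IsKleinFour ↥(P : Subgroup G)] : ∃ t ρ : G, Rot (P : Subgroup G) t ρ := by
  by_contra hno
  set V : Subgroup G := (P : Subgroup G) with hV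
  obtain ⟨K, -, hKr, hKn, -, hdec⟩ := exists_kernel hm P (le_top : V ≤ ⊤) fun g _ hg => by
    by_contra hc
    obtain ⟨t, ρ, hR, -⟩ := exists_rot hm P hg hc
    exact hno ⟨t, ρ, hR⟩
  haveI : Fact r.Prime := ⟨hm.prime⟩
  haveI : K.Normal := ⟨fun k hk g => hKn g trivial k hk⟩
  haveI : Group.IsNilpotent K := hKr.isNilpotent
  haveI : Group.IsSolvable (G ⧸ K) := Group.isSolvable_of_comm fun a b => by
    have key : ∀ c : G ⧸ K, ∃ v ∈ V, c = QuotientGroup.mk' K v := fun c => by
      obtain ⟨g, rfl⟩ := QuotientGroup.mk'_surjective K c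
      obtain ⟨k, hk, v, hv, rfl⟩ := hdec g trivial
      refine ⟨v, hv, ?_⟩
      rw [map_mul, show QuotientGroup.mk' K k = 1 from (QuotientGroup.eq_one_iff k).2 hk, one_mul]
    obtain ⟨v, hv, rfl⟩ := key a
    obtain ⟨w, hw, rfl⟩ := key b
    rw [← map_mul, ← map_mul, (four_comm hv hw).eq]
  exact hns (Group.isSolvable_of_ker_le_range K.subtype (QuotientGroup.mk' K)
    (by rw [QuotientGroup.ker_mk', range_subtype]))

/-- The normaliser of a Sylow subgroup maps onto that of its image. -/
theorem exists_lift_normalizer {p : ℕ} [Fact p.Prime] (P : Sylow p G) (N : Subgroup G) [N.Normal]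
    {y : G ⧸ N} (hy : y ∈ normalizer (((P : Subgroup G).map (QuotientGroup.mk' N)) : Set (G ⧸ N))) :
    ∃ g ∈ normalizer ((P : Subgroup G) : Set G), QuotientGroup.mk' N g = y := by
  set π := QuotientGroup.mk' N with hπ
  obtain ⟨g, rfl⟩ := QuotientGroup.mk'_surjective N y
  set K := (P : Subgroup G) ⊔ N with hK
  have hgK : ((g • P : Sylow p G) : Subgroup G) ≤ K := by
    intro z hz
    rw [Sylow.coe_subgroup_smul, mem_pointwise_smul_iff_inv_smul_mem] at hz
    have h1 : π (g⁻¹ * z * g) ∈ (P : Subgroup G).map π :=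
      ⟨g⁻¹ * z * g, by have := hz; simp [mul_assoc] at this ⊢; exact this, rfl⟩
    have h2 := (mem_normalizer_iff.1 hy _).1 h1
    rw [← map_inv, ← map_mul, ← map_mul] at h2
    have h3 : z ∈ ((P : Subgroup G).map π).comap π := by
      rw [mem_comap]
      rwa [show g * (g⁻¹ * z * g) * g⁻¹ = z by group] at h2
    rwa [comap_map_eq, hπ, QuotientGroup.ker_mk'] at h3
  have hPK : (P : Subgroup G) ≤ K := le_sup_left
  obtain ⟨t, ht⟩ := MulAction.exists_smul_eq K ((g • P : Sylow p G).subtype hgK) (P.subtype hPK)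
  rw [Sylow.smul_subtype] at ht
  have heq := Sylow.subtype_injective ht
  have hnorm : (t : G) * g ∈ normalizer ((P : Subgroup G) : Set G) := by
    refine Sylow.smul_eq_iff_mem_normalizer.1 ?_
    rw [mul_smul]
    exact heq
  obtain ⟨x, hx, n, hn, hxn⟩ := mem_sup_of_normal_right.1 t.2
  refine ⟨x⁻¹ * ((t : G) * g), mul_mem (le_normalizer (inv_mem hx)) hnorm, ?_⟩
  rw [← hxn]
  simp [hπ, (QuotientGroup.eq_one_iff n).2 hn]

theorem pElementClosure_normal : (Cfsg.pElementClosure 2 (⊤ : Subgroup G)).Normal := by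
  refine ⟨fun x hx g => ?_⟩
  induction hx using Subgroup.closure_induction with
  | mem y hy =>
    obtain ⟨-, k, hk⟩ := hy
    exact subset_closure ⟨trivial, k, (MulEquiv.orderOf_eq (MulAut.conj g) y).trans hk⟩
  | one => simp
  | mul y z _ _ hy hz =>
    rw [show g * (y * z) * g⁻¹ = g * y * g⁻¹ * (g * z * g⁻¹) by group]
    exact mul_mem hy hz
  | inv y _ hy =>
    rw [show g * y⁻¹ * g⁻¹ = (g * y * g⁻¹)⁻¹ by group]
    exact inv_mem hy

/-- No element of order `2r` lives in `L₂(2^k)`. -/
theorem false_of_iso_char_two {H : Type*} [Group H] [Finite H] {F : Type} [Field F] [Fintype F]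
    [CharP F 2] (e : H ≃* Matrix.ProjectiveSpecialLinearGroup (Fin 2) F) {x : H} (hr : r.Prime)
    (hx : orderOf x = 2 * r) : False := by
  rcases psl_two_or_odd e x with h | h
  · have hd := orderOf_dvd_of_pow_eq_one (show x ^ 2 = 1 by rw [pow_two]; exact h)
    rw [hx] at hd
    have := Nat.le_of_dvd two_pos hd
    have := hr.two_le
    omega
  · rw [hx] at h
    exact h.not_two_dvd_nat (dvd_mul_right 2 r)

/-- Rank at least three is impossible. -/
theorem false_of_rank_three (hm : RMixed G r) (hns : ¬ Group.IsSolvable G) (S : Sylow 2 G)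
    (h8 : 2 ^ 3 ≤ Nat.card (S : Subgroup G)) {x₀ : G} (hx₀ : orderOf x₀ = 2 * r) : False := by
  classical
  haveI : Fact (Nat.Prime 2) := ⟨Nat.prime_two⟩
  haveI : Fact r.Prime := ⟨hm.prime⟩
  set W := Cfsg.pPrimeCore 2 G with hWdef
  have hWodd : Odd (Nat.card W) :=
    Nat.coprime_two_right.1 (CfsgLib.Solvable.Cores.coprime_card_pPrimeCore 2)
  have hWr : IsPGroup r W := by
    obtain ⟨n, hn⟩ := IsPGroup.iff_card.1 S.2
    obtain ⟨V, hV⟩ := Sylow.exists_subgroup_card_pow_prime (G := (S : Subgroup G)) 2 (n := 2) (by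
      rw [hn]
      refine pow_dvd_pow 2 ?_
      by_contra hlt
      have := Nat.pow_le_pow_right two_pos (show n ≤ 1 by omega)
      omega)
    set V' := V.map (S : Subgroup G).subtype with hV'
    have h4 : Nat.card V' = 4 := by
      rw [hV', card_map_of_injective (subtype_injective _), hV]; norm_num
    haveI : IsKleinFour V' := by
      have hsq : ∀ v : V', v * v = 1 := fun v =>
        Subtype.ext (hm.sylow_sq S.2 (map_subtype_le V v.2))
      refine ⟨h4, ?_⟩
      refine (Nat.prime_two.eq_one_or_self_of_dvd _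
        (Monoid.exponent_dvd_of_forall_pow_eq_one fun v => by rw [pow_two]; exact hsq v)).resolve_left
        fun h1 => ?_
      haveI : Subsingleton V' := Monoid.exp_eq_one_iff.1 h1
      rw [Nat.card_eq_one_iff_unique.2 ⟨inferInstance, inferInstance⟩] at h4
      omega
    exact hm.isPGroup_of_four (V := V') (fun v _ => normalizer_eq_top (H := W) ▸ mem_top v) hWodd
  let π : G →* G ⧸ W := QuotientGroup.mk' W
  have hm' : RMixed (G ⧸ W) r := hm.of_surjective (QuotientGroup.mk'_surjective W)
  have hns' : ¬ Group.IsSolvable (G ⧸ W) := fun _ => by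
    haveI := CfsgLib.OddOrder.Final.oddSolvable W hWodd
    exact hns (Group.isSolvable_of_ker_le_range W.subtype π
      (by rw [QuotientGroup.ker_mk', range_subtype]))
  have hO' : Cfsg.pPrimeCore 2 (G ⧸ W) = ⊥ := pPrimeCore_quotient_eq_bot G
  have hO2' := hm'.pCore_two_eq_bot hns'
  let S' : Sylow 2 (G ⧸ W) := S.mapSurjective (f := π) (QuotientGroup.mk'_surjective W)
  have hSW : ∀ v ∈ (S : Subgroup G), π v = 1 → v = 1 := fun v hv h =>
    eq_one_of_odd_of_sq (hWodd.of_dvd_nat (Subgroup.orderOf_dvd_natCard _ ((QuotientGroup.eq_one_iff v).1 h)))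
      (hm.sylow_sq S.2 hv)
  have hcS : Nat.card (S' : Subgroup (G ⧸ W)) = Nat.card (S : Subgroup G) := by
    have hinj : Function.Injective (π.comp (S : Subgroup G).subtype) :=
      (injective_iff_map_eq_one _).2 fun v hv => Subtype.ext (hSW v v.2 hv)
    show Nat.card ((S : Subgroup G).map π) = _
    rw [show (S : Subgroup G).map π = (π.comp (S : Subgroup G).subtype).range by
      rw [MonoidHom.range_comp, range_subtype]]
    exact (Nat.card_congr (MonoidHom.ofInjective hinj).toEquiv).symm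
  obtain ⟨F, _, _, hF2, hF4, ⟨e⟩⟩ := exists_closure_iso hm' hO2' hO' S' (hcS ▸ h8)
  set L := Cfsg.pElementClosure 2 (⊤ : Subgroup (G ⧸ W)) with hLdef
  haveI : L.Normal := pElementClosure_normal
  have hSL : (S' : Subgroup (G ⧸ W)) ≤ L := fun v hv => by
    obtain ⟨k, hk⟩ := IsPGroup.exists_orderOf_eq_pow S'.2 ⟨v, hv⟩
    rw [Subgroup.orderOf_mk] at hk
    exact subset_closure ⟨trivial, k, hk⟩
  obtain ⟨z, hz, hz1⟩ : ∃ z ∈ (S' : Subgroup (G ⧸ W)), z ≠ 1 := by
    by_contra h
    push Not at h
    rw [← hcS, (eq_bot_iff_forall _).2 h, card_bot] at h8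
    norm_num at h8
  have hC := hm'.centralizer_eq_bot hO2' hO' L (hSL hz) (hm'.orderOf_two S'.2 hz hz1)
  obtain ⟨hL, hcent, hdvd⟩ := eq_top_of_char_two hm' L hC S' hSL hF4 e
  obtain ⟨-, ho1, -⟩ := gcd_two_sub_one (F := F)
  set l := (Fintype.card F - 1).minFac with hldef
  have hl : l.Prime := Nat.minFac_prime (by omega)
  have hlo : Odd l := ho1.of_dvd_nat (Nat.minFac_dvd _)
  have hl2 : l ≠ 2 := fun e2 => (e2 ▸ hlo).not_two_dvd_nat dvd_rfl
  haveI := Fact.mk hl
  obtain ⟨y, hy⟩ := exists_prime_orderOf_dvd_card'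
    (G := normalizer ((S' : Subgroup (G ⧸ W)) : Set (G ⧸ W))) l ((Nat.minFac_dvd _).trans hdvd)
  rw [← Subgroup.orderOf_coe] at hy
  obtain ⟨g, hgN, hgy⟩ := exists_lift_normalizer S W (y := (y : G ⧸ W)) y.2
  have hlg : l ∣ orderOf g := hy ▸ hgy ▸ orderOf_map_dvd π g
  set h := g ^ (orderOf g / l) with hh
  have hho : orderOf h = l := orderOf_pow_orderOf_div (orderOf_pos g).ne' hlg
  have hπh : π h ≠ 1 := by
    intro h1
    by_cases hlr : l = r
    · rcases hm.odd g (hlr ▸ hlg) with e1 | e1
      · rw [hh, e1, hlr, Nat.div_self hm.prime.pos, pow_one] at h1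
        rw [← hgy, h1, orderOf_one] at hy
        exact hl.ne_one hy.symm
      · rw [hh, e1, hlr, Nat.mul_div_cancel _ hm.prime.pos, map_pow, show π g = y from hgy] at h1
        have := Nat.le_of_dvd two_pos (hy ▸ orderOf_dvd_of_pow_eq_one h1)
        have := hl.two_le
        omega
    · obtain ⟨j, hj⟩ := IsPGroup.exists_orderOf_eq_pow hWr ⟨h, (QuotientGroup.eq_one_iff h).1 h1⟩
      rw [Subgroup.orderOf_mk, hho] at hj
      exact hlr ((Nat.prime_dvd_prime_iff_eq hl hm.prime).1 (hl.dvd_of_dvd_pow (show l ∣ r ^ j by rw [← hj])))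
  have hfpf : ∀ v ∈ (S : Subgroup G), Commute h v → v = 1 := by
    intro v hv hc
    by_contra hv1
    have hvS : π v ∈ (S' : Subgroup (G ⧸ W)) := mem_map_of_mem π hv
    have hmem := hcent (π v) hvS (fun h1 => hv1 (hSW v hv h1))
      (mem_centralizer_singleton_iff.2 (hc.map π).eq)
    refine hπh (eq_one_of_odd_of_sq (hlo.of_dvd_nat ?_) (hm'.sylow_sq S'.2 hmem))
    exact hho ▸ orderOf_map_dvd π h
  have hW1 := hm.eq_bot_of_fpf hns S W hWr hl hl2 hho (pow_mem hgN _) hfpf
  have hinj : Function.Injective π := (MonoidHom.ker_eq_bot_iff π).1 (by rw [QuotientGroup.ker_mk', hW1])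
  haveI := hF2
  refine false_of_iso_char_two ((Subgroup.topEquiv.symm.trans (MulEquiv.subgroupCongr hL.symm)).trans e)
    (x := π x₀) hm.prime ?_
  rw [orderOf_injective π hinj, hx₀]

/-- With an element of order `2r` the group is `L₂(q)`, `q > 5`, `q ≡ 3, 5 (mod 8)`. -/
theorem psl_of_rMixed (h3 : Sparse G) (hm : RMixed G r) (hns : ¬ Group.IsSolvable G) {x₀ : G}
    (hx₀ : orderOf x₀ = 2 * r) :
    ∃ (F : Type) (_ : Field F) (_ : Fintype F), 5 < Fintype.card F ∧
      (Fintype.card F % 8 = 3 ∨ Fintype.card F % 8 = 5) ∧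
      ((Fintype.card F + 1) / 2).primeFactorsList.length ≤ 2 ∧
      ((Fintype.card F - 1) / 2).primeFactorsList.length ≤ 2 ∧
      Nonempty (G ≃* Matrix.ProjectiveSpecialLinearGroup (Fin 2) F) := by
  classical
  haveI : Fact (Nat.Prime 2) := ⟨Nat.prime_two⟩
  obtain ⟨P⟩ : Nonempty (Sylow 2 G) := inferInstance
  rcases RMixed.four_or_eight hns P with h4 | h8
  swap
  · exact (false_of_rank_three hm hns P h8 hx₀).elim
  haveI hP := hm.isKleinFour P h4
  set W := Cfsg.pPrimeCore 2 G with hWdef
  have hWodd : Odd (Nat.card W) :=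
    Nat.coprime_two_right.1 (CfsgLib.Solvable.Cores.coprime_card_pPrimeCore 2)
  obtain ⟨t₁, ρ₁, hrot₁⟩ := exists_rot_of_not_solvable hm hns P
  have hO : W = ⊥ := hm.eq_bot_of_fpf hns P W
    (isPGroup_of_invariant hm P (fun v _ => normalizer_eq_top (H := W) ▸ mem_top v) hWodd)
    Nat.prime_three (by norm_num) hrot₁.three hrot₁.mem_normalizer
    (fun v hv hc => by_contra fun hv1 => hrot₁.not_commute hv hv1 hc)
  have hO2 := hm.pCore_two_eq_bot hns
  obtain ⟨L, hLn, hLs, hLns, hC⟩ := exists_simple_normal hm hns hO2 hO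
  haveI := hLn
  haveI := hLs
  have hPL : (P : Subgroup G) ≤ L := by
    obtain ⟨Q⟩ : Nonempty (Sylow 2 L) := inferInstance
    have hQ : 4 ≤ Nat.card (Q : Subgroup L) := by
      rcases RMixed.four_or_eight hLns Q with e | e <;> omega
    obtain ⟨T, hT⟩ := (Q.2.map L.subtype).exists_le_sylow
    have hcT : Nat.card (T : Subgroup G) = 4 := by
      rw [← h4]; exact Nat.card_congr (T.equiv P).toEquiv
    have hTL : (T : Subgroup G) ≤ L := by
      rw [← eq_of_le_of_card_ge hT (by rw [hcT, card_map_of_injective L.subtype_injective]; exact hQ)]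
      exact map_subtype_le _
    obtain ⟨g, rfl⟩ := MulAction.exists_smul_eq G T P
    intro v hv
    rw [Sylow.coe_subgroup_smul, mem_pointwise_smul_iff_inv_smul_mem] at hv
    have := (inferInstance : L.Normal).conj_mem _ (hTL hv) g
    simpa [mul_assoc] using this
  have hmL : RMixed L r := hm.subgroup L
  let P' : Sylow 2 L := P.subtype hPL
  haveI hP' : IsKleinFour ↥(P' : Subgroup L) := hmL.isKleinFour P'
    ((Nat.card_congr (subgroupOfEquivOfLe hPL).toEquiv).trans h4)
  obtain ⟨t, ρ, hrot'⟩ := exists_rot_of_not_solvable hmL hLns P'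
  have hrot : Rot (P : Subgroup G) (t : G) (ρ : G) :=
    ⟨hrot'.mem, by rw [Subgroup.orderOf_coe]; exact hrot'.two,
      by rw [Subgroup.orderOf_coe]; exact hrot'.three, hrot'.mem_conj,
      fun e => hrot'.ne (Subtype.ext e), congrArg Subtype.val hrot'.cycle⟩
  by_cases hOd : ∃ y, Odd (orderOf y) ∧ Commute (t : G) y ∧ y ∉ centralizer ((P : Subgroup G) : Set G)
  · obtain ⟨hD, -, -⟩ := strong_of_rot hm P hrot hOd
    have hL : L = ⊤ := eq_top_of_rot hm P L hPL hrot ρ.2 hD
    haveI : IsSimpleGroup G := by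
      haveI : Nontrivial G := not_subsingleton_iff_nontrivial.1 fun _ => hns inferInstance
      exact IsSimpleGroup.isSimpleGroup_of_surjective
        ((MulEquiv.subgroupCongr hL).trans Subgroup.topEquiv).toMonoidHom
        ((MulEquiv.subgroupCongr hL).trans Subgroup.topEquiv).surjective
    obtain ⟨F, _, _, hF8, ⟨e⟩⟩ := psl_of_rot hm P hrot hOd
    obtain ⟨p, hpF⟩ := CharP.exists F
    haveI : Fact p.Prime := ⟨CharP.char_is_prime F p⟩
    obtain ⟨n, -, hn⟩ := FiniteField.card F p
    have h3F := CfsgLib.Perm.ZGroup.three_lt_of_simple_psl e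
    have hgcd : Nat.gcd 2 (Fintype.card F - 1) = 2 :=
      Nat.gcd_eq_left (show 2 ∣ Fintype.card F - 1 by omega)
    have h5 : Fintype.card F ≠ 5 := by
      intro h5
      have hp5 : p = 5 := by
        have hd : p ∣ 5 := by rw [← h5, hn]; exact dvd_pow_self p n.ne_zero
        exact (Nat.prime_dvd_prime_iff_eq Fact.out Nat.prime_five).1 hd
      have := CfsgLib.LocalEven.Spectrum.psl_orderOf_dvd p (e x₀)
      rw [hgcd, h5, hp5, MulEquiv.orderOf_eq, hx₀] at this
      norm_num at this
      have hr2 := hm.prime.two_le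
      have hr3 := hm.ne_two
      rcases this with h | h | h
      · have := Nat.le_of_dvd (by norm_num) h; omega
      · have := Nat.le_of_dvd (by norm_num) h; omega
      · have := Nat.le_of_dvd (by norm_num) h; omega
    have hlen : ∀ k, k ∈ ({p, (Fintype.card F - 1) / Nat.gcd 2 (Fintype.card F - 1),
        (Fintype.card F + 1) / Nat.gcd 2 (Fintype.card F - 1)} : Set ℕ) →
        k.primeFactorsList.length ≤ 2 := fun k hk => by
      obtain ⟨w, hw⟩ := CfsgLib.LocalEven.Spectrum.psl_exists p k hk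
      have := h3.length_le_two (e.symm w)
      rwa [MulEquiv.orderOf_eq, hw] at this
    rw [hgcd] at hlen
    refine ⟨F, inferInstance, inferInstance, ?_, hF8, hlen _ (Or.inr (Or.inr rfl)),
      hlen _ (Or.inr (Or.inl rfl)), ⟨e⟩⟩
    omega
  · exfalso
    obtain ⟨e⟩ := alt5_of_not hmL P' hrot' (by
      rintro ⟨y, hy, hty, hyV⟩
      refine hOd ⟨y, by rwa [Subgroup.orderOf_coe], hty.map L.subtype, fun h => hyV ?_⟩
      exact mem_centralizer_iff.2 fun v hv => Subtype.ext (mem_centralizer_iff.1 h v hv))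
    letI := Fintype.ofFinite (GaloisField 2 2)
    have hK : Fintype.card (GaloisField 2 2) = 4 := by
      rw [← Nat.card_eq_fintype_card, GaloisField.card 2 2 two_ne_zero]; norm_num
    haveI := CfsgLib.Classical.psl_fin_isSimpleGroup (F := GaloisField 2 2) (k := 2) le_rfl
      (fun _ => hK.ge)
    have h60 : Nat.card (Matrix.ProjectiveSpecialLinearGroup (Fin 2) (GaloisField 2 2)) = 60 := by
      have hc := CfsgLib.Perm.ZGroup.card_psl2_gcd (F := GaloisField 2 2)
      rw [hK, show Nat.gcd 2 (4 - 1) = 1 from rfl, one_mul] at hc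
      exact hc
    obtain ⟨e'⟩ := Cfsg.Agent.S0494.result h60
    obtain ⟨hL, -, -⟩ := eq_top_of_char_two hm L hC P hPL hK.ge (e.trans e'.symm)
    exact false_of_iso_char_two
      ((Subgroup.topEquiv.symm.trans (MulEquiv.subgroupCongr hL.symm)).trans (e.trans e'.symm))
      hm.prime hx₀

end CfsgLib.Recognition.SparseOrders
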