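import Cfsg.Agent.Lib.Recognition.SparseOrders.Simple
import Cfsg.Agent.Lib.LocalEven.Spectrum
import Cfsg.Agent.Lib.Fusion.SFreeFF.Hom
import Cfsg.Agent.Lib.OddOrder.SigmaConjugate

/-!
# No automorphisms are added in a mixed group

Let `L` be normal with trivial centraliser and containing a Sylow 2-subgroup `S`.  If `L ≅ L₂(2^k)` the
Sylow 2-subgroups are `q + 1` in number and `S` is regular on the others, so an element of odd order
commuting with an involution fixes a set of them whose size is a multiple of `r`; this forces it to be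
trivial, and `N(S) ≤ L` by counting.  With a four-group whose centraliser has no odd part, `N(S) ≤ L`
because a rotation in `L` is transitive on the involutions.
-/

set_option autoImplicit false
set_option linter.style.haveILetI false
set_option linter.unusedSectionVars false

namespace CfsgLib.Recognition.SparseOrders

open Subgroup

universe u

variable {G : Type u} [Group G] [Finite G] {r : ℕ}

/-- A subgroup of involutions and the identity containing a Sylow 2-subgroup is that subgroup. -/
theorem le_sylow_of_sq {K : Subgroup G} (S : Sylow 2 G) (hK : ∀ y ∈ K, y * y = 1)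
    (hSK : (S : Subgroup G) ≤ K) : K ≤ (S : Subgroup G) := by
  have h : IsPGroup 2 K := fun y => ⟨1, Subtype.ext (by
    rw [pow_one, pow_two, Subgroup.coe_mul, Subgroup.coe_one]; exact hK y y.2)⟩
  rw [S.3 h hSK]

/-- An element of odd order whose square is trivial is trivial. -/
theorem eq_one_of_odd_of_sq {x : G} (h : Odd (orderOf x)) (h2 : x * x = 1) : x = 1 :=
  orderOf_eq_one_iff.1 (Nat.eq_one_of_dvd_coprimes (Nat.coprime_two_right.2 h) dvd_rfl
    (orderOf_dvd_of_pow_eq_one (by rwa [pow_two])))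

theorem RMixed.sq_of_no_odd (hm : RMixed G r) {H : Subgroup G}
    (hodd : ∀ x ∈ H, Odd (orderOf x) → x = 1) {y : G} (hy : y ∈ H) : y * y = 1 := by
  by_cases h2 : 2 ∣ orderOf y
  · rcases hm.two y h2 with e | e
    · rw [← pow_two, ← e, pow_orderOf_eq_one]
    · exfalso
      have ho : orderOf (y ^ 2) = r := by
        rw [orderOf_pow_of_dvd two_ne_zero (e ▸ dvd_mul_right 2 r), e,
          Nat.mul_div_cancel_left _ two_pos]
      have := orderOf_eq_one_iff.2 (hodd _ (pow_mem hy 2) (by rw [ho]; exact hm.odd_r))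
      rw [ho] at this
      exact hm.prime.ne_one this
  · rw [hodd y hy (Nat.not_even_iff_odd.1 fun e => h2 e.two_dvd), one_mul]

/-- An element fixing every Sylow subgroup of a simple normal subgroup with trivial centraliser. -/
theorem eq_one_of_fix (L : Subgroup G) [L.Normal] [IsSimpleGroup ↥L]
    (hC : centralizer (L : Set G) = ⊥) (S : Sylow 2 G) (hS : ¬ L ≤ normalizer ((S : Subgroup G) : Set G))
    {x : G} (hx : ∀ P : Sylow 2 G, x • P = P) : x = 1 := by
  set K := (MulAction.toPermHom G (Sylow 2 G)).ker with hK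
  have hxK : x ∈ K := MonoidHom.mem_ker.2 (Equiv.ext fun P => hx P)
  have hdis : Disjoint K L := by
    rw [disjoint_iff]
    rcases (inferInstance : (K.subgroupOf L).Normal).eq_bot_or_eq_top with e | e
    · exact subgroupOf_eq_bot.1 e |> disjoint_iff.1
    · refine absurd (fun l hl => ?_) hS
      exact Sylow.smul_eq_iff_mem_normalizer.1
        (Equiv.ext_iff.1 (MonoidHom.mem_ker.1 (subgroupOf_eq_top.1 e hl)) S)
  have : x ∈ centralizer (L : Set G) := mem_centralizer_iff.2 fun l hl =>
    (commute_of_normal_of_disjoint K L inferInstance inferInstance hdis x l hxK hl).symm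
  rwa [hC, mem_bot] at this

/-- Conjugation moves a fixed nontrivial element of a subgroup around at most its involutions. -/
theorem card_le_mul_stab {X S : Subgroup G} (hX : X ≤ normalizer (S : Set G)) {z : G} (hz : z ∈ S)
    (hz1 : z ≠ 1) :
    Nat.card X ≤ (Nat.card S - 1) * Nat.card (X ⊓ centralizer ({z} : Set G) : Subgroup G) := by
  classical
  set K := (centralizer ({z} : Set G)).subgroupOf X with hK
  have hcK : Nat.card K = Nat.card (X ⊓ centralizer ({z} : Set G) : Subgroup G) := by
    rw [hK, ← card_map_of_injective X.subtype_injective, subgroupOf_map_subtype, inf_comm]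
  have hrel : ∀ a b : X, QuotientGroup.leftRel K a b ↔
      (a : G) * z * (a : G)⁻¹ = (b : G) * z * (b : G)⁻¹ := fun a b => by
    rw [QuotientGroup.leftRel_apply, hK, mem_subgroupOf, mem_centralizer_singleton_iff,
      Subgroup.coe_mul, Subgroup.coe_inv]
    constructor
    · intro h
      calc (a : G) * z * (a : G)⁻¹ = (a : G) * (z * ((a : G)⁻¹ * b)) * (b : G)⁻¹ := by group
        _ = (b : G) * z * (b : G)⁻¹ := by rw [← h]; group
    · intro h
      calc (a : G)⁻¹ * b * z = (a : G)⁻¹ * ((b : G) * z * (b : G)⁻¹) * b := by group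
        _ = z * ((a : G)⁻¹ * b) := by rw [← h]; group
  let f : X ⧸ K → {w : S // w ≠ 1} := Quotient.lift
    (fun a : X => (⟨⟨(a : G) * z * (a : G)⁻¹, (mem_normalizer_iff.1 (hX a.2) z).1 hz⟩,
      fun e => hz1 (conj_eq_one_iff.1 (congrArg Subtype.val e))⟩ : {w : S // w ≠ 1}))
    (fun a b h => Subtype.ext (Subtype.ext ((hrel a b).1 h)))
  have hf : Function.Injective f := by
    intro a b
    induction a using Quotient.inductionOn'
    induction b using Quotient.inductionOn'
    intro e
    exact Quotient.sound' ((hrel _ _).2 (congrArg (fun w : {w : S // w ≠ 1} => ((w : S) : G)) e))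
  have hle := Nat.card_le_card_of_injective f hf
  have h1 : Nat.card {w : S // w ≠ 1} = Nat.card S - 1 := by
    haveI := Fintype.ofFinite S
    rw [Nat.card_eq_fintype_card, Nat.card_eq_fintype_card, Fintype.card_subtype_compl,
      Fintype.card_subtype_eq]
  rw [← card_mul_index K, hcK, Subgroup.index_eq_card, mul_comm]
  exact Nat.mul_le_mul_right _ (h1 ▸ hle)

section CharTwo

variable {F : Type} [Field F] [Fintype F] [CharP F 2]

theorem gcd_two_sub_one : Nat.gcd 2 (Fintype.card F - 1) = 1 ∧ Odd (Fintype.card F - 1) ∧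
    Odd (Fintype.card F + 1) := by
  obtain ⟨k, -, hk⟩ := FiniteField.card F 2
  have he : Even (Fintype.card F) := by rw [hk]; exact Nat.even_pow.2 ⟨even_two, k.ne_zero⟩
  obtain ⟨m, hm⟩ := he
  have := Fintype.one_lt_card (α := F)
  have ho : Odd (Fintype.card F - 1) := ⟨m - 1, by omega⟩
  exact ⟨Nat.coprime_two_left.2 ho, ho, ⟨m, by omega⟩⟩

theorem psl_two_or_odd {H : Type*} [Group H] [Finite H]
    (e : H ≃* Matrix.ProjectiveSpecialLinearGroup (Fin 2) F) (x : H) :
    x * x = 1 ∨ Odd (orderOf x) := by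
  haveI : Fact (Nat.Prime 2) := ⟨Nat.prime_two⟩
  obtain ⟨h1, h2, h3⟩ := gcd_two_sub_one (F := F)
  have h := CfsgLib.LocalEven.Spectrum.psl_orderOf_dvd 2 (e x)
  rw [h1, Nat.div_one, Nat.div_one, MulEquiv.orderOf_eq] at h
  rcases h with h | h | h
  · left
    rw [← pow_two]
    exact orderOf_dvd_iff_pow_eq_one.1 h
  · exact Or.inr (h2.of_dvd_nat h)
  · exact Or.inr (h3.of_dvd_nat h)

/-- A normal `L₂(2^k)` with trivial centraliser is everything; its Sylow 2-subgroups are
self-centralising and their normalisers have order `q (q - 1)`. -/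
theorem eq_top_of_char_two (hm : RMixed G r) (L : Subgroup G) [L.Normal]
    (hC : centralizer (L : Set G) = ⊥) (S : Sylow 2 G) (hSL : (S : Subgroup G) ≤ L)
    (h4 : 4 ≤ Fintype.card F) (e : L ≃* Matrix.ProjectiveSpecialLinearGroup (Fin 2) F) :
    L = ⊤ ∧ (∀ z ∈ (S : Subgroup G), z ≠ 1 → centralizer ({z} : Set G) ≤ (S : Subgroup G)) ∧
      Fintype.card F - 1 ∣ Nat.card (normalizer ((S : Subgroup G) : Set G)) := by
  classical
  haveI : Fact (Nat.Prime 2) := ⟨Nat.prime_two⟩
  haveI : Fact r.Prime := ⟨hm.prime⟩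
  haveI := CfsgLib.Classical.psl_fin_isSimpleGroup (F := F) (k := 2) le_rfl (fun _ => h4)
  haveI : Nontrivial L := e.toEquiv.nontrivial
  haveI : IsSimpleGroup L := IsSimpleGroup.isSimpleGroup_of_surjective e.symm.toMonoidHom e.symm.surjective
  obtain ⟨hg1, -, hq1odd⟩ := gcd_two_sub_one (F := F)
  set q := Fintype.card F with hqdef
  -- orders
  have hcard : Nat.card L = q * ((q - 1) * (q + 1)) := by
    have hc := CfsgLib.Perm.ZGroup.card_psl2_gcd (F := F)
    rw [hg1, one_mul, ← Nat.card_congr e.toEquiv] at hc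
    exact hc
  obtain ⟨k, -, hk⟩ := FiniteField.card F 2
  have hSq : Nat.card (S : Subgroup G) = q := by
    refine Nat.dvd_antisymm ?_ ?_
    · have h1 : Nat.card (S : Subgroup G) ∣ q * ((q - 1) * (q + 1)) := hcard ▸ card_dvd_of_le hSL
      obtain ⟨n, hn⟩ := IsPGroup.iff_card.1 S.2
      have hcop : (Nat.card (S : Subgroup G)).Coprime ((q - 1) * (q + 1)) := by
        rw [hn]
        exact Nat.Coprime.pow_left n (Nat.coprime_two_left.2
          ((gcd_two_sub_one (F := F)).2.1.mul hq1odd))
      exact hcop.dvd_of_dvd_mul_right h1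
    · rw [hqdef, hk]
      refine S.pow_dvd_card_of_pow_dvd_card ?_
      rw [← hk, ← hqdef]
      exact (Dvd.intro _ hcard.symm).trans (card_subgroup_dvd_card L)
  have hScomm : ∀ a ∈ (S : Subgroup G), ∀ b ∈ (S : Subgroup G), a * b = b * a := fun a ha b hb =>
    hm.sylow_comm S.2 ha hb
  have htwo : ∀ x ∈ L, x * x = 1 ∨ Odd (orderOf x) := fun x hx => by
    rcases psl_two_or_odd e ⟨x, hx⟩ with h | h
    · exact Or.inl (congrArg Subtype.val h)
    · exact Or.inr (by rwa [← Subgroup.orderOf_coe] at h)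
  have hCL : ∀ (P : Sylow 2 G), ∀ z ∈ (P : Subgroup G), z ≠ 1 →
      L ⊓ centralizer ({z} : Set G) ≤ (P : Subgroup G) ∨ ¬ (P : Subgroup G) ≤ L := by
    intro P z hz hz1
    by_cases hPL : (P : Subgroup G) ≤ L
    · left
      refine le_sylow_of_sq P (fun y hy => ?_) fun y hy => ⟨hPL hy, mem_centralizer_singleton_iff.2
        (hm.sylow_comm P.2 hy hz)⟩
      rcases htwo y hy.1 with h | h
      · exact h
      have hzo := hm.orderOf_two P.2 hz hz1
      have hc : Commute z y := (mem_centralizer_singleton_iff.1 hy.2).symm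
      have ho := hc.orderOf_mul_eq_mul_orderOf_of_coprime (by rw [hzo]; exact Nat.coprime_two_left.2 h)
      rcases htwo (z * y) (mul_mem (hPL hz) hy.1) with h' | h'
      · have hd := orderOf_dvd_of_pow_eq_one (show (z * y) ^ 2 = 1 by rw [pow_two]; exact h')
        rw [ho, hzo] at hd
        have : orderOf y = 1 := Nat.dvd_one.1 ((Nat.mul_dvd_mul_iff_left two_pos).1 (by simpa using hd))
        rw [orderOf_eq_one_iff.1 this, one_mul]
      · rw [ho, hzo] at h'
        exact absurd (dvd_mul_right 2 _) h'.not_two_dvd_nat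
    · exact Or.inr hPL
  have hall : ∀ P : Sylow 2 G, (P : Subgroup G) ≤ L := by
    intro P
    obtain ⟨g, rfl⟩ := MulAction.exists_smul_eq G S P
    intro y hy
    rw [Sylow.coe_subgroup_smul, mem_pointwise_smul_iff_inv_smul_mem] at hy
    have := (inferInstance : L.Normal).conj_mem _ (hSL hy) g
    simpa [mul_assoc] using this
  have hTI : ∀ (P Q : Sylow 2 G) (z : G), z ∈ (P : Subgroup G) → z ∈ (Q : Subgroup G) → z ≠ 1 →
      P = Q := by
    intro P Q z hP hQ hz1
    refine Sylow.ext (le_antisymm ?_ ?_)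
    · exact (show (P : Subgroup G) ≤ L ⊓ centralizer ({z} : Set G) from fun y hy =>
        ⟨hall P hy, mem_centralizer_singleton_iff.2 (hm.sylow_comm P.2 hy hP)⟩).trans
        ((hCL Q z hQ hz1).resolve_right (fun h => h (hall Q)))
    · exact (show (Q : Subgroup G) ≤ L ⊓ centralizer ({z} : Set G) from fun y hy =>
        ⟨hall Q hy, mem_centralizer_singleton_iff.2 (hm.sylow_comm Q.2 hy hQ)⟩).trans
        ((hCL P z hP hz1).resolve_right (fun h => h (hall P)))
  -- `P` acts freely on the other Sylow subgroups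
  have hfree : ∀ (P Q : Sylow 2 G), Q ≠ P → ∀ a ∈ (P : Subgroup G), a • Q = Q → a = 1 := by
    intro P Q hne a ha hfix
    by_contra ha1
    have hN := Sylow.smul_eq_iff_mem_normalizer.1 hfix
    have h2 : IsPGroup 2 (zpowers a) := IsPGroup.of_card (n := 1)
      (by rw [Nat.card_zpowers, hm.orderOf_two P.2 ha ha1, pow_one])
    have hsup : IsPGroup 2 ((Q : Subgroup G) ⊔ zpowers a : Subgroup G) :=
      Q.2.to_sup_of_normal_left' h2 (zpowers_le.2 hN)
    have haQ : a ∈ (Q : Subgroup G) := by
      rw [← Q.3 hsup le_sup_left]; exact mem_sup_right (mem_zpowers a)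
    exact hne (hTI Q P a haQ ha ha1)
  -- counting
  set N := normalizer ((S : Subgroup G) : Set G) with hN
  have hcentS : ∀ z ∈ (S : Subgroup G), z ≠ 1 → L ⊓ centralizer ({z} : Set G) ≤ (S : Subgroup G) :=
    fun z hz hz1 => (hCL S z hz hz1).resolve_right fun h => h hSL
  obtain ⟨z₀, hz₀, hz₀1⟩ : ∃ z ∈ (S : Subgroup G), z ≠ 1 := by
    by_contra h
    push Not at h
    rw [(eq_bot_iff_forall _).2 h, card_bot] at hSq
    omega
  set n := Nat.card (Sylow 2 G) with hn
  have hnN : n * Nat.card (L ⊓ N : Subgroup G) = Nat.card L := by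
    have h1 := S.card_eq_index_normalizer
    have h2 := CfsgLib.Solvable.Basic.card_sup_mul L N
    rw [show N ⊔ L = ⊤ from Sylow.normalizer_sup_eq_top' S hSL, card_top] at h2
    rw [← hn] at h1
    have h3 : n * Nat.card N = Nat.card G := by rw [h1, mul_comm]; exact card_mul_index N
    refine Nat.eq_of_mul_eq_mul_left (Nat.card_pos (α := N)) ?_
    calc Nat.card N * (n * Nat.card (L ⊓ N : Subgroup G))
        = n * Nat.card N * Nat.card (L ⊓ N : Subgroup G) := by ring
      _ = Nat.card N * Nat.card L := by rw [h3, h2]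
  have hN0 : Nat.card (L ⊓ N : Subgroup G) ≤ (q - 1) * q := by
    refine (card_le_mul_stab inf_le_right hz₀ hz₀1).trans ?_
    rw [hSq]
    refine Nat.mul_le_mul_left _ (hSq ▸ Subgroup.card_le_of_le ?_)
    exact (inf_le_inf_right _ inf_le_left).trans (hcentS z₀ hz₀ hz₀1)
  obtain ⟨d, hd⟩ : q ∣ Nat.card (L ⊓ N : Subgroup G) :=
    hSq ▸ card_dvd_of_le (le_inf hSL le_normalizer)
  have hq0 : 0 < q := by omega
  have hnd : n * d = (q - 1) * (q + 1) := by
    refine Nat.eq_of_mul_eq_mul_left hq0 ?_
    rw [← hcard, ← hnN, hd]; ring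
  have hdle : d ≤ q - 1 := Nat.le_of_mul_le_mul_left (by rw [← hd, mul_comm q (q - 1)]; exact hN0) hq0
  have hqn : q ∣ n - 1 := by
    let A : SubMulAction (S : Subgroup G) (Sylow 2 G) :=
      { carrier := {P | P ≠ S}
        smul_mem' := fun a P hP h => hP (by
          have h' : (a : G) • P = S := h
          have hfix : (a : G) • S = S :=
            Sylow.smul_eq_iff_mem_normalizer.2 (le_normalizer a.2)
          exact smul_left_cancel (a : G) (h'.trans hfix.symm)) }
    have hA : ∀ P : A, MulAction.stabilizer (S : Subgroup G) P = ⊥ := fun P =>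
      (eq_bot_iff_forall _).2 fun a ha => Subtype.ext
        (hfree S P.1 P.2 a a.2 (congrArg Subtype.val (MulAction.mem_stabilizer_iff.1 ha)))
    have h := CfsgLib.Fusion.SFreeFF.card_dvd_of_free hA
    rw [hSq] at h
    have hcA : Nat.card A = n - 1 := by
      haveI := Fintype.ofFinite (Sylow 2 G)
      rw [show Nat.card A = Nat.card {P : Sylow 2 G // P ≠ S} from rfl, hn, Nat.card_eq_fintype_card,
        Nat.card_eq_fintype_card, Fintype.card_subtype_compl, Fintype.card_subtype_eq]
    rwa [hcA] at h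
  have hn0 : 0 < n := Nat.card_pos
  obtain ⟨hdeq, hneq⟩ : d = q - 1 ∧ n = q + 1 := by
    obtain ⟨m, hm'⟩ := hqn
    obtain ⟨j, hj⟩ : ∃ j, q = j + 1 := ⟨q - 1, by omega⟩
    have hj' : q - 1 = j := by omega
    rw [hj'] at hnd hdle ⊢
    have hn' : n = q * m + 1 := by omega
    have hdj : q ∣ d + 1 := by
      have e1 : q * (m * d) + (d + 1) = q * q := by
        have : (q * m + 1) * d = j * (q + 1) := hn' ▸ hnd
        rw [hj] at this ⊢
        linarith
      exact (Nat.dvd_add_right (dvd_mul_right q _)).1 (e1 ▸ dvd_mul_right q q)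
    have hde : d = j := by
      have := Nat.le_of_dvd (by omega) hdj
      omega
    refine ⟨hde, Nat.eq_of_mul_eq_mul_right (show 0 < j by omega) ?_⟩
    rw [hde] at hnd
    rw [hnd, mul_comm]
  -- regularity
  have hreg : ∀ (P Q R : Sylow 2 G), Q ≠ P → R ≠ P → ∃ a ∈ (P : Subgroup G), a • Q = R := by
    intro P Q R hQ hR
    have hPq : Nat.card (P : Subgroup G) = q := by
      rw [← hSq]; exact Nat.card_congr (P.equiv S).toEquiv
    let f : ↥(P : Subgroup G) → {X : Sylow 2 G // X ≠ P} := fun a => ⟨(a : G) • Q, fun h => hQ (by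
      have hfix : (a : G) • P = P := Sylow.smul_eq_iff_mem_normalizer.2 (le_normalizer a.2)
      exact smul_left_cancel (a : G) (h.trans hfix.symm))⟩
    have hf : Function.Injective f := fun a b h => by
      have h' : (a : G) • Q = (b : G) • Q := congrArg Subtype.val h
      have := hfree P Q hQ ((b : G)⁻¹ * a) (mul_mem (inv_mem b.2) a.2)
        (by rw [mul_smul, h', inv_smul_smul])
      exact Subtype.ext (inv_mul_eq_one.1 this).symm
    have hbij := (Nat.bijective_iff_injective_and_card f).2 ⟨hf, by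
      haveI := Fintype.ofFinite (Sylow 2 G)
      rw [hPq, Nat.card_eq_fintype_card, Fintype.card_subtype_compl, Fintype.card_subtype_eq,
        ← Nat.card_eq_fintype_card, ← hn, hneq]
      rfl⟩
    obtain ⟨a, ha⟩ := hbij.2 ⟨R, hR⟩
    exact ⟨a, a.2, congrArg Subtype.val ha⟩
  -- elements of odd order commuting with an involution of `S`
  have hodd : ∀ z ∈ (S : Subgroup G), z ≠ 1 → ∀ x, Odd (orderOf x) → Commute z x → x = 1 := by
    intro z hz hz1 x hx hzx
    by_contra hx1
    have hxr : orderOf x = r :=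
      orderOf_eq_prime (hm.pow_of_commute_two (hm.orderOf_two S.2 hz hz1) hx hzx) hx1
    have hxS : x • S = S := by
      refine hTI _ _ z ?_ hz hz1
      rw [Sylow.coe_subgroup_smul, mem_pointwise_smul_iff_inv_smul_mem]
      have e1 : x⁻¹ * (z * x) = z := by rw [hzx.eq, inv_mul_cancel_left]
      simpa [mul_assoc, e1] using hz
    have hfx : ∀ P : Sylow 2 G, (P ∈ MulAction.fixedPoints (zpowers x) (Sylow 2 G) ↔ x • P = P) := by
      refine fun P => ⟨fun h => h ⟨x, mem_zpowers x⟩, fun h g => ?_⟩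
      exact Sylow.smul_eq_iff_mem_normalizer.2 (zpowers_le.2 (Sylow.smul_eq_iff_mem_normalizer.1 h) g.2)
    have hmod : n ≡ Nat.card (MulAction.fixedPoints (zpowers x) (Sylow 2 G)) [MOD r] :=
      (IsPGroup.of_card (n := 1) (by rw [Nat.card_zpowers, hxr, pow_one]) :
        IsPGroup r (zpowers x)).card_modEq_card_fixedPoints _
    -- how a fixed subgroup moves the others
    have horb : ∀ P Q R : Sylow 2 G, x • P = P → x • Q = Q → x • R = R → Q ≠ P → R ≠ P →
        ∃ a ∈ (P : Subgroup G), Commute a x ∧ a • Q = R := by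
      intro P Q R hP hQ hR hQP hRP
      obtain ⟨a, ha, hQR⟩ := hreg P Q R hQP hRP
      refine ⟨a, ha, ?_, hQR⟩
      have hxa : x * a * x⁻¹ ∈ (P : Subgroup G) :=
        (mem_normalizer_iff.1 (Sylow.smul_eq_iff_mem_normalizer.1 hP) a).1 ha
      have := hfree P Q hQP (a⁻¹ * (x * a * x⁻¹)) (mul_mem (inv_mem ha) hxa) (by
        rw [mul_smul, mul_smul, mul_smul, show x⁻¹ • Q = Q by rw [inv_smul_eq_iff, hQ], hQR, hR,
          inv_smul_eq_iff]
        exact hQR.symm)
      exact (mul_inv_eq_iff_eq_mul.1 (inv_mul_eq_one.1 this).symm).symm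
    obtain ⟨P₀, hP₀, hP₀S⟩ : ∃ P : Sylow 2 G, x • P = P ∧ P ≠ S := by
      by_contra hno
      push Not at hno
      have hone : Nat.card (MulAction.fixedPoints (zpowers x) (Sylow 2 G)) = 1 :=
        Nat.card_eq_one_iff_exists.2 ⟨⟨S, (hfx S).2 hxS⟩,
          fun P => Subtype.ext (hno P.1 ((hfx _).1 P.2))⟩
      rw [hone, hneq, hqdef, hk] at hmod
      have : r ∣ 2 ^ (k : ℕ) := (Nat.modEq_zero_iff_dvd).1 (Nat.ModEq.add_right_cancel' 1 (by simpa using hmod))
      exact hm.ne_two ((Nat.prime_dvd_prime_iff_eq hm.prime Nat.prime_two).1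
        (hm.prime.dvd_of_dvd_pow this))
    set A := (S : Subgroup G) ⊓ centralizer ({x} : Set G) with hA
    have hfixA : ∀ a ∈ A, x • (a • P₀) = a • P₀ := fun a ha => by
      rw [← mul_smul, ← mem_centralizer_singleton_iff.1 ha.2, mul_smul, hP₀]
    have hAfix : Nat.card (MulAction.fixedPoints (zpowers x) (Sylow 2 G)) = Nat.card A + 1 := by
      have hset : MulAction.fixedPoints (zpowers x) (Sylow 2 G) =
          insert S ((fun a : A => (a : G) • P₀) '' Set.univ) := by
        ext P
        rw [hfx, Set.mem_insert_iff, Set.image_univ, Set.mem_range]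
        constructor
        · intro hP
          by_cases hPS : P = S
          · exact Or.inl hPS
          obtain ⟨a, ha, hc, he⟩ := horb S P₀ P hxS hP₀ hP hP₀S hPS
          exact Or.inr ⟨⟨a, ha, mem_centralizer_singleton_iff.2 hc.eq⟩, he⟩
        · rintro (rfl | ⟨a, rfl⟩)
          · exact hxS
          · exact hfixA a a.2
      have hinj : Function.Injective fun a : A => (a : G) • P₀ := fun a b h => by
        have := hfree S P₀ hP₀S ((b : G)⁻¹ * a) (mul_mem (inv_mem b.2.1) a.2.1)
          (by rw [mul_smul]; exact inv_smul_eq_iff.2 h)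
        exact Subtype.ext (inv_mul_eq_one.1 this).symm
      have hnot : S ∉ (fun a : A => (a : G) • P₀) '' Set.univ := by
        rintro ⟨a, -, ha⟩
        have hfix : (a : G) • S = S := Sylow.smul_eq_iff_mem_normalizer.2 (le_normalizer a.2.1)
        exact hP₀S (smul_left_cancel (a : G) (ha.trans hfix.symm))
      rw [Nat.card_coe_set_eq, hset, Set.ncard_insert_of_notMem hnot,
        Set.ncard_image_of_injective _ hinj, Set.ncard_univ]
    have hAS : A < (S : Subgroup G) := by
      refine lt_of_le_of_ne inf_le_left fun hAeq => hx1 (eq_one_of_fix L hC S ?_ fun P => ?_)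
      · intro hLN
        have hsub : ((S : Subgroup G).subgroupOf L).Normal := normal_subgroupOf_iff hSL |>.2
          fun h k hh hk => (mem_normalizer_iff.1 (hLN hk) h).1 hh
        rcases hsub.eq_bot_or_eq_top with h | h
        · have hb := disjoint_iff.1 (subgroupOf_eq_bot.1 h)
          rw [inf_of_le_left hSL] at hb
          exact hz₀1 (mem_bot.1 (hb ▸ hz₀))
        · have hLS := subgroupOf_eq_top.1 h
          have := Subgroup.card_le_of_le hLS
          rw [hcard, hSq] at this
          have h9 : 3 * 5 ≤ (q - 1) * (q + 1) := Nat.mul_le_mul (by omega) (by omega)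
          nlinarith
      · by_cases hPS : P = S
        · rw [hPS, hxS]
        obtain ⟨a, ha, he⟩ := hreg S P₀ P hP₀S hPS
        rw [← he, hfixA a (hAeq.symm ▸ ha)]
    -- the fixed points form an orbit of the centraliser
    set H := L ⊓ centralizer ({x} : Set G) with hH
    obtain ⟨b, hbP, hbx, hb1⟩ : ∃ b ∈ (P₀ : Subgroup G), Commute b x ∧ b ≠ 1 := by
      have hzA : z ∈ A := ⟨hz, mem_centralizer_singleton_iff.2 hzx.eq⟩
      obtain ⟨b, hb, hbx, he⟩ := horb P₀ S (z • P₀) hP₀ hxS (hfixA z hzA) (Ne.symm hP₀S)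
        (fun h => hz1 (hfree S P₀ hP₀S z hz h))
      refine ⟨b, hb, hbx, fun hb' => ?_⟩
      rw [hb', one_smul] at he
      have hfix : z • S = S := Sylow.smul_eq_iff_mem_normalizer.2 (le_normalizer hz)
      exact hP₀S (smul_left_cancel z (he.symm.trans hfix.symm))
    have hbS : x • (b • S) = b • S := by rw [← mul_smul, ← hbx.eq, mul_smul, hxS]
    have hbne : b • S ≠ S := fun h => hb1 (hfree P₀ S (Ne.symm hP₀S) b hbP h)
    have horbit : MulAction.fixedPoints (zpowers x) (Sylow 2 G) = MulAction.orbit H P₀ := by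
      ext P
      rw [hfx]
      constructor
      · intro hP
        by_cases hPS : P = S
        · obtain ⟨a, ha, hax, he⟩ := horb S P₀ (b • S) hxS hP₀ hbS hP₀S hbne
          refine ⟨⟨b⁻¹ * a, Subgroup.mul_mem _ (Subgroup.inv_mem _ (hall P₀ hbP)) (hSL ha),
            mem_centralizer_singleton_iff.2 (hbx.inv_left.mul_left hax).eq⟩, ?_⟩
          show (b⁻¹ * a) • P₀ = P
          rw [mul_smul, he, inv_smul_smul, hPS]
        · obtain ⟨a, ha, hax, he⟩ := horb S P₀ P hxS hP₀ hP hP₀S hPS
          exact ⟨⟨a, hSL ha, mem_centralizer_singleton_iff.2 hax.eq⟩, he⟩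
      · rintro ⟨h, rfl⟩
        show x • ((h : G) • P₀) = (h : G) • P₀
        rw [← mul_smul, ← mem_centralizer_singleton_iff.1 h.2.2, mul_smul, hP₀]
    have hdvdH : Nat.card A + 1 ∣ Nat.card H := by
      rw [← hAfix, horbit, Nat.card_congr (MulAction.orbitEquivQuotientStabilizer H P₀)]
      exact card_quotient_dvd_card _
    have hAeven : 2 ∣ Nat.card A := by
      have := Subgroup.orderOf_dvd_natCard A (x := z) ⟨hz, mem_centralizer_singleton_iff.2 hzx.eq⟩
      rwa [hm.orderOf_two S.2 hz hz1] at this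
    obtain ⟨l, hl, hldvd⟩ := Nat.exists_prime_and_dvd (show Nat.card A + 1 ≠ 1 by
      have := Nat.card_pos (α := A); omega)
    haveI := Fact.mk hl
    obtain ⟨y, hy⟩ := exists_prime_orderOf_dvd_card' (G := H) l (hldvd.trans hdvdH)
    have hlr : l = r := by
      rcases hm.prime_of_commute_r hxr hl (by rw [Subgroup.orderOf_coe]; exact hy)
        (show Commute x (y : G) from (mem_centralizer_singleton_iff.1 y.2.2).symm) with h | h
      · exfalso
        rw [h] at hldvd
        omega
      · exact h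
    rw [hlr] at hldvd
    have hrq : r ∣ q + 1 := by
      rw [hAfix, hneq] at hmod
      exact hmod.dvd_iff dvd_rfl |>.2 hldvd
    obtain ⟨w, hw⟩ := CfsgLib.LocalEven.Spectrum.psl_exists (F := F) 2 (q + 1)
      (Or.inr (Or.inr (by rw [hg1, Nat.div_one]; rfl)))
    have hwo : orderOf ((e.symm w : L) : G) = q + 1 := by
      rw [Subgroup.orderOf_coe, MulEquiv.orderOf_eq, hw]
    rcases hm.odd _ (hwo ▸ hrq) with h | h <;> rw [hwo] at h
    · have hlt : Nat.card A < q := hSq ▸ Set.Finite.card_lt_card (Set.toFinite _) hAS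
      have := Nat.le_of_dvd (by omega) hldvd
      omega
    · exact absurd ⟨r, h⟩ hq1odd.not_two_dvd_nat
  have hcent : ∀ z ∈ (S : Subgroup G), z ≠ 1 → centralizer ({z} : Set G) ≤ (S : Subgroup G) :=
    fun z hz hz1 => le_sylow_of_sq S
      (fun y hy => hm.sq_of_no_odd (fun w hw hwo => hodd z hz hz1 w hwo
        (mem_centralizer_singleton_iff.1 hw).symm) hy)
      fun y hy => mem_centralizer_singleton_iff.2 (hScomm y hy z hz)
  have hLN : Nat.card (L ⊓ N : Subgroup G) = (q - 1) * q := by rw [hd, hdeq, mul_comm]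
  have hNL : N ≤ L := by
    have hle : Nat.card N ≤ Nat.card (L ⊓ N : Subgroup G) := by
      rw [hLN]
      refine (card_le_mul_stab le_rfl hz₀ hz₀1).trans ?_
      rw [hSq]
      exact Nat.mul_le_mul_left _ (hSq ▸ Subgroup.card_le_of_le (inf_le_right.trans (hcent z₀ hz₀ hz₀1)))
    exact inf_eq_right.1 (eq_of_le_of_card_ge inf_le_right hle)
  refine ⟨top_le_iff.1 ((Sylow.normalizer_sup_eq_top' S hSL).ge.trans (sup_le hNL le_rfl)), hcent, ?_⟩
  rw [← inf_eq_right.2 hNL, hLN]
  exact dvd_mul_right _ _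

end CharTwo

/-- With a four-group whose centraliser has no odd part a normal subgroup containing a rotation is
everything. -/
theorem eq_top_of_rot (hm : RMixed G r) (P : Sylow 2 G) [hP : IsKleinFour ↥(P : Subgroup G)]
    (L : Subgroup G) [L.Normal] (hPL : (P : Subgroup G) ≤ L) {t ρ : G}
    (hrot : Rot (P : Subgroup G) t ρ) (hρ : ρ ∈ L)
    (hD : ∀ y, Odd (orderOf y) → y ∈ centralizer ((P : Subgroup G) : Set G) → y = 1) : L = ⊤ := by
  haveI : Fact (Nat.Prime 2) := ⟨Nat.prime_two⟩
  set V : Subgroup G := (P : Subgroup G) with hV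
  have ht1 : t ≠ 1 := fun e => by simpa [e] using hrot.two
  have hNL : normalizer (V : Set G) ≤ L := by
    intro n hn
    obtain ⟨g, hg, hgN, hgt⟩ : ∃ g ∈ L, g ∈ normalizer (V : Set G) ∧
        n * t * n⁻¹ = g * t * g⁻¹ := by
      rcases hrot.cases ((mem_normalizer_iff.1 hn t).1 hrot.mem) with e | e | e | e
      · exact absurd (conj_eq_one_iff.1 e) ht1
      · exact ⟨1, one_mem _, one_mem _, by rw [e]; group⟩
      · exact ⟨ρ, hρ, hrot.mem_normalizer, e⟩
      · refine ⟨ρ * ρ, mul_mem hρ hρ, mul_mem hrot.mem_normalizer hrot.mem_normalizer, ?_⟩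
        rw [e, ← hrot.cycle]; group
    have hmN : g⁻¹ * n ∈ normalizer (V : Set G) := mul_mem (inv_mem hgN) hn
    have hmt : Commute t (g⁻¹ * n) := by
      show t * (g⁻¹ * n) = g⁻¹ * n * t
      calc t * (g⁻¹ * n) = g⁻¹ * (g * t * g⁻¹) * n := by group
        _ = g⁻¹ * n * t := by rw [← hgt]; group
    have hmV : g⁻¹ * n ∈ centralizer (V : Set G) := by
      refine mem_centralizer_iff.2 fun v hv => (by_contra fun hne => ?_)
      obtain ⟨t₀, ρ₀, hR₀, hρ₀⟩ := exists_rot hm P (fun w hw => (mem_normalizer_iff.1 hmN w).1 hw)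
        (fun h => hne (h v hv).eq.symm)
      exact hR₀.not_commute hrot.mem ht1 (mem_centralizer_singleton_iff.1
        (zpowers_le.2 (mem_centralizer_singleton_iff.2 hmt.symm.eq) hρ₀))
    have hmem : g⁻¹ * n ∈ V := le_sylow_of_sq P
      (fun y hy => hm.sq_of_no_odd (fun w hw hwo => hD w hwo hw) hy)
      (fun v hv => mem_centralizer_iff.2 fun w hw => (four_comm hw hv).eq) hmV
    have := mul_mem hg (hPL hmem)
    rwa [mul_inv_cancel_left] at this
  exact top_le_iff.1 ((Sylow.normalizer_sup_eq_top' P hPL).ge.trans (sup_le hNL le_rfl))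

/-- A solvable normal subgroup of a normal subgroup is trivial when the cores are trivial. -/
theorem eq_bot_of_solvable (hO2 : Cfsg.pCore 2 G = ⊥) (hO : Cfsg.pPrimeCore 2 G = ⊥)
    (L : Subgroup G) [L.Normal] (A : Subgroup L) [A.Normal] [Group.IsSolvable A] : A = ⊥ := by
  by_contra hA
  haveI : Nontrivial A := (nontrivial_iff_ne_bot A).2 hA
  obtain ⟨p, hp, hne⟩ := CfsgLib.OddOrder.SigmaConjugate.exists_pCore_ne_bot (H := A)
  haveI := Fact.mk hp
  have hG : Cfsg.pCore p G = ⊥ := by
    by_cases h2 : p = 2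
    · rw [h2]; exact hO2
    · exact le_bot_iff.1 ((CfsgLib.Solvable.Cores.pCore_le_pPrimeCore Nat.prime_two h2).trans hO.le)
  have hLb : Cfsg.pCore p L = ⊥ := (map_eq_bot_iff_of_injective _ L.subtype_injective).1
    (le_bot_iff.1 ((CfsgLib.Solvable.Cores.map_pCore_le p L).trans hG.le))
  exact hne ((map_eq_bot_iff_of_injective _ A.subtype_injective).1
    (le_bot_iff.1 ((CfsgLib.Solvable.Cores.map_pCore_le p A).trans hLb.le)))

theorem RMixed.centralizer_eq_bot (hm : RMixed G r) (hO2 : Cfsg.pCore 2 G = ⊥)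
    (hO : Cfsg.pPrimeCore 2 G = ⊥) (L : Subgroup G) [L.Normal] {z : G} (hz : z ∈ L)
    (hz2 : orderOf z = 2) : centralizer (L : Set G) = ⊥ := by
  haveI := hm.solvable_centralizer hz2
  have hle : centralizer (L : Set G) ≤ centralizer ({z} : Set G) :=
    centralizer_le (Set.singleton_subset_iff.2 hz)
  haveI : Group.IsSolvable (centralizer (L : Set G)) :=
    Group.isSolvable_of_isSolvable_injective (f := Subgroup.inclusion hle) (inclusion_injective hle)
  haveI : ((centralizer (L : Set G)).subgroupOf ⊤).Normal := inferInstance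
  haveI : Group.IsSolvable ((centralizer (L : Set G)).subgroupOf ⊤) :=
    Group.isSolvable_of_isSolvable_injective (f := (subgroupOfEquivOfLe (le_top : centralizer (L : Set G) ≤ ⊤)).toMonoidHom)
      (MulEquiv.injective _)
  have h := eq_bot_of_solvable hO2 hO ⊤ ((centralizer (L : Set G)).subgroupOf ⊤)
  exact le_bot_iff.1 fun y hy => subgroupOf_eq_bot.1 h |> fun d => disjoint_iff.1 d ▸ ⟨hy, mem_top y⟩

/-- With trivial cores there is a normal simple subgroup with trivial centraliser. -/
theorem exists_simple_normal (hm : RMixed G r) (hns : ¬ Group.IsSolvable G)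
    (hO2 : Cfsg.pCore 2 G = ⊥) (hO : Cfsg.pPrimeCore 2 G = ⊥) :
    ∃ L : Subgroup G, L.Normal ∧ IsSimpleGroup L ∧ ¬ Group.IsSolvable L ∧
      centralizer (L : Set G) = ⊥ := by
  classical
  haveI : Fact (Nat.Prime 2) := ⟨Nat.prime_two⟩
  haveI : Nontrivial G := not_subsingleton_iff_nontrivial.1 fun _ => hns inferInstance
  obtain ⟨L, -, ⟨hLn, hLne⟩, hLmin⟩ := (Set.toFinite {L : Subgroup G | L.Normal ∧ L ≠ ⊥}).exists_le_minimal
    (show (⊤ : Subgroup G) ∈ {L : Subgroup G | L.Normal ∧ L ≠ ⊥} from ⟨inferInstance, top_ne_bot⟩)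
  haveI := hLn
  haveI : Nontrivial L := (nontrivial_iff_ne_bot L).2 hLne
  obtain ⟨M, -, ⟨hMn, hMne⟩, hMmin⟩ :=
    (Set.toFinite {M : Subgroup L | M.Normal ∧ M ≠ ⊥}).exists_le_minimal
      (show (⊤ : Subgroup L) ∈ {M : Subgroup L | M.Normal ∧ M ≠ ⊥} from ⟨inferInstance, top_ne_bot⟩)
  haveI := hMn
  have hMns : ¬ Group.IsSolvable M := fun _ => hMne (eq_bot_of_solvable hO2 hO L M)
  obtain ⟨z, hz⟩ : ∃ z : M, orderOf z = 2 := by
    refine exists_prime_orderOf_dvd_card' 2 ?_
    by_contra h2
    exact hMns (CfsgLib.OddOrder.Final.oddSolvable M (Nat.not_even_iff_odd.1 fun e => h2 e.two_dvd))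
  have hzo : orderOf ((z : L) : G) = 2 := by rw [Subgroup.orderOf_coe, Subgroup.orderOf_coe, hz]
  have hCM : centralizer (M : Set L) = ⊥ := by
    haveI := hm.solvable_centralizer hzo
    have hle : (centralizer (M : Set L)).map L.subtype ≤ centralizer ({((z : L) : G)} : Set G) := by
      rintro _ ⟨y, hy, rfl⟩
      exact mem_centralizer_singleton_iff.2 (congrArg Subtype.val (mem_centralizer_iff.1 hy z z.2)).symm
    haveI : Group.IsSolvable ((centralizer (M : Set L)).map L.subtype) :=
      Group.isSolvable_of_isSolvable_injective (f := Subgroup.inclusion hle) (inclusion_injective hle)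
    haveI : Group.IsSolvable (centralizer (M : Set L)) :=
      Group.isSolvable_of_isSolvable_injective
        (f := (equivMapOfInjective (centralizer (M : Set L)) L.subtype L.subtype_injective).toMonoidHom)
        (MulEquiv.injective _)
    exact eq_bot_of_solvable hO2 hO L (centralizer (M : Set L))
  have huniq : ∀ M' : Subgroup L, M'.Normal → M' ≠ ⊥ → M ≤ M' := by
    intro M' hM' hne
    by_cases h : M ⊓ M' = ⊥
    · exfalso
      refine hne (le_bot_iff.1 (hCM ▸ fun y hy => mem_centralizer_iff.2 fun w hw => ?_))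
      exact commute_of_normal_of_disjoint M M' hMn hM' (disjoint_iff.2 h) w y hw hy
    · haveI := hM'
      exact (hMmin (show M ⊓ M' ∈ {M : Subgroup L | M.Normal ∧ M ≠ ⊥} from ⟨inferInstance, h⟩)
        inf_le_left).trans inf_le_right
  have hMG : (M.map L.subtype).Normal := by
    refine ⟨fun y hy g => ?_⟩
    obtain ⟨y, hy, rfl⟩ := hy
    let c : L ≃* L := MulAut.conjNormal g
    have hM' : (M.comap c.toMonoidHom).Normal := hMn.comap _
    have hne : M.comap c.toMonoidHom ≠ ⊥ := fun e => hMne (by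
      rw [← map_comap_eq_self_of_surjective (f := c.toMonoidHom) c.surjective M, e, Subgroup.map_bot])
    exact ⟨c y, huniq _ hM' hne hy, MulAut.conjNormal_apply g y⟩
  have hLM : L ≤ M.map L.subtype := hLmin
    (show M.map L.subtype ∈ {L : Subgroup G | L.Normal ∧ L ≠ ⊥} from
      ⟨hMG, fun e => hMne ((map_eq_bot_iff_of_injective _ L.subtype_injective).1 e)⟩)
    (map_subtype_le M)
  have hMtop : M = ⊤ := top_le_iff.1 fun y _ => by
    obtain ⟨y', hy', e⟩ := hLM y.2
    rwa [← L.subtype_injective e]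
  have hLns : ¬ Group.IsSolvable L := fun _ => hMns inferInstance
  refine ⟨L, hLn, ⟨fun H hH => ?_⟩, hLns,
    hm.centralizer_eq_bot hO2 hO L (z : L).2 hzo⟩
  by_cases hH1 : H = ⊥
  · exact Or.inl hH1
  · exact Or.inr (top_le_iff.1 (hMtop ▸ huniq H hH hH1))

end CfsgLib.Recognition.SparseOrders
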